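import Cfsg.Agent.Ru127.Y
import Cfsg.Agent.RuE.Final

/-!
# The relations of the Rudvalis group for every finite `Core`
-/

set_option autoImplicit false

namespace Cfsg.Agent.Ru127.Bridge

open Cfsg.Agent.RuB Cfsg.Agent.RuB.Core Cfsg.Agent.Ru127.Sg Cfsg.Agent.RuE.Hyp

variable {G : Type*} [Group G] {C : Core G}

theorem pow_sixteen : ∀ a : K8, (a ^ 4) ^ 4 = a ^ 2 := by decide +kernel

/-- helper31's form of the relation between `s` and `w` -/
theorem rel_of (hw : (C.R.w : G) * (C.U 1 0)⁻¹ * (C.R.w : G) * C.U 1 0 = C.z 1 * (C.R.w : G)) : Sg.Rel C := by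
  unfold Sg.Rel
  have h1 : s C = (C.U 1 0)⁻¹ := by rw [← s_inv, inv_inv]
  rw [h1, inv_inv]
  exact hw

theorem sHyp (hw : (C.R.w : G) * (C.U 1 0)⁻¹ * (C.R.w : G) * C.U 1 0 = C.z 1 * (C.R.w : G)) {σ : G}
    (h : IsSigma C σ) : SHyp C (σ * σ) where
  hw := hw
  s3 := by
    calc σ * σ * (σ * σ) * (σ * σ) = (σ * σ * σ) * (σ * σ * σ) := by simp only [mul_assoc]
      _ = 1 := by rw [h.cube, one_mul]
  sv := by
    intro a
    calc σ * σ * C.v a * (σ * σ)⁻¹ = σ * (σ * C.v a * σ⁻¹) * σ⁻¹ := by group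
      _ = C.v (rho (rho a)) := by rw [h.v, h.v]
      _ = _ := by
        congr 1
        revert a
        decide
  sU := by
    intro a b
    calc σ * σ * C.U a b * (σ * σ)⁻¹ = σ * (σ * C.U a b * σ⁻¹) * σ⁻¹ := by group
      _ = _ := by rw [h.U, h.U, pow_sixteen, pow_sixteen]
  sk := by
    intro k
    calc σ * σ * C.dk k * (σ * σ)⁻¹ = σ * (σ * C.dk k * σ⁻¹) * σ⁻¹ := by group
      _ = _ := by
        rw [h.dk, h.dk]
        congr 1
        apply Units.ext
        rw [Units.val_pow_eq_pow_val, Units.val_pow_eq_pow_val, Units.val_pow_eq_pow_val, pow_sixteen]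
  sw := by
    have h1 : Commute σ (C.R.w : G) := h.w
    exact mul_inv_eq_iff_eq_mul.2 (h1.mul_left h1).eq

theorem yHyp {σ y : G} (h : IsY C σ y) : YHyp C y where
  y2 := h.sq
  yv := by
    have := h.tv
    simp only [mul_assoc] at this ⊢
    exact this
  yU := by
    have h1 : C.U 1 0 = (s C)⁻¹ := s_inv.symm
    rw [h1]
    exact ((show Commute y (s C) from h.s).inv_right).eq
  yw := h.w
  yz := by
    intro b
    have h1 := h.Q b
    rwa [inv_eq_of_mul_eq_one_left h.sq] at h1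
  yzz := by
    intro b b' hb
    apply h.inter b b'
    rw [inv_eq_of_mul_eq_one_left h.sq]
    exact hb

theorem sig {σ y : G} (h : IsY C σ y) : y * (σ * σ) * (y * (σ * σ)) = 1 := by
  have h1 : σ * y * σ = y := by
    have h2 := h.sig
    have h3 : y * (σ * y * σ) = y * y := by
      rw [h.sq]
      simp only [mul_assoc] at h2 ⊢
      exact h2
    exact mul_left_cancel h3
  calc y * (σ * σ) * (y * (σ * σ)) = y * σ * (σ * y * σ) * σ := by simp only [mul_assoc]
    _ = y * σ * y * σ := by rw [h1]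
    _ = 1 := h.sig

/-- all relations of `RuRelsX` -/
theorem exists_ruRelsX [Finite G] (C : Core G)
    (hw : (C.R.w : G) * (C.U 1 0)⁻¹ * (C.R.w : G) * C.U 1 0 = C.z 1 * (C.R.w : G)) :
    ∃ σ y : G, SHyp C σ ∧ YHyp C y ∧ y * σ * (y * σ) = 1 ∧
      Cfsg.Agent.RuD.Rels.RuRelsX (C.v (1, 0)) (C.U 1 1) (C.R.w : G) (C.dk Cfsg.Agent.RuE.Letters.k0) σ y := by
  obtain ⟨σ, y, hσ, hy⟩ := exists_letters C (rel_of hw)
  obtain ⟨K, hν, hμ, -, hcz⟩ := exists_localData C
  exact ⟨σ * σ, y, sHyp hw hσ, yHyp hy, sig hy,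
    Cfsg.Agent.RuE.Final.ruRelsX (sHyp hw hσ) (yHyp hy) (sig hy) K hν hμ hcz⟩

end Cfsg.Agent.Ru127.Bridge
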