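import Cfsg.Agent.Ru127.Form
import Cfsg.Agent.RuB.K8

/-! The concrete form `q(v,a,c) = (5 + emb v) c + a^5 + 7 a² c²` on `A4 × K8 × K8`. -/

set_option autoImplicit false

namespace Cfsg.Agent.Ru127.Inst

open Cfsg.Agent.Ru127.Form Cfsg.Agent.RuB

abbrev W8 := A4 × K8 × K8

/-- the quadratic map -/
def q8 (x : W8) : K8 :=
  (⟨5⟩ + emb x.1) * x.2.2 + x.2.1 ^ 5 + (⟨7⟩ : K8) * (x.2.1 ^ 2 * x.2.2 ^ 2)

/-- its polarisation -/
def b8 (x y : W8) : K8 :=
  emb x.1 * y.2.2 + emb y.1 * x.2.2 + (x.2.1 ^ 4 * y.2.1 + x.2.1 * y.2.1 ^ 4) +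
    (⟨7⟩ : K8) * (x.2.1 ^ 2 * y.2.2 ^ 2 + y.2.1 ^ 2 * x.2.2 ^ 2)

theorem q8_add (x y : W8) : q8 (x + y) = q8 x + q8 y + b8 x y := by
  obtain ⟨v, a, c⟩ := x
  obtain ⟨v', a', c'⟩ := y
  simp only [q8, b8, Prod.fst_add, Prod.snd_add, Prod.mk_add_mk, emb_add]
  linear_combination (2 * a ^ 4 * a' + 5 * a ^ 3 * a' ^ 2 + 5 * a ^ 2 * a' ^ 3 + 2 * a * a' ^ 4 +
    (⟨7⟩ : K8) * (c * c' * (a ^ 2 + a' ^ 2) + a * a' * (c ^ 2 + c' ^ 2) + 2 * a * a' * c * c')) *
    K8.two_eq

theorem b8_add (x y z : W8) : b8 x (y + z) = b8 x y + b8 x z := by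
  obtain ⟨v, a, c⟩ := x
  obtain ⟨v', a', c'⟩ := y
  obtain ⟨v'', a'', c''⟩ := z
  simp only [b8, Prod.fst_add, Prod.snd_add, Prod.mk_add_mk, emb_add]
  linear_combination (a * (2 * a' ^ 3 * a'' + 3 * a' ^ 2 * a'' ^ 2 + 2 * a' * a'' ^ 3) +
    (⟨7⟩ : K8) * (a ^ 2 * c' * c'' + a' * a'' * c ^ 2)) * K8.two_eq

theorem b8_symm (x y : W8) : b8 x y = b8 y x := by
  simp only [b8]; ring

/-! ### codes -/

def code (x : W8) : ℕ := x.1.1.val + 2 * x.1.2.val + 4 * x.2.1.val.val + 32 * x.2.2.val.val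

def qTab : ℕ := 854589238933622284243657607101929520975533129994885390456393286408457997409659485043741062134091187092956073616563013267090248878339783032581252570925550536180002803048974609390663354783031394727724415842179657205023632431427915776

def qN (n : ℕ) : ℕ := (qTab >>> (3 * n)) % 8

def tMask : ℕ := 70675608501678808488968761803698859222054739740463087952376478430520147982

def inT (n : ℕ) : Bool := (tMask >>> n) % 2 == 1

def bN (m n : ℕ) : ℕ := (qN (m ^^^ n) ^^^ qN m) ^^^ qN n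

def sTab : ℕ := 24965982097917674566501283941409329904623584850648093560360287104513803809821483652453964846065316654600791515312450363803092851380989788797295765008246597759264124151117337238061873901508097186964970404326141023889762025054413615871756240559223305295577668109932091201363843783963462937107374886078662213396689719835595705903680970240711054739126497307769509463399115902082940798992965795561631462968651110652930241204956920996182079777934087121539423091416690408591046379124474869435507569868161284715902591312547848314513565501956559994424731594186100621455793589200024698089083297790664959281113454480504486232320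

def pL : List ℕ := [1, 43, 54, 61, 73, 91, 101, 106]
def rL : List ℕ := [2, 205, 135, 82, 158, 174, 191, 153]

def pN (i : Fin 8) : ℕ := pL.getD i.1 0
def rN (i : Fin 8) : ℕ := rL.getD i.1 0

theorem code_lt : ∀ x : W8, code x < 256 := by decide +kernel

theorem code_q : ∀ x : W8, (q8 x).val.val = qN (code x) := by decide +kernel

theorem code_add : ∀ x y : W8, code (x + y) = code x ^^^ code y := by decide +kernel

theorem code_zero : ∀ x : W8, code x = 0 → x = 0 := by decide +kernel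

theorem two_W8 : ∀ x : W8, x + x = 0 := by decide +kernel

theorem code_inj {x y : W8} (h : code x = code y) : x = y := by
  have h1 : code (x + y) = 0 := by rw [code_add, h, Nat.xor_self]
  have h2 := code_zero _ h1
  have h3 := two_W8 y
  exact add_right_cancel (h2.trans h3.symm)

theorem code_eq_zero {x : W8} : code x = 0 ↔ x = 0 :=
  ⟨code_zero x, fun h => by rw [h]; rfl⟩

/-- decoding -/
def decode (n : ℕ) : W8 :=
  (((n % 2 : ℕ), (n / 2 % 2 : ℕ)), ⟨⟨n / 4 % 8, Nat.mod_lt _ (by norm_num)⟩⟩,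
    ⟨⟨n / 32 % 8, Nat.mod_lt _ (by norm_num)⟩⟩)

theorem code_decode : ∀ n : Fin 256, code (decode n.1) = n.1 := by decide +kernel

theorem K8_add_val : ∀ a b : K8, (a + b).val.val = a.val.val ^^^ b.val.val := by decide +kernel

theorem K8_val_inj {a b : K8} (h : a.val.val = b.val.val) : a = b := by
  cases a; cases b; congr 1; exact Fin.ext h

theorem b8_eq (x y : W8) : b8 x y = q8 (x + y) + q8 x + q8 y := by
  rw [q8_add]
  have h1 := K8.add_self (q8 x)
  have h2 := K8.add_self (q8 y)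
  linear_combination (-1 : K8) * h1 - h2

theorem code_b (x y : W8) : (b8 x y).val.val = bN (code x) (code y) := by
  rw [b8_eq, K8_add_val, K8_add_val, code_q, code_q, code_q, code_add, bN]

/-! ### planes -/

theorem pr_lt : ∀ i : Fin 8, pN i < 256 ∧ rN i < 256 := by decide +kernel

theorem xor4 (p r a b : ℕ) (ha : a = 0 ∨ a = p ∨ a = r ∨ a = p ^^^ r)
    (hb : b = 0 ∨ b = p ∨ b = r ∨ b = p ^^^ r) :
    a ^^^ b = 0 ∨ a ^^^ b = p ∨ a ^^^ b = r ∨ a ^^^ b = p ^^^ r := by
  have e1 : p ^^^ (p ^^^ r) = r := by rw [← Nat.xor_assoc, Nat.xor_self, Nat.zero_xor]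
  have e2 : r ^^^ (p ^^^ r) = p := by
    rw [Nat.xor_comm p r, ← Nat.xor_assoc, Nat.xor_self, Nat.zero_xor]
  have e3 : (p ^^^ r) ^^^ p = r := by rw [Nat.xor_comm, e1]
  have e4 : (p ^^^ r) ^^^ r = p := by rw [Nat.xor_comm, e2]
  rcases ha with rfl | rfl | rfl | rfl <;> rcases hb with rfl | rfl | rfl | rfl <;>
    simp [e1, e2, e3, e4, Nat.xor_comm]

/-- the planes -/
def V8 (i : Fin 8) : AddSubgroup W8 where
  carrier := {x | code x = 0 ∨ code x = pN i ∨ code x = rN i ∨ code x = pN i ^^^ rN i}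
  add_mem' := by
    intro x y hx hy
    show _ ∨ _ ∨ _ ∨ _
    rw [code_add]
    exact xor4 _ _ _ _ hx hy
  zero_mem' := Or.inl rfl
  neg_mem' := by
    intro x hx
    have : -x = x := by rw [neg_eq_iff_add_eq_zero]; exact two_W8 x
    rw [this]; exact hx

instance (i : Fin 8) (x : W8) : Decidable (x ∈ V8 i) :=
  inferInstanceAs (Decidable (code x = 0 ∨ code x = pN i ∨ code x = rN i ∨
    code x = pN i ^^^ rN i))

theorem T_iff : ∀ x : W8, (x ≠ 0 ∧ ∃ i, x ∈ V8 i) ↔ inT (code x) = true := by decide +kernel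

theorem V_iff (x : W8) : (∃ i, x ∈ V8 i) ↔ (code x = 0 ∨ inT (code x) = true) := by
  rw [← T_iff, code_eq_zero]
  constructor
  · intro h
    by_cases hx : x = 0
    · exact Or.inl hx
    · exact Or.inr ⟨hx, h⟩
  · rintro (h | h)
    · exact ⟨0, by rw [h]; exact (V8 0).zero_mem⟩
    · exact h.2

theorem cardW : Nat.card W8 = 256 := by
  rw [Nat.card_eq_fintype_card]; decide +kernel

theorem cardV (i : Fin 8) : Nat.card (V8 i) = 4 := by
  rw [Nat.card_eq_fintype_card]
  revert i
  decide +kernel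

theorem cardT : Nat.card {x : W8 // x ≠ 0 ∧ ∃ i, x ∈ V8 i} = 24 := by
  rw [Nat.card_eq_fintype_card]
  decide +kernel

theorem q_T : ∀ x : W8, (x ≠ 0 ∧ ∃ i, x ∈ V8 i) → q8 x = 0 := by
  intro x hx
  apply K8_val_inj
  rw [code_q]
  rw [T_iff] at hx
  have h : ∀ n : Fin 256, inT n.1 = true → qN n.1 = 0 := by decide +kernel
  exact h ⟨code x, code_lt x⟩ hx

/-! ### span -/

def basL : List ℕ := [1, 2, 43, 54, 61, 73, 82, 135]

def comb (s : ℕ) (L : List ℕ) : W8 :=
  match L with
  | [] => 0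
  | t :: L => (if s % 2 = 1 then decode t else 0) + comb (s / 2) L

theorem comb_mem (M : AddSubgroup W8) (L : List ℕ) (hL : ∀ t ∈ L, decode t ∈ M) (s : ℕ) :
    comb s L ∈ M := by
  induction L generalizing s with
  | nil => exact M.zero_mem
  | cons t L ih =>
    unfold comb
    apply M.add_mem
    · split
      · exact hL t (by simp)
      · exact M.zero_mem
    · exact ih (fun t ht => hL t (by simp [ht])) _

theorem comb_eq : ∀ x : W8, comb ((sTab >>> (8 * code x)) % 256) basL = x := by decide +kernel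

theorem spanT : AddSubgroup.closure {x : W8 | x ≠ 0 ∧ ∃ i, x ∈ V8 i} = ⊤ := by
  rw [eq_top_iff]
  intro x _
  rw [← comb_eq x]
  apply comb_mem
  intro t ht
  apply AddSubgroup.subset_closure
  show _ ≠ _ ∧ _
  rw [T_iff]
  revert t
  decide +kernel

/-! ### the finite properties -/

def all256 (f : ℕ → Bool) : Bool := (List.range 256).all f

theorem all256_iff {f : ℕ → Bool} (h : all256 f = true) {n : ℕ} (hn : n < 256) : f n = true := by
  unfold all256 at h
  rw [List.all_eq_true] at h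
  exact h n (List.mem_range.2 hn)

def ck1 : Bool := all256 fun m => m == 0 || (List.range 8).all fun f =>
  (List.range 256).any fun n => bN m n == f

theorem ck1_true : ck1 = true := by decide +kernel

def J3L (z : ℕ) : List ℕ :=
  ([[], [115, 138, 249], [122, 165, 223], [85, 187, 238], [45, 198, 235], [94, 151, 201],
    [39, 145, 182], [50, 79, 125]] : List (List ℕ)).getD z []

def tL : List ℕ := (List.range 256).filter inT

def ck2 : Bool := (List.range 8).all fun z => z == 0 || all256 fun j =>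
  qN j != 0 || j == 0 || inT j || (J3L z).contains j ||
    tL.any fun u => bN u j == 0 || bN u j == z

theorem ck2_true : ck2 = true := by decide +kernel

def indep (p q r : ℕ) : Bool :=
  p != 0 && q != 0 && r != 0 && p != q && p != r && q != r && (p ^^^ q ^^^ r) != 0

def ck3 : Bool := tL.all fun d => all256 fun x =>
  x == 0 || inT x || bN d x != 0 || all256 fun y =>
    y == 0 || x == y || inT y || inT (x ^^^ y) || bN d y != 0 || indep (qN x) (qN y) (qN (x ^^^ y))

theorem ck3_true : ck3 = true := by decide +kernel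

def ck5 : Bool := tL.all fun d => all256 fun x =>
  qN x != 0 || bN d x != 0 || x == 0 || inT x

theorem ck5_true : ck5 = true := by decide +kernel

theorem mem_tL {n : ℕ} (hn : n < 256) (h : inT n = true) : n ∈ tL := by
  unfold tL
  rw [List.mem_filter, List.mem_range]
  exact ⟨hn, h⟩

theorem q1 (u : W8) (hu : u ≠ 0) (f : K8) : ∃ w, b8 u w = f := by
  have h := all256_iff ck1_true (code_lt u)
  rw [Bool.or_eq_true, beq_iff_eq, code_eq_zero] at h
  have h1 := h.resolve_left hu
  rw [List.all_eq_true] at h1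
  have h2 := h1 f.val.val (List.mem_range.2 f.val.2)
  rw [List.any_eq_true] at h2
  obtain ⟨n, hn, hb⟩ := h2
  rw [List.mem_range] at hn
  refine ⟨decode n, K8_val_inj ?_⟩
  rw [code_b, code_decode ⟨n, hn⟩]
  exact beq_iff_eq.1 hb

theorem q2 (z : K8) (hz : z ≠ 0) : Nat.card {j : W8 // j ≠ 0 ∧ q8 j = 0 ∧ ¬ (∃ i, j ∈ V8 i) ∧
    ∀ u, (b8 u j = 0 ∨ b8 u j = z) → ¬ (u ≠ 0 ∧ ∃ i, u ∈ V8 i)} ≤ 3 := by
  have hmem : ∀ j : W8, (j ≠ 0 ∧ q8 j = 0 ∧ ¬ (∃ i, j ∈ V8 i) ∧
      ∀ u, (b8 u j = 0 ∨ b8 u j = z) → ¬ (u ≠ 0 ∧ ∃ i, u ∈ V8 i)) →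
      code j ∈ (J3L z.val.val).toFinset := by
    rintro j ⟨hj0, hq, hV, hu⟩
    have h := ck2_true
    unfold ck2 at h
    rw [List.all_eq_true] at h
    have h1 := h z.val.val (List.mem_range.2 z.val.2)
    rw [Bool.or_eq_true, beq_iff_eq] at h1
    have hz' : z.val.val ≠ 0 := by
      intro h0
      apply hz
      apply K8_val_inj
      rw [h0]; rfl
    have h2 := all256_iff (h1.resolve_left hz') (code_lt j)
    rw [List.mem_toFinset]
    simp only [Bool.or_eq_true, bne_iff_ne, beq_iff_eq, List.contains_iff_mem,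
      List.any_eq_true] at h2
    rcases h2 with (((h2 | h2) | h2) | h2) | ⟨u, hu1, hu2⟩
    · exfalso; apply h2; rw [← code_q, hq]; rfl
    · exact absurd (code_zero _ h2) hj0
    · exfalso; apply hV; rw [V_iff]; exact Or.inr h2
    · exact h2
    · exfalso
      unfold tL at hu1
      rw [List.mem_filter, List.mem_range] at hu1
      apply hu (decode u)
      · rcases hu2 with hu2 | hu2
        · left; apply K8_val_inj; rw [code_b, code_decode ⟨u, hu1.1⟩]; exact hu2
        · right; apply K8_val_inj; rw [code_b, code_decode ⟨u, hu1.1⟩]; exact hu2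
      · rw [T_iff, code_decode ⟨u, hu1.1⟩]; exact hu1.2
  have hle : Nat.card {j : W8 // j ≠ 0 ∧ q8 j = 0 ∧ ¬ (∃ i, j ∈ V8 i) ∧
    ∀ u, (b8 u j = 0 ∨ b8 u j = z) → ¬ (u ≠ 0 ∧ ∃ i, u ∈ V8 i)} ≤
      Nat.card (J3L z.val.val).toFinset := by
    refine Nat.card_le_card_of_injective (fun j => ⟨code j.1, hmem j.1 j.2⟩) ?_
    intro x y hxy
    have h0 := Subtype.ext_iff.1 hxy
    exact Subtype.ext (code_inj h0)
  refine hle.trans ?_
  rw [Nat.card_eq_fintype_card, Fintype.card_coe]
  have : ∀ n : Fin 8, (J3L n.1).toFinset.card ≤ 3 := by decide +kernel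
  exact this z.val

theorem span3 : ∀ p q r : K8, indep p.val.val q.val.val r.val.val = true → ∀ s : K8,
    s = 0 ∨ s = p ∨ s = q ∨ s = r ∨ s = p + q ∨ s = p + r ∨ s = q + r ∨ s = p + q + r := by
  decide +kernel

theorem q3 (S : AddSubgroup K8) (hS : S ≠ ⊤) (d x y : W8) (hd : d ≠ 0 ∧ ∃ i, d ∈ V8 i)
    (hx : x ≠ 0) (hy : y ≠ 0) (hxy : x ≠ y) (hdx : b8 d x = 0) (hdy : b8 d y = 0)
    (hxV : ¬ (∃ i, x ∈ V8 i)) (hyV : ¬ (∃ i, y ∈ V8 i)) (hxyV : ¬ (∃ i, x + y ∈ V8 i))
    (hqx : q8 x ∈ S) (hqy : q8 y ∈ S) (hqxy : q8 (x + y) ∈ S) : False := by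
  apply hS
  rw [T_iff] at hd
  rw [V_iff, not_or] at hxV hyV hxyV
  have h := ck3_true
  unfold ck3 at h
  rw [List.all_eq_true] at h
  have h1 := all256_iff (h _ (mem_tL (code_lt d) hd)) (code_lt x)
  simp only [Bool.or_eq_true, bne_iff_ne, beq_iff_eq] at h1
  have hbx : bN (code d) (code x) = 0 := by rw [← code_b, hdx]; rfl
  have hby : bN (code d) (code y) = 0 := by rw [← code_b, hdy]; rfl
  have h2 := h1.resolve_left (by
    rintro ((h' | h') | h')
    · exact hxV.1 h'
    · exact hxV.2 h'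
    · exact h' hbx)
  have h3 := all256_iff h2 (code_lt y)
  simp only [Bool.or_eq_true, bne_iff_ne, beq_iff_eq] at h3
  have h4 := h3.resolve_left (by
    rintro ((((h' | h') | h') | h') | h')
    · exact hyV.1 h'
    · exact hxy (code_inj h')
    · exact hyV.2 h'
    · apply hxyV.2; rw [code_add]; exact h'
    · exact h' hby)
  rw [← code_add, ← code_q, ← code_q, ← code_q] at h4
  rw [eq_top_iff]
  intro s _
  rcases span3 _ _ _ h4 s with h | h | h | h | h | h | h | h <;> rw [h]
  · exact S.zero_mem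
  · exact hqx
  · exact hqy
  · exact hqxy
  · exact S.add_mem hqx hqy
  · exact S.add_mem hqx hqxy
  · exact S.add_mem hqy hqxy
  · exact S.add_mem (S.add_mem hqx hqy) hqxy

theorem q5 (d x : W8) (hd : d ≠ 0 ∧ ∃ i, d ∈ V8 i) (hx : q8 x = 0) (hb : b8 d x = 0) :
    ∃ i, x ∈ V8 i := by
  rw [T_iff] at hd
  rw [V_iff]
  have h := ck5_true
  unfold ck5 at h
  rw [List.all_eq_true] at h
  have h1 := all256_iff (h _ (mem_tL (code_lt d) hd)) (code_lt x)
  simp only [Bool.or_eq_true, bne_iff_ne, beq_iff_eq] at h1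
  have hbx : bN (code d) (code x) = 0 := by rw [← code_b, hb]; rfl
  have hqx : qN (code x) = 0 := by rw [← code_q, hx]; rfl
  rcases h1 with ((h1 | h1) | h1) | h1
  · exact absurd hqx h1
  · exact absurd hbx h1
  · exact Or.inl h1
  · exact Or.inr h1

/-- the concrete form data for the Rudvalis group. -/
def R8 : RuForm W8 K8 where
  q := q8
  b := b8
  V := V8
  cardW := cardW
  cardF := K8.natCard
  twoW := two_W8
  twoF := K8.add_self
  q_add := q8_add
  b_add := b8_add
  b_symm := b8_symm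
  cardV := cardV
  cardT := cardT
  spanT := spanT
  q_T := q_T
  q1 := q1
  q2 := q2
  q3 := q3
  q5 := q5

end Cfsg.Agent.Ru127.Inst
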