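import Cfsg.Agent.Ru127.CardD

/-!
# The element `σ` of order 3
-/

set_option autoImplicit false

namespace Cfsg.Agent.Ru127.Sg

open Subgroup Cfsg.Agent.RuB Cfsg.Agent.RuB.Core Cfsg.Agent.RuB.NormZ Cfsg.Agent.RuB.NormQ Cfsg.Agent.RuB.Count
open Cfsg.Agent.Ru127.Form Cfsg.Agent.Ru127.Basic Cfsg.Agent.Ru127.Count Cfsg.Agent.Ru127.NorD
open Cfsg.Agent.Ru127.FixD Cfsg.Agent.Ru127.XiOne Cfsg.Agent.Ru127.Xi Cfsg.Agent.Ru127.CardD

variable {G : Type*} [Group G]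

/-! ### the group `5 : 4` -/

/-- the element of order 4 -/
def s (C : Core G) : G := C.U 1 1

/-- the involution inverting the torus -/
def w (C : Core G) : G := (C.R.w : G)

/-- the element of order 5 -/
def f (C : Core G) : G := C.z 1 * w C

/-- the relation between `s` and `w` -/
def Rel (C : Core G) : Prop := w C * s C * w C * (s C)⁻¹ = C.z 1 * w C

variable {C : Core G}

theorem w_sq : w C * w C = 1 := by
  have h := congrArg Subtype.val C.R.w_mul_w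
  exact h

theorem w_mem : w C ∈ C.L := C.R.w.2

theorem s_mem : s C ∈ C.L := C.U_mem 1 1

theorem f_mem : f C ∈ C.L := mul_mem (C.z_mem 1) w_mem

theorem s_sq : s C * s C = C.z 1 := by
  unfold s
  rw [C.U_sq, one_pow]

theorem s_inv : (s C)⁻¹ = C.U 1 0 := by
  unfold s
  rw [C.U_inv, one_pow, K8.add_self]

theorem w_inv : (w C)⁻¹ = w C := inv_eq_of_mul_eq_one_right w_sq

theorem s_pow_four : s C ^ 4 = 1 := by
  have : s C ^ 4 = (s C * s C) * (s C * s C) := by simp only [pow_succ, pow_zero, one_mul, mul_assoc]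
  rw [this, s_sq, C.z_sq]

theorem w_eq : w C = C.z 1 * f C := by
  unfold f
  rw [← mul_assoc, C.z_sq, one_mul]

theorem z_conj_f : C.z 1 * f C * (C.z 1)⁻¹ = (f C)⁻¹ := by
  unfold f
  rw [mul_inv_rev, w_inv, C.z_inv, ← mul_assoc, C.z_sq, one_mul]

section

variable (hr : Rel C)
include hr

theorem s_conj_w : s C * w C * (s C)⁻¹ = w C * C.z 1 * w C := by
  have h : w C * s C * w C * (s C)⁻¹ = C.z 1 * w C := hr
  calc s C * w C * (s C)⁻¹ = (w C * w C) * (s C * w C * (s C)⁻¹) := by rw [w_sq, one_mul]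
    _ = w C * (w C * s C * w C * (s C)⁻¹) := by group
    _ = w C * C.z 1 * w C := by rw [h]; group

theorem s_conj_f : s C * f C * (s C)⁻¹ = f C * f C := by
  have hsz : s C * C.z 1 = C.z 1 * s C := by rw [← s_sq, mul_assoc]
  calc s C * f C * (s C)⁻¹ = (s C * C.z 1) * w C * (s C)⁻¹ := by unfold f; group
    _ = C.z 1 * (s C * w C * (s C)⁻¹) := by rw [hsz]; group
    _ = f C * f C := by rw [s_conj_w hr]; unfold f; group

theorem f_pow_five : f C ^ 5 = 1 := by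
  have h1 : C.z 1 * f C * (C.z 1)⁻¹ = f C ^ 4 := by
    calc C.z 1 * f C * (C.z 1)⁻¹ = s C * (s C * f C * (s C)⁻¹) * (s C)⁻¹ := by rw [← s_sq]; group
      _ = s C * (f C * f C) * (s C)⁻¹ := by rw [s_conj_f hr]
      _ = (s C * f C * (s C)⁻¹) * (s C * f C * (s C)⁻¹) := by group
      _ = f C ^ 4 := by rw [s_conj_f hr]; simp only [pow_succ, pow_zero, one_mul, mul_assoc]
  rw [z_conj_f] at h1
  calc f C ^ 5 = f C * f C ^ 4 := by rw [← pow_succ']
    _ = 1 := by rw [← h1, mul_inv_cancel]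

theorem f_ne_one : f C ≠ 1 := by
  intro h
  have h1 : w C = C.z 1 := by rw [w_eq, h, mul_one]
  have h2 : C.R.w = C.R.u 0 1 * C.R.d 1 := by
    rw [C.R.d_one, mul_one]; exact Subtype.ext h1
  exact C.R.w_ne 0 1 1 h2

theorem order_f : orderOf (f C) = 5 := by
  have : Fact (Nat.Prime 5) := ⟨by norm_num⟩
  exact orderOf_eq_prime (f_pow_five hr) (f_ne_one hr)

/-- `x ^ 3 = 1` implies `x = 1` in `⟨f⟩` -/
theorem zpow_three {i : ℤ} (h : (f C) ^ (3 * i) = 1) : (f C) ^ i = 1 := by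
  have h5 : (f C) ^ (5 : ℤ) = 1 := by exact_mod_cast f_pow_five hr
  have e : i = (3 * i) * 2 + 5 * (-i) := by ring
  rw [e, zpow_add, zpow_mul _ (3 * i), h, zpow_mul _ 5, h5, one_zpow, one_zpow, one_mul]

theorem zpow_two' {i : ℤ} (h : (f C) ^ (2 * i) = 1) : (f C) ^ i = 1 := by
  have h5 : (f C) ^ (5 : ℤ) = 1 := by exact_mod_cast f_pow_five hr
  have e : i = (2 * i) * 3 + 5 * (-i) := by ring
  rw [e, zpow_add, zpow_mul _ (2 * i), h, zpow_mul _ 5, h5, one_zpow, one_zpow, one_mul]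

/-- an element of order dividing 3 normalising `L` and centralising `f` centralises `s` -/
theorem comm_s [Finite G] {g : G} (hg3 : g * g * g = 1) (hgL : ∀ l, l ∈ C.L → g * l * g⁻¹ ∈ C.L)
    (hgf : g * f C = f C * g) : g * s C = s C * g := by
  have H : Good C (f C) := good_of f_mem (Or.inl (order_f hr))
  have hgfi : g * f C * g⁻¹ = f C := by rw [hgf, mul_inv_cancel_right]
  have h5 : (f C) ^ 5 = 1 := f_pow_five hr
  -- `s⁻¹ f s = f ^ 3`
  have hs3 : (s C)⁻¹ * f C * s C = (f C) ^ 3 := by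
    have h1 := s_conj_f hr
    have h2 : s C * (f C) ^ 3 * (s C)⁻¹ = f C := by
      calc s C * (f C) ^ 3 * (s C)⁻¹ = (s C * f C * (s C)⁻¹) ^ 3 := by rw [conj_pow]
        _ = f C ^ 5 * f C := by rw [h1]; simp only [pow_succ, pow_zero, one_mul, mul_assoc]
        _ = f C := by rw [h5, one_mul]
    calc (s C)⁻¹ * f C * s C = (s C)⁻¹ * (s C * (f C) ^ 3 * (s C)⁻¹) * s C := by rw [h2]
      _ = (f C) ^ 3 := by group
  have hu : (g * s C * g⁻¹ * (s C)⁻¹) * f C = f C * (g * s C * g⁻¹ * (s C)⁻¹) := by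
    have h1 : (g * s C * g⁻¹ * (s C)⁻¹) * f C * (g * s C * g⁻¹ * (s C)⁻¹)⁻¹ = f C := by
      calc (g * s C * g⁻¹ * (s C)⁻¹) * f C * (g * s C * g⁻¹ * (s C)⁻¹)⁻¹
          = g * s C * (g⁻¹ * ((s C)⁻¹ * f C * s C) * g) * (s C)⁻¹ * g⁻¹ := by group
        _ = g * s C * (g⁻¹ * (g * f C * g⁻¹) ^ 3 * g) * (s C)⁻¹ * g⁻¹ := by rw [hs3, hgfi]
        _ = g * s C * (f C) ^ 3 * (s C)⁻¹ * g⁻¹ := by rw [conj_pow]; group
        _ = g * (s C * f C * (s C)⁻¹) ^ 3 * g⁻¹ := by rw [conj_pow]; group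
        _ = g * (f C ^ 5 * f C) * g⁻¹ := by
          rw [s_conj_f hr]; simp only [pow_succ, pow_zero, one_mul, mul_assoc]
        _ = f C := by rw [h5, one_mul, hgfi]
    exact mul_inv_eq_iff_eq_mul.1 h1
  have huL : g * s C * g⁻¹ * (s C)⁻¹ ∈ C.L := mul_mem (hgL _ s_mem) (inv_mem s_mem)
  obtain ⟨i, hi⟩ := mem_zpowers_iff.1 (H.cent _ huL hu)
  have h1 : g * s C * g⁻¹ = (f C) ^ i * s C := by rw [hi]; group
  have hgfz : g * (f C) ^ i * g⁻¹ = (f C) ^ i := by rw [← conj_zpow, hgfi]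
  have h2 : (f C) ^ (3 * i) * s C = s C := by
    calc (f C) ^ (3 * i) * s C = (f C) ^ i * (f C) ^ i * ((f C) ^ i * s C) := by
          rw [show 3 * i = i + i + i by ring, zpow_add, zpow_add]; group
      _ = (g * (g * (f C) ^ i * g⁻¹) * g⁻¹) * (g * (f C) ^ i * g⁻¹) * (g * s C * g⁻¹) := by
          rw [hgfz, hgfz, ← h1]
      _ = g * (g * ((f C) ^ i) * g⁻¹) * ((f C) ^ i * s C) * g⁻¹ := by group
      _ = g * (g * ((f C) ^ i) * g⁻¹) * (g * s C * g⁻¹) * g⁻¹ := by rw [h1]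
      _ = g * (g * ((f C) ^ i * s C) * g⁻¹) * g⁻¹ := by group
      _ = g * (g * (g * s C * g⁻¹) * g⁻¹) * g⁻¹ := by rw [h1]
      _ = (g * g * g) * s C * (g * g * g)⁻¹ := by group
      _ = s C := by rw [hg3]; group
  have h3 : (f C) ^ (3 * i) = 1 := mul_eq_right.mp h2
  have h4 := zpow_three hr h3
  rw [h4, one_mul] at h1
  exact mul_inv_eq_iff_eq_mul.1 h1

end

/-! ### ring endomorphisms of `K8` -/

theorem tau_cases {τ : K8 → K8} (h1 : τ 1 = 1) (ha : ∀ x y, τ (x + y) = τ x + τ y)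
    (hm : ∀ x y, τ (x * y) = τ x * τ y) :
    (∀ x, τ x = x) ∨ (∀ x, τ x = x ^ 2) ∨ (∀ x, τ x = x ^ 4) := by
  have h0 : τ 0 = 0 := by
    have := ha 0 0
    rw [add_zero] at this
    exact left_eq_add.1 this
  have hpow : ∀ (x : K8) (n : ℕ), τ (x ^ n) = τ x ^ n := by
    intro x n
    induction n with
    | zero => rw [pow_zero, pow_zero, h1]
    | succ n ih => rw [pow_succ, hm, ih, pow_succ]
  have h3 : K8.al ^ 3 = K8.al + 1 := by decide +kernel
  have h2 : (τ K8.al) ^ 3 = τ K8.al + 1 := by rw [← hpow, h3, ha, h1]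
  have cases : ∀ t : K8, t ^ 3 = t + 1 → t = K8.al ∨ t = K8.al ^ 2 ∨ t = K8.al ^ 4 := by decide +kernel
  rcases cases _ h2 with h | h | h
  · left
    intro x
    rcases K8.exists_pow x with rfl | ⟨i, rfl⟩
    · exact h0
    · rw [hpow, h]
  · right; left
    intro x
    rcases K8.exists_pow x with rfl | ⟨i, rfl⟩
    · rw [h0]; rfl
    · rw [hpow, h, ← pow_mul, ← pow_mul, mul_comm]
  · right; right
    intro x
    rcases K8.exists_pow x with rfl | ⟨i, rfl⟩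
    · rw [h0]; rfl
    · rw [hpow, h, ← pow_mul, ← pow_mul, mul_comm]

theorem exists_fifth : ∀ a : K8, a ≠ 0 → ∃ k : K8, k ≠ 0 ∧ k ^ 5 = a := by decide +kernel

theorem exists_fourth : ∀ a : K8, a ≠ 0 → ∃ k : K8, k ≠ 0 ∧ k ^ 4 = a := by decide +kernel

theorem pow_four_inj : ∀ a b : K8, a ^ 4 = b ^ 4 → a = b := by decide +kernel

/-- the action of an element normalising `L` and commuting with `s`, `w` -/
theorem exists_tau [Finite G] {g : G} (hgL : ∀ l, l ∈ C.L → g * l * g⁻¹ ∈ C.L) (hgs : g * s C = s C * g)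
    (hgw : g * w C = w C * g) : ∃ τ : K8 → K8, ((∀ x, τ x = x) ∨ (∀ x, τ x = x ^ 2) ∨ (∀ x, τ x = x ^ 4)) ∧
      (∀ a b, g * C.U a b * g⁻¹ = C.U (τ a) (τ b)) ∧
      (∀ k k' : K8ˣ, (k' : K8) = τ k → g * C.dk k * g⁻¹ = C.dk k') := by
  have hgz : g * C.z 1 = C.z 1 * g := by
    rw [← s_sq]
    calc g * (s C * s C) = (g * s C) * s C := by group
      _ = (s C * g) * s C := by rw [hgs]
      _ = s C * (g * s C) := by group
      _ = s C * (s C * g) := by rw [hgs]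
      _ = s C * s C * g := by group
  have hgz' : g * C.z 1 * g⁻¹ = C.z 1 := by rw [hgz, mul_inv_cancel_right]
  -- `T` is preserved
  have hT : ∀ a b, ∃ a' b', g * C.U a b * g⁻¹ = C.U a' b' := by
    intro a b
    refine Count.mem_T_of_comm (hgL _ (C.U_mem a b)) ?_
    calc g * C.U a b * g⁻¹ * C.z 1 = g * C.U a b * g⁻¹ * (g * C.z 1 * g⁻¹) := by rw [hgz']
      _ = g * (C.U a b * C.z 1) * g⁻¹ := by group
      _ = g * (C.z 1 * C.U a b) * g⁻¹ := by rw [C.U_z_comm]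
      _ = (g * C.z 1 * g⁻¹) * (g * C.U a b * g⁻¹) := by group
      _ = _ := by rw [hgz']
  have hZ : ∀ b, ∃ b', g * C.z b * g⁻¹ = C.z b' := by
    intro b
    obtain ⟨a', b', h⟩ := hT 0 b
    have h1 : C.U a' b' * C.U a' b' = 1 := by
      rw [← h]
      calc g * C.U 0 b * g⁻¹ * (g * C.U 0 b * g⁻¹) = g * (C.z b * C.z b) * g⁻¹ := by rw [C.z_eq]; group
        _ = 1 := by rw [C.z_sq]; group
    rw [C.U_sq] at h1
    have h2 := pow_eq_zero_iff (by norm_num) |>.mp (C.z_eq_one h1)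
    subst h2
    exact ⟨b', h⟩
  choose τ hτ using hZ
  have hadd : ∀ a b, τ (a + b) = τ a + τ b := by
    intro a b
    apply C.z_inj
    rw [← hτ, C.z_add, C.z_add, ← hτ, ← hτ]
    group
  have hone : τ 1 = 1 := by
    apply C.z_inj
    rw [← hτ, hgz']
  -- the torus
  let φ : C.L → C.L := fun l => ⟨g * l * g⁻¹, hgL _ l.2⟩
  have hφm : ∀ x y, φ (x * y) = φ x * φ y := fun x y => Subtype.ext (by
    show g * ((x : G) * y) * g⁻¹ = g * x * g⁻¹ * (g * y * g⁻¹)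
    group)
  have hφi : ∀ x, φ x⁻¹ = (φ x)⁻¹ := fun x => Subtype.ext (by
    show g * (x : G)⁻¹ * g⁻¹ = (g * x * g⁻¹)⁻¹
    group)
  have hφT : ∀ x ∈ C.R.T, φ x ∈ C.R.T := by
    rintro _ ⟨a, b, rfl⟩
    obtain ⟨a', b', h⟩ := hT a b
    exact ⟨a', b', Subtype.ext h⟩
  have hφw : φ C.R.w = C.R.w := Subtype.ext (by
    show g * w C * g⁻¹ = w C
    rw [hgw, mul_inv_cancel_right])
  have hND : ∀ k : K8ˣ, φ (C.R.d k) ∈ normalizer (C.R.T : Set C.L) := by
    intro k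
    refine C.R.ti (x := C.R.u 0 1) (C.R.u_mem 0 1) (C.R.u_ne_one one_ne_zero) ?_
    have h1 : φ (C.R.u 0 1) = C.R.u 0 1 := Subtype.ext hgz'
    have h2 : φ (C.R.d k) * C.R.u 0 1 * (φ (C.R.d k))⁻¹ = φ (C.R.d k * C.R.u 0 1 * (C.R.d k)⁻¹) := by
      rw [hφm, hφm, hφi, h1]
    rw [h2]
    apply hφT
    rw [C.R.conj_d]
    exact C.R.u_mem _ _
  have hD : ∀ k : K8ˣ, ∃ k' : K8ˣ, φ (C.R.d k) = C.R.d k' := by
    intro k
    refine C.R.mem_D_of (hND k) ?_
    have h1 : C.R.w * φ (C.R.d k) * C.R.w = φ (C.R.d k⁻¹) := by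
      have h2 : C.R.w * C.R.d k * C.R.w = C.R.d k⁻¹ := by
        rw [C.R.w_mul_d, mul_assoc, C.R.w_mul_w, mul_one]
      rw [← h2, hφm, hφm, hφw]
    rw [h1]
    exact hND _
  choose κ hκ using hD
  have hκ' : ∀ k, g * C.dk k * g⁻¹ = C.dk (κ k) := fun k => congrArg Subtype.val (hκ k)
  have hrel : ∀ (b : K8) (k : K8ˣ), τ (b * (k : K8) ^ 4) = τ b * (κ k : K8) ^ 4 := by
    intro b k
    apply C.z_inj
    rw [← hτ, ← C.dk_z, ← C.dk_z, ← hτ, ← hκ']
    group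
  have hκ4 : ∀ k : K8ˣ, τ ((k : K8) ^ 4) = (κ k : K8) ^ 4 := by
    intro k
    have := hrel 1 k
    rwa [one_mul, hone, one_mul] at this
  have hmul : ∀ x y, τ (x * y) = τ x * τ y := by
    intro x y
    have h0 : τ 0 = 0 := by
      have := hadd 0 0
      rw [add_zero] at this
      exact left_eq_add.1 this
    by_cases hy : y = 0
    · rw [hy, mul_zero, h0, mul_zero]
    · obtain ⟨k, hk0, hk⟩ := exists_fourth y hy
      have h1 := hrel x (Units.mk0 k hk0)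
      have h2 := hκ4 (Units.mk0 k hk0)
      rw [Units.val_mk0, hk] at h1 h2
      rw [h1, h2]
  have hpow : ∀ (x : K8) (n : ℕ), τ (x ^ n) = τ x ^ n := by
    intro x n
    induction n with
    | zero => rw [pow_zero, pow_zero, hone]
    | succ n ih => rw [pow_succ, hmul, ih, pow_succ]
  have hκτ : ∀ k : K8ˣ, (κ k : K8) = τ k := by
    intro k
    apply pow_four_inj
    rw [← hκ4, hpow]
  refine ⟨τ, tau_cases hone hadd hmul, ?_, ?_⟩
  · intro a b
    have h10 : g * C.U 1 0 * g⁻¹ = C.U 1 0 := by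
      rw [← s_inv]
      have : g * (s C)⁻¹ * g⁻¹ = (g * s C * g⁻¹)⁻¹ := by group
      rw [this, hgs, mul_inv_cancel_right]
    have ha0 : g * C.U a 0 * g⁻¹ = C.U (τ a) 0 := by
      by_cases ha : a = 0
      · subst ha
        have h0 : τ 0 = 0 := by
          have := hadd 0 0
          rw [add_zero] at this
          exact left_eq_add.1 this
        rw [h0, C.U_zero]; group
      · obtain ⟨k, hk0, hk⟩ := exists_fifth a ha
        have h1 := C.dk_conj (Units.mk0 k hk0) 1 0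
        rw [one_mul, zero_mul, Units.val_mk0, hk] at h1
        have h2 := C.dk_conj (κ (Units.mk0 k hk0)) 1 0
        rw [one_mul, zero_mul, hκτ, Units.val_mk0, ← hpow, hk] at h2
        rw [← h1, ← h2, ← hκ']
        calc g * (C.dk (Units.mk0 k hk0) * C.U 1 0 * (C.dk (Units.mk0 k hk0))⁻¹) * g⁻¹
            = (g * C.dk (Units.mk0 k hk0) * g⁻¹) * (g * C.U 1 0 * g⁻¹) * (g * C.dk (Units.mk0 k hk0) * g⁻¹)⁻¹ := by
              group
          _ = _ := by rw [h10]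
    rw [C.U_eq a b, C.U_eq (τ a) (τ b), ← ha0, ← hτ]
    group
  · intro k k' hk
    rw [hκ']
    congr 1
    apply Units.ext
    rw [hκτ, hk]

end Cfsg.Agent.Ru127.Sg
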