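import Cfsg.Agent.Ru127.Form

namespace Cfsg.Agent.Ru127.Basic

open Cfsg.Agent.Ru127.Form

variable {W F : Type} [AddCommGroup W] [AddCommGroup F]
variable {G : Type*} [Group G]
variable {D : Set G} {Y : Subgroup G} {R : RuForm W F} {π : G → W} {ζ : F → G}

local notation "Ct" => fun (Y : Subgroup G) => Subgroup.centralizer (Y : Set G)

theorem b_zero (R : RuForm W F) (x : W) : R.b x 0 = 0 := by
  have h := R.b_add x 0 0
  simpa using h

theorem zero_b (R : RuForm W F) (x : W) : R.b 0 x = 0 := by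
  rw [R.b_symm]; exact b_zero R x

theorem q_zero (R : RuForm W F) : R.q 0 = 0 := by
  have h := R.q_add 0 0
  rw [b_zero, add_zero, add_zero] at h
  exact (left_eq_add.1 h)

section coord
variable (c : IsCoord D Y R π ζ)
include c

theorem comm_of_mem {x y : G} (hx : x ∈ Subgroup.centralizer (Y : Set G)) (hy : y ∈ Y) :
    y * x = x * y := (Subgroup.mem_centralizer_iff.1 hx) y hy

theorem π_one : π 1 = 0 := by
  have h := c.π_mul 1 (Subgroup.one_mem _) 1 (Subgroup.one_mem _)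
  rw [one_mul] at h
  exact left_eq_add.1 h

theorem ζ_zero : ζ 0 = 1 := by
  have h := c.ζ_add 0 0
  rw [add_zero] at h
  exact (left_eq_mul.1 h)

theorem π_inv {x : G} (hx : x ∈ Subgroup.centralizer (Y : Set G)) : π x⁻¹ = π x := by
  have h := c.π_mul x hx x⁻¹ (Subgroup.inv_mem _ hx)
  rw [mul_inv_cancel, π_one c] at h
  have h2 := R.twoW (π x)
  exact (add_left_cancel (h2.trans h)).symm

theorem ζ_mem (a : F) : ζ a ∈ Y := (c.ζ_range _).2 ⟨a, rfl⟩

theorem ζ_cent (a : F) : ζ a ∈ Subgroup.centralizer (Y : Set G) := c.le_cent (ζ_mem c a)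

theorem π_Y {y : G} (hy : y ∈ Y) : π y = 0 := (c.π_ker y (c.le_cent hy)).2 hy

theorem sq_Y {y : G} (hy : y ∈ Y) : y * y = 1 := by
  rw [c.sq y (c.le_cent hy), π_Y c hy, q_zero, ζ_zero c]

theorem Y_notD {y : G} (hy : y ∈ Y) : y ∉ D := by
  intro h
  have := (c.D_iff y (c.le_cent hy)).1 h
  exact this.1 (π_Y c hy)

theorem card_Y : Nat.card Y = 8 := by
  rw [← R.cardF]
  refine (Nat.card_congr (Equiv.ofBijective (fun a : F => (⟨ζ a, ζ_mem c a⟩ : Y)) ⟨?_, ?_⟩)).symm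
  · intro a b h
    exact c.ζ_inj (by simpa using h)
  · rintro ⟨y, hy⟩
    obtain ⟨a, ha⟩ := (c.ζ_range y).1 hy
    exact ⟨a, by simp [ha]⟩

/-- `{x ∈ C(Y) : π x ∈ S} ≃ S × F`. -/
theorem cardPre (S : Set W) :
    Nat.card {x : G // x ∈ Subgroup.centralizer (Y : Set G) ∧ π x ∈ S} = Nat.card S * 8 := by
  choose s hs hπ using c.π_surj
  have e : (S × F) ≃ {x : G // x ∈ Subgroup.centralizer (Y : Set G) ∧ π x ∈ S} := by
    refine Equiv.ofBijective (fun p => ⟨s p.1 * ζ p.2, ?_, ?_⟩) ⟨?_, ?_⟩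
    · exact mul_mem (hs _) (ζ_cent c _)
    · rw [c.π_mul _ (hs _) _ (ζ_cent c _), hπ, π_Y c (ζ_mem c _), add_zero]
      exact p.1.2
    · rintro ⟨⟨w, hw⟩, a⟩ ⟨⟨w', hw'⟩, a'⟩ h
      simp only [Subtype.mk.injEq] at h
      have h1 : π (s w * ζ a) = π (s w' * ζ a') := by rw [h]
      rw [c.π_mul _ (hs _) _ (ζ_cent c _), hπ, π_Y c (ζ_mem c _), add_zero,
        c.π_mul _ (hs _) _ (ζ_cent c _), hπ, π_Y c (ζ_mem c _), add_zero] at h1
      subst h1
      have h2 := c.ζ_inj (mul_left_cancel h)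
      subst h2
      rfl
    · rintro ⟨x, hx, hxS⟩
      have h1 : (s (π x))⁻¹ * x ∈ Y := by
        rw [← c.π_ker _ (mul_mem (Subgroup.inv_mem _ (hs _)) hx),
          c.π_mul _ (Subgroup.inv_mem _ (hs _)) _ hx, π_inv c (hs _), hπ, R.twoW]
      obtain ⟨a, ha⟩ := (c.ζ_range _).1 h1
      refine ⟨(⟨π x, hxS⟩, a), ?_⟩
      simp [ha]
  rw [← Nat.card_congr e, Nat.card_prod, R.cardF]

theorem card_cent : Nat.card (Subgroup.centralizer (Y : Set G)) = 2 ^ 11 := by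
  have h := cardPre c Set.univ
  rw [Nat.card_congr (Equiv.Set.univ W), R.cardW] at h
  rw [show (2 ^ 11 : ℕ) = 256 * 8 by norm_num, ← h]
  apply Nat.card_congr
  exact Equiv.subtypeEquivRight (by intro x; simp)

theorem card_D : Nat.card {x : G // x ∈ Subgroup.centralizer (Y : Set G) ∧ x ∈ D} = 192 := by
  have h := cardPre c R.T
  have h2 : Nat.card R.T = 24 := R.cardT
  rw [h2] at h
  rw [show (192 : ℕ) = 24 * 8 by norm_num, ← h]
  apply Nat.card_congr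
  refine Equiv.subtypeEquivRight (fun x => ?_)
  constructor
  · rintro ⟨h1, h2⟩; exact ⟨h1, (c.D_iff x h1).1 h2⟩
  · rintro ⟨h1, h2⟩; exact ⟨h1, (c.D_iff x h1).2 h2⟩

theorem ζ_inj_zero {a : F} (h : ζ a = 1) : a = 0 := c.ζ_inj (h.trans (ζ_zero c).symm)

theorem b_of_commute {x y : G} (hx : x ∈ Subgroup.centralizer (Y : Set G))
    (hy : y ∈ Subgroup.centralizer (Y : Set G)) (h : Commute x y) : R.b (π x) (π y) = 0 := by
  apply ζ_inj_zero c
  rw [← c.comm x hx y hy]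
  have : x * y = y * x := h
  calc x⁻¹ * y⁻¹ * x * y = x⁻¹ * y⁻¹ * (x * y) := by group
    _ = x⁻¹ * y⁻¹ * (y * x) := by rw [this]
    _ = 1 := by group

theorem q_of_sq {x : G} (hx : x ∈ Subgroup.centralizer (Y : Set G)) (h : x * x = 1) :
    R.q (π x) = 0 := by
  apply ζ_inj_zero c
  rw [← c.sq x hx, h]

/-- an involution of `C(Y)` outside `D` commuting with an element of `D ∩ C(Y)` lies in `Y`. -/
theorem mem_Y_of_commute {d x : G} (hd : d ∈ D) (hdc : d ∈ Subgroup.centralizer (Y : Set G))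
    (hx : x ∈ Subgroup.centralizer (Y : Set G)) (h2 : x * x = 1) (hxD : x ∉ D)
    (h : Commute d x) : x ∈ Y := by
  rw [← c.π_ker x hx]
  by_contra hne
  have h1 := R.q5 (π d) (π x) ((c.D_iff d hdc).1 hd) (q_of_sq c hx h2) (b_of_commute c hdc hx h)
  exact hxD ((c.D_iff x hx).2 ⟨hne, h1⟩)

end coord

variable {𝒵 : Set (Subgroup G)} (L : LocalData D 𝒵 R)
include L

theorem card_mem {Y : Subgroup G} (hY : Y ∈ 𝒵) : Nat.card Y = 8 := by
  obtain ⟨π, ζ, c⟩ := L.coord Y hY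
  exact card_Y c

theorem sq_mem {Y : Subgroup G} (hY : Y ∈ 𝒵) {y : G} (hy : y ∈ Y) : y * y = 1 := by
  obtain ⟨π, ζ, c⟩ := L.coord Y hY
  exact sq_Y c hy

theorem notD_mem {Y : Subgroup G} (hY : Y ∈ 𝒵) {y : G} (hy : y ∈ Y) : y ∉ D := by
  obtain ⟨π, ζ, c⟩ := L.coord Y hY
  exact Y_notD c hy

theorem comm_mem {Y : Subgroup G} (hY : Y ∈ 𝒵) {x y : G} (hx : x ∈ Y) (hy : y ∈ Y) :
    Commute x y := by
  obtain ⟨π, ζ, c⟩ := L.coord Y hY
  exact (Subgroup.mem_centralizer_iff.1 (c.le_cent hy)) x hx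

theorem eq_of_le {Y Y' : Subgroup G} (hY : Y ∈ 𝒵) (hY' : Y' ∈ 𝒵) (h : Y ≤ Y') : Y = Y' := by
  have : Finite Y' := Nat.finite_of_card_ne_zero (by rw [card_mem L hY']; norm_num)
  exact Subgroup.eq_of_le_of_card_ge h (by rw [card_mem L hY, card_mem L hY'])

/-- uniqueness in `H2`. -/
theorem unique {d z : G} (hd : d ∈ D) (hz1 : z ≠ 1) {Y Y' : Subgroup G} (hY : Y ∈ 𝒵)
    (hY' : Y' ∈ 𝒵) (hz : z ∈ Y) (hz' : z ∈ Y') (hc : d ∈ Subgroup.centralizer (Y : Set G))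
    (hc' : d ∈ Subgroup.centralizer (Y' : Set G)) : Y = Y' := by
  have hcz : Commute d z := ((Subgroup.mem_centralizer_iff.1 hc) z hz).symm
  obtain ⟨Y1, hY1, hz1', hYc, hcent⟩ := L.H2 d hd z hz1 (sq_mem L hY hz) (notD_mem L hY hz) hcz
  have key : ∀ Y2 ∈ 𝒵, z ∈ Y2 → d ∈ Subgroup.centralizer (Y2 : Set G) → Y2 = Y1 := by
    intro Y2 hY2 hz2 hc2
    apply eq_of_le L hY2 hY1
    intro y hy
    obtain ⟨π, ζ, c⟩ := L.coord Y1 hY1
    have hcy : Commute y d := (Subgroup.mem_centralizer_iff.1 hc2) y hy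
    apply mem_Y_of_commute c hd (hcent d (Commute.refl d) hcz)
      (hcent y hcy (comm_mem L hY2 hy hz2)) (sq_mem L hY2 hy) (notD_mem L hY2 hy) hcy.symm
  rw [key Y hY hz hc, key Y' hY' hz' hc']

/-- existence and uniqueness restated, with membership of the centraliser. -/
theorem exists_unique' {d z : G} (hd : d ∈ D) (hz1 : z ≠ 1) (hz2 : z * z = 1) (hzD : z ∉ D)
    (hcz : Commute d z) : ∃ Y ∈ 𝒵, z ∈ Y ∧ d ∈ Subgroup.centralizer (Y : Set G) ∧
      (∀ g, Commute g d → Commute g z → g ∈ Subgroup.centralizer (Y : Set G)) := by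
  obtain ⟨Y1, hY1, hz1', hYc, hcent⟩ := L.H2 d hd z hz1 hz2 hzD hcz
  exact ⟨Y1, hY1, hz1', hcent d (Commute.refl d) hcz, hcent⟩

/-- if `d ∈ D` centralises `Y ∋ z`, every element commuting with `d` and `z` centralises `Y`. -/
theorem cent_of_commute {d z : G} (hd : d ∈ D) (hz1 : z ≠ 1) {Y : Subgroup G} (hY : Y ∈ 𝒵)
    (hz : z ∈ Y) (hc : d ∈ Subgroup.centralizer (Y : Set G)) {g : G} (hgd : Commute g d)
    (hgz : Commute g z) : g ∈ Subgroup.centralizer (Y : Set G) := by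
  have hcz : Commute d z := ((Subgroup.mem_centralizer_iff.1 hc) z hz).symm
  obtain ⟨Y1, hY1, hz1', hYc, hcent⟩ := exists_unique' L hd hz1 (sq_mem L hY hz)
    (notD_mem L hY hz) hcz
  rw [unique L hd hz1 hY hY1 hz hz1' hc hYc]
  exact hcent g hgd hgz

end Cfsg.Agent.Ru127.Basic
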