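import Cfsg.Agent.Ru127.XiOneB
import Cfsg.Agent.RuB.LFacts
import Cfsg.Agent.RuB.NormL

/-!
# `|Σ| = 5` and `C_G(f)/⟨f⟩` of order 60 for `f` of order 5
-/

set_option autoImplicit false

namespace Cfsg.Agent.Ru127.CardD

open Subgroup Cfsg.Agent.RuB Cfsg.Agent.RuB.Core Cfsg.Agent.RuB.NormZ Cfsg.Agent.RuB.NormQ Cfsg.Agent.RuB.Count
open Cfsg.Agent.Ru127.Form Cfsg.Agent.Ru127.Basic Cfsg.Agent.Ru127.Count Cfsg.Agent.Ru127.NorD
open Cfsg.Agent.Ru127.FixD Cfsg.Agent.Ru127.XiOne Cfsg.Agent.Ru127.Xi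

variable {G : Type*} [Group G] [Finite G] {C : Core G}
variable {W F : Type} [AddCommGroup W] [AddCommGroup F] {R : RuForm W F} {𝒵 : Set (Subgroup G)}

omit [Finite G] in
theorem card_cent_v {a : A4} (ha : a ≠ 0) :
    Nat.card ((⊤ : Subgroup G) ⊓ centralizer {C.v a} : Subgroup G) = 116480 := by
  have h4 : Nat.card (A4 × C.L) = 116480 := by
    rw [Nat.card_prod, Nat.card_prod, Nat.card_zmod, card_L C]
  rw [← h4]
  symm
  refine Nat.card_congr (Equiv.ofBijective (fun p : A4 × C.L => (⟨C.v p.1 * p.2.1, mem_top _, ?_⟩ :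
    ((⊤ : Subgroup G) ⊓ centralizer {C.v a} : Subgroup G))) ⟨?_, ?_⟩)
  · apply mem_centralizer_iff.2
    rintro _ rfl
    calc C.v a * (C.v p.1 * p.2.1) = (C.v a * C.v p.1) * p.2.1 := by group
      _ = (C.v p.1 * C.v a) * p.2.1 := by rw [C.v_v_comm]
      _ = C.v p.1 * (C.v a * p.2.1) := by group
      _ = C.v p.1 * (p.2.1 * C.v a) := by rw [C.v_comm a _ p.2.2]
      _ = C.v p.1 * p.2.1 * C.v a := by group
  · rintro ⟨b, l, hl⟩ ⟨b', l', hl'⟩ h
    have h1 := C.vl_inj hl hl' (congrArg Subtype.val h)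
    obtain ⟨h2, h3⟩ := h1
    subst h2; subst h3; rfl
  · rintro ⟨g, -, hg⟩
    obtain ⟨b, l, hl, rfl⟩ := C.cent a ha g ((mem_centralizer_iff.1 hg _ rfl).symm)
    exact ⟨⟨b, l, hl⟩, rfl⟩

theorem card_nor_cent_v_le {a : A4} (ha : a ≠ 0) :
    Nat.card (nor (Zs C) ⊓ centralizer {C.v a} : Subgroup G) ≤ 1792 := by
  have h7 : Nat.card K8ˣ = 7 := by
    rw [Nat.card_eq_fintype_card, Fintype.card_units, ← Nat.card_eq_fintype_card, K8.natCard]
  have h4 : Nat.card (A4 × K8 × K8 × K8ˣ) = 1792 := by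
    rw [Nat.card_prod, Nat.card_prod, Nat.card_prod, Nat.card_prod, Nat.card_zmod, K8.natCard, h7]
  rw [← h4]
  have hvn : ∀ b, C.v b ∈ nor (Zs C) := fun b => cent_le_nor _ (by
    rw [mem_centralizer_iff]
    rintro _ ⟨e, rfl⟩
    exact (C.v_z_comm b e).symm)
  have hex : ∀ g : (nor (Zs C) ⊓ centralizer {C.v a} : Subgroup G),
      ∃ p : A4 × K8 × K8 × K8ˣ, (g : G) = C.v p.1 * (C.U p.2.1 p.2.2.1 * C.dk p.2.2.2) := by
    rintro ⟨g, hgn, hg⟩
    obtain ⟨b, l, hl, hgl⟩ := C.cent a ha g ((mem_centralizer_iff.1 hg _ rfl).symm)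
    have hln : l ∈ nor (Zs C) := by
      have : l = (C.v b)⁻¹ * g := by rw [hgl]; group
      rw [this]
      exact mul_mem (inv_mem (hvn b)) hgn
    obtain ⟨e, he⟩ := conj_mem_of_mem_nor hln (z_mem_Zs 1)
    have h1 : (⟨l, hl⟩ : C.L) * C.R.u 0 1 * (⟨l, hl⟩ : C.L)⁻¹ = C.R.u 0 e := Subtype.ext he
    obtain ⟨x, y, k, hk⟩ := C.R.exists_ud (C.R.u_mem 0 1) (C.R.u_ne_one one_ne_zero)
      (by rw [h1]; exact C.R.u_mem 0 e)
    have hk' : l = C.U x y * C.dk k := congrArg Subtype.val hk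
    refine ⟨(b, x, y, k), ?_⟩
    show g = C.v b * (C.U x y * C.dk k)
    rw [hgl, hk']
  choose f hf using hex
  refine Nat.card_le_card_of_injective f ?_
  intro g h hgh
  apply Subtype.ext
  rw [hf g, hf h, hgh]

section

variable (L : LocalData (DV C) 𝒵 R) (hZ : Zs C ∈ 𝒵)
include L hZ

/-- `N(Z)` is transitive on `D ∩ C(Z)` -/
theorem exists_conj_v {a : A4} (ha : a ≠ 0) {d : G} (hd : d ∈ DV C) (hdc : d ∈ centralizer (Zs C : Set G)) :
    ∃ h ∈ nor (Zs C), h * C.v a * h⁻¹ = d := by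
  classical
  obtain ⟨π, ζ, c⟩ := L.coord _ hZ
  have h1 := card_conj_mul (nor (Zs C)) (C.v a)
  rw [L.norm_card _ hZ] at h1
  have h2 := card_nor_cent_v_le (C := C) ha
  have h3 := card_D c
  have hvD : C.v a ∈ DV C := ⟨1, a, ha, by group⟩
  have hvc : C.v a ∈ centralizer (Zs C : Set G) := by
    rw [mem_centralizer_iff]
    rintro _ ⟨b, rfl⟩
    exact (C.v_z_comm a b).symm
  have h4 : 192 ≤ Nat.card {y : G // ∃ h ∈ nor (Zs C), h * C.v a * h⁻¹ = y} := by
    by_contra hcon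
    push Not at hcon
    have : Nat.card {y : G // ∃ h ∈ nor (Zs C), h * C.v a * h⁻¹ = y} ≤ 191 := by omega
    have h5 := Nat.mul_le_mul this h2
    rw [h1] at h5
    norm_num at h5
  have hsub : {y : G | ∃ h ∈ nor (Zs C), h * C.v a * h⁻¹ = y} ⊆ {x : G | x ∈ centralizer (Zs C : Set G) ∧ x ∈ DV C} := by
    rintro _ ⟨h, hh, rfl⟩
    exact ⟨conj_mem_cent hh hvc, DV_conj hvD h⟩
  have heq : {y : G | ∃ h ∈ nor (Zs C), h * C.v a * h⁻¹ = y} = {x : G | x ∈ centralizer (Zs C : Set G) ∧ x ∈ DV C} := by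
    apply Set.eq_of_subset_of_ncard_le hsub _ (Set.toFinite _)
    have e1 : ({x : G | x ∈ centralizer (Zs C : Set G) ∧ x ∈ DV C} : Set G).ncard = 192 := h3
    rw [e1]
    exact h4
  have : d ∈ {x : G | x ∈ centralizer (Zs C : Set G) ∧ x ∈ DV C} := ⟨hdc, hd⟩
  rw [← heq] at this
  exact this

theorem DV_single {a : A4} (ha : a ≠ 0) {d : G} (hd : d ∈ DV C) : ∃ h, h * C.v a * h⁻¹ = d := by
  obtain ⟨g, b, hb, rfl⟩ := hd
  have hvc : C.v b ∈ centralizer (Zs C : Set G) := by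
    rw [mem_centralizer_iff]
    rintro _ ⟨e, rfl⟩
    exact (C.v_z_comm b e).symm
  obtain ⟨h, -, hh⟩ := exists_conj_v L hZ ha (⟨1, b, hb, by group⟩ : C.v b ∈ DV C) hvc
  exact ⟨g * h, by rw [← hh]; group⟩

/-- `|D| = 192 |Σ| (449 + γ)` -/
theorem card_DV {a : A4} (ha : a ≠ 0) : Nat.card {d : G // d ∈ DV C} =
    192 * (Nat.card (Sig 𝒵 (C.z 1)) * (449 + Nat.card {y : G // AS C a (C.z 1) y})) := by
  have h1 := card_conj_mul (⊤ : Subgroup G) (C.v a)
  rw [card_cent_v ha] at h1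
  have h2 : Nat.card {y : G // ∃ h ∈ (⊤ : Subgroup G), h * C.v a * h⁻¹ = y} = Nat.card {d : G // d ∈ DV C} := by
    apply Nat.card_congr
    refine Equiv.subtypeEquivRight (fun y => ?_)
    constructor
    · rintro ⟨h, -, rfl⟩
      exact ⟨h, a, ha, rfl⟩
    · intro hy
      obtain ⟨h, hh⟩ := DV_single L hZ ha hy
      exact ⟨h, mem_top _, hh⟩
  rw [h2] at h1
  have h3 : Nat.card (⊤ : Subgroup G) = Nat.card G := Nat.card_congr (Subgroup.topEquiv).toEquiv
  rw [h3, Count.card_G (noV L hZ) ha] at h1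
  have hz1 : C.z 1 ≠ 1 := fun h => one_ne_zero (C.z_eq_one h)
  have h4 := card_cent_z L hz1 hZ (z_mem_Zs 1)
  rw [h4] at h1
  have h5 : 455 * (449 + Nat.card {y : G // AS C a (C.z 1) y}) * (Nat.card (Sig 𝒵 (C.z 1)) * (2 ^ 14 * 3)) =
      22364160 * (Nat.card (Sig 𝒵 (C.z 1)) * (449 + Nat.card {y : G // AS C a (C.z 1) y})) := by ring
  rw [h5] at h1
  omega

end

/-! ### elements of order 7 -/

/-- the standard torus element -/
def h7 (C : Core G) : G := C.dk (Units.mk0 K8.al (by decide +kernel))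

omit [Finite G] in
theorem h7_mem : h7 C ∈ C.L := C.dk_mem _

theorem good_h7 : orderOf (h7 C) = 7 := by
  have h1 : (h7 C) ^ 7 = 1 := by
    have hk : ∀ n : ℕ, (h7 C) ^ n = C.dk ((Units.mk0 K8.al (by decide +kernel)) ^ n) := by
      intro n
      induction n with
      | zero => rw [pow_zero, pow_zero, C.dk_one]
      | succ n ih => rw [pow_succ, ih, h7, C.dk_mul, pow_succ]
    rw [hk]
    have : (Units.mk0 K8.al (by decide +kernel) : K8ˣ) ^ 7 = 1 := by
      apply Units.ext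
      rw [Units.val_pow_eq_pow_val, Units.val_mk0]
      decide +kernel
    rw [this, C.dk_one]
  have : Fact (Nat.Prime 7) := ⟨by norm_num⟩
  apply orderOf_eq_prime h1
  intro h
  have h2 : C.R.d (Units.mk0 K8.al (by decide +kernel)) = C.R.d 1 := by
    rw [C.R.d_one]; exact Subtype.ext h
  have h3 := congrArg Units.val (C.R.d_inj h2)
  rw [Units.val_mk0, Units.val_one] at h3
  exact absurd h3 (by decide +kernel)

/-- elements of order 5, 7, 13 of `L` are good -/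
theorem good_of {x : G} (hx : x ∈ C.L) (ho : orderOf x = 5 ∨ orderOf x = 7 ∨ orderOf x = 13) : Good C x := by
  have hord : orderOf (⟨x, hx⟩ : C.L) = orderOf x := Subgroup.orderOf_mk _ _
  refine ⟨hx, ?_, ?_, ?_⟩
  · rcases ho with h | h | h <;> rw [h] <;> norm_num
  · rcases ho with h | h | h <;> rw [h] <;> norm_num
  · intro g hg hgx
    have key : (⟨g, hg⟩ : C.L) ∈ zpowers (⟨x, hx⟩ : C.L) := by
      have hc : (⟨g, hg⟩ : C.L) * ⟨x, hx⟩ = ⟨x, hx⟩ * ⟨g, hg⟩ := Subtype.ext hgx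
      rcases ho with h | h | h
      · exact LFacts.cent5 C.R (by rw [hord, h]) hc
      · exact LFacts.cent7 C.R (by rw [hord, h]) hc
      · exact LFacts.cent13 C.R (by rw [hord, h]) hc
    obtain ⟨i, hi⟩ := mem_zpowers_iff.1 key
    exact mem_zpowers_iff.2 ⟨i, congrArg Subtype.val hi⟩

theorem card_seven (hcz : ∀ g : G, (∀ b, g * C.z b = C.z b * g) → g ∈ C.QQ) :
    Nat.card {d : G // d ∈ DV C ∧ d * h7 C = h7 C * d} = 3 := by
  have H : Good C (h7 C) := good_of h7_mem (Or.inr (Or.inl good_h7))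
  rcases H.card_cases with ⟨h, -⟩ | ⟨-, h60⟩
  · exact h
  exfalso
  have hN := H.hyp.card_normalizer_of_sixty h60
  have : Fact (Nat.Prime 3) := ⟨Nat.prime_three⟩
  obtain ⟨k, hk⟩ := exists_prime_orderOf_dvd_card' (G := normalizer (H.U : Set (K (h7 C)))) 3
    (by rw [hN]; norm_num)
  obtain ⟨g, hg⟩ := QuotientGroup.mk_surjective (k : K (h7 C))
  -- `g` normalises `V`
  have hgV : ∀ a, ∃ a', (g : G) * C.v a * (g : G)⁻¹ = C.v a' := by
    intro a
    have h1 : (k : K (h7 C)) * QuotientGroup.mk (H.vM a) * (k : K (h7 C))⁻¹ ∈ H.U :=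
      (mem_normalizer_iff.1 k.2 _).1 ⟨a, rfl⟩
    obtain ⟨a', ha'⟩ := h1
    rw [← hg, ← QuotientGroup.mk_inv, ← QuotientGroup.mk_mul, ← QuotientGroup.mk_mul] at ha'
    obtain ⟨i, hi⟩ := Good.mk_eq_iff.1 ha'.symm
    exact ⟨a', H.conj_eq (i := i) hi⟩
  have hkap : (Units.mk0 K8.al (by decide +kernel) : K8ˣ) ≠ 1 := by
    intro h
    have h3 := congrArg Units.val h
    rw [Units.val_mk0, Units.val_one] at h3
    exact absurd h3 (by decide +kernel)
  have hgx : (g : G) * h7 C = h7 C * g := mem_M.1 g.2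
  have h2 := NormL.comm_v_of_comm_dk hcz hgV hkap hgx (1, 0)
  -- `k ^ 2 ∈ U`
  have h3 : (k : K (h7 C)) * k ∈ H.U := by
    refine H.hyp.cent (QuotientGroup.mk (H.vM (1, 0))) ⟨(1, 0), rfl⟩ ?_ _ ?_
    · intro h
      have h4 : (QuotientGroup.mk (H.vM (1, 0)) : K (h7 C)) = QuotientGroup.mk (H.vM 0) := by
        rw [h, ← QuotientGroup.mk_one]
        congr 1
        exact Subtype.ext C.v_zero.symm
      exact absurd (H.vM_inj h4) (by decide)
    · rw [← hg, ← QuotientGroup.mk_mul, ← QuotientGroup.mk_mul, ← QuotientGroup.mk_mul]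
      congr 1
      exact Subtype.ext h2
  have h4 := H.hyp.sq _ h3
  have h5 : (k : K (h7 C)) ^ 3 = 1 := by
    have := pow_orderOf_eq_one k
    rw [hk] at this
    exact congrArg Subtype.val this
  have h6 : (k : K (h7 C)) = 1 := by
    calc (k : K (h7 C)) = (k : K (h7 C)) ^ 3 * k := by rw [h5, one_mul]
      _ = k * k * (k * k) := by
        rw [pow_succ, pow_two, mul_assoc (k * k : K (h7 C)), mul_assoc]
      _ = 1 := h4
  have h8 : k = 1 := Subtype.ext h6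
  rw [h8, orderOf_one] at hk
  norm_num at hk

section

variable (L : LocalData (DV C) 𝒵 R) (hZ : Zs C ∈ 𝒵) (hcz : ∀ g : G, (∀ b, g * C.z b = C.z b * g) → g ∈ C.QQ)
include L hZ hcz

/-- `|Σ| = 5` -/
theorem card_sig_eq : Nat.card (Sig 𝒵 (C.z 1)) = 5 := by
  have hz1 : C.z 1 ≠ 1 := fun h => one_ne_zero (C.z_eq_one h)
  rcases card_sig L hz1 hZ (z_mem_Zs 1) with h | h
  · exfalso
    have ha : ((1, 0) : A4) ≠ 0 := by decide
    have hD := card_DV L hZ ha
    rw [h, one_mul] at hD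
    have h8 := eight_dvd_X L hZ
    have hle := card_X_le L hZ
    rw [card_X L hZ h ha] at h8 hle
    set γ := Nat.card {y : G // AS C (1, 0) (C.z 1) y} with hγ
    -- modulo 7
    have m7 := card_modEq (x := h7 C) (S := DV C) (fun d hd => DV_conj hd _) (p := 7) (by norm_num) good_h7
    rw [card_seven hcz, hD] at m7
    -- modulo 13
    have : Fact (Nat.Prime 13) := ⟨by norm_num⟩
    obtain ⟨⟨x, hx⟩, hx13⟩ := exists_prime_orderOf_dvd_card' (G := C.L) 13 (by rw [card_L C]; norm_num)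
    have hx13' : orderOf x = 13 := by rw [← hx13]; exact (Subgroup.orderOf_mk _ _).symm
    have H := good_of hx (Or.inr (Or.inr hx13'))
    have m13 := card_modEq (x := x) (S := DV C) (fun d hd => DV_conj hd _) (p := 13) (by norm_num) hx13'
    rw [hD] at m13
    unfold Nat.ModEq at m7 m13
    rcases H.card_cases with ⟨h3, -⟩ | ⟨h3, -⟩ <;> rw [h3] at m13 <;> omega
  · exact h

/-- `|C(x)/⟨x⟩| = 60` for `x ∈ L` of order 5 -/
theorem card_five {x : G} (hx : x ∈ C.L) (hx5 : orderOf x = 5) : Nat.card (K x) = 60 := by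
  have ha : ((1, 0) : A4) ≠ 0 := by decide
  have hD := card_DV L hZ ha
  rw [card_sig_eq L hZ hcz] at hD
  have H := good_of hx (Or.inl hx5)
  have m5 := card_modEq (x := x) (S := DV C) (fun d hd => DV_conj hd _) (p := 5) (by norm_num) hx5
  rw [hD] at m5
  unfold Nat.ModEq at m5
  rcases H.card_cases with ⟨h3, -⟩ | ⟨-, h3⟩
  · rw [h3] at m5
    omega
  · exact h3

end

end Cfsg.Agent.Ru127.CardD
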