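import Cfsg.Agent.Ru127.NorD

/-! The counting argument: for `z` in a member of `𝒵`, `Σ = {Y ∈ 𝒵 : z ∈ Y}`, any two distinct
points of `Σ` are exchanged by exactly 192 elements of `D`. -/

namespace Cfsg.Agent.Ru127.Count

open Cfsg.Agent.Ru127.Form Cfsg.Agent.Ru127.Basic Cfsg.Agent.Ru127.NorD

variable {W F : Type} [AddCommGroup W] [AddCommGroup F]
variable {G : Type*} [Group G]
variable {D : Set G} {R : RuForm W F} {𝒵 : Set (Subgroup G)}

/-- conjugation orbit counting -/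
theorem card_conj_mul [Finite G] (H : Subgroup G) (z : G) :
    Nat.card {y : G // ∃ h ∈ H, h * z * h⁻¹ = y} *
      Nat.card (H ⊓ Subgroup.centralizer {z} : Subgroup G) = Nat.card H := by
  letI act : MulAction H G :=
    { smul := fun h g => (h : G) * g * (h : G)⁻¹
      one_smul := by
        intro b
        show ((1 : H) : G) * b * ((1 : H) : G)⁻¹ = b
        simp
      mul_smul := by
        intro x y b
        show ((x * y : H) : G) * b * ((x * y : H) : G)⁻¹ = x * (y * b * (y : G)⁻¹) * (x : G)⁻¹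
        simp [mul_assoc] }
  have hs : ∀ (h : H) (g : G), h • g = (h : G) * g * (h : G)⁻¹ := fun _ _ => rfl
  have h1 : Nat.card (MulAction.orbit H z) * Nat.card (MulAction.stabilizer H z) = Nat.card H := by
    have h2 := MulAction.index_stabilizer H z
    have h3 := Subgroup.card_mul_index (MulAction.stabilizer H z)
    rw [h2, ← Nat.card_coe_set_eq, mul_comm] at h3
    exact h3
  have e1 : Nat.card {y : G // ∃ h ∈ H, h * z * h⁻¹ = y} = Nat.card (MulAction.orbit H z) := by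
    apply Nat.card_congr
    refine Equiv.subtypeEquivRight (fun y => ?_)
    rw [MulAction.mem_orbit_iff]
    constructor
    · rintro ⟨h, hh, rfl⟩
      exact ⟨⟨h, hh⟩, rfl⟩
    · rintro ⟨⟨h, hh⟩, rfl⟩
      exact ⟨h, hh, rfl⟩
  have e2 : Nat.card (H ⊓ Subgroup.centralizer {z} : Subgroup G) =
      Nat.card (MulAction.stabilizer H z) := by
    apply Nat.card_congr
    refine Equiv.ofBijective (fun x => ⟨⟨(x : G), x.2.1⟩, ?_⟩) ⟨?_, ?_⟩
    · rw [MulAction.mem_stabilizer_iff, hs]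
      have := (Subgroup.mem_centralizer_iff.1 x.2.2) z rfl
      simp only
      rw [← this]; group
    · intro x y hxy
      simp only [Subtype.mk.injEq] at hxy
      exact Subtype.ext hxy
    · rintro ⟨⟨x, hx⟩, hx2⟩
      rw [MulAction.mem_stabilizer_iff, hs] at hx2
      refine ⟨⟨x, hx, Subgroup.mem_centralizer_iff.2 ?_⟩, rfl⟩
      rintro y rfl
      simp only at hx2
      calc y * x = (x * y * x⁻¹) * x := by rw [hx2]
        _ = x * y := by group
  rw [e1, e2]
  exact h1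

/-- the set `Σ` of members of `𝒵` containing `z`. -/
abbrev Sig (𝒵 : Set (Subgroup G)) (z : G) : Type _ := {Y : Subgroup G // Y ∈ 𝒵 ∧ z ∈ Y}

theorem mem_cj_of_commute {g z : G} (h : Commute g z) {Y : Subgroup G} (hz : z ∈ Y) :
    z ∈ cj g Y := by
  rw [mem_cj]
  have : g⁻¹ * z * g = z := by
    rw [mul_assoc, ← h.eq]; group
  rwa [this]

/-- action of a subgroup of `C(z)` on `Σ`. -/
@[reducible] def sigAct (L : LocalData D 𝒵 R) (z : G) (H : Subgroup G)
    (hH : ∀ x ∈ H, Commute x z) : MulAction H (Sig 𝒵 z) where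
  smul x Y := ⟨cj (x : G) Y.1, L.Z_conj _ Y.2.1 _, mem_cj_of_commute (hH x x.2) Y.2.2⟩
  one_smul := by
    rintro ⟨Y, hY⟩
    exact Subtype.ext (cj_one Y)
  mul_smul := by
    rintro x y ⟨Y, hY⟩
    exact Subtype.ext (cj_mul _ _ Y)

section
variable (L : LocalData D 𝒵 R)
include L

theorem fix_unique [Finite G] {d z : G} (hd : d ∈ D) (hz1 : z ≠ 1)
    {a b : Subgroup G} (ha : a ∈ 𝒵) (hza : z ∈ a) (hb : b ∈ 𝒵) (hzb : z ∈ b)
    (hda : d ∈ nor a) (hdb : d ∈ nor b) : a = b :=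
  unique L hd hz1 ha hb hza hzb (D_nor L hd ha hda) (D_nor L hd hb hdb)

theorem inv_eq_self {d : G} (hd : d ∈ D) : d⁻¹ = d := by
  rw [inv_eq_iff_mul_eq_one]; exact L.D_sq d hd

theorem cj_cj_self {d : G} (hd : d ∈ D) (a : Subgroup G) : cj d (cj d a) = a := by
  rw [← cj_mul, L.D_sq d hd, cj_one]

/-- a 2-subgroup of `C(z)` fixes a point of `Σ` when `|Σ|` is odd. -/
theorem exists_fixed [Finite G] {z : G} (hodd : ¬ 2 ∣ Nat.card (Sig 𝒵 z)) {H : Subgroup G}
    (hH : ∀ x ∈ H, Commute x z) (hp : IsPGroup 2 H) :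
    ∃ c ∈ 𝒵, z ∈ c ∧ ∀ x ∈ H, x ∈ nor c := by
  letI := sigAct L z H hH
  haveI : Fact (Nat.Prime 2) := ⟨Nat.prime_two⟩
  obtain ⟨c, hc⟩ := hp.nonempty_fixed_point_of_prime_not_dvd_card (Sig 𝒵 z) hodd
  refine ⟨c.1, c.2.1, c.2.2, fun x hx => ?_⟩
  have := hc ⟨x, hx⟩
  exact congrArg Subtype.val this

theorem isPGroup_zpowers {d : G} (hd : d ∈ D) : IsPGroup 2 (Subgroup.zpowers d) := by
  rw [IsPGroup.iff_orderOf]
  rintro ⟨x, hx⟩
  obtain ⟨k, rfl⟩ := Subgroup.mem_zpowers_iff.1 hx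
  have h2 : d ^ 2 = 1 := by rw [pow_two]; exact L.D_sq d hd
  have : (⟨d ^ k, hx⟩ : Subgroup.zpowers d) ^ (2 ^ 1) = 1 := by
    apply Subtype.ext
    show (d ^ k) ^ (2 ^ 1) = 1
    rw [pow_one, ← zpow_natCast, ← zpow_mul, mul_comm, zpow_mul]
    simp [h2]
  have h3 := orderOf_dvd_of_pow_eq_one this
  rcases (Nat.dvd_prime_pow Nat.prime_two).1 h3 with ⟨m, _, hm⟩
  exact ⟨m, hm⟩

theorem exists_D {Y : Subgroup G} (hY : Y ∈ 𝒵) : ∃ d ∈ D, d ∈ Subgroup.centralizer (Y : Set G) := by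
  obtain ⟨π, ζ, c⟩ := L.coord Y hY
  have h := card_D c
  have : Nonempty {x : G // x ∈ Subgroup.centralizer (Y : Set G) ∧ x ∈ D} := by
    by_contra hne
    rw [not_nonempty_iff] at hne
    rw [Nat.card_of_isEmpty] at h
    norm_num at h
  obtain ⟨d, h1, h2⟩ := this
  exact ⟨d, h2, h1⟩

theorem sig_odd [Finite G] {z : G} (hz1 : z ≠ 1) {Y : Subgroup G} (hY : Y ∈ 𝒵) (hz : z ∈ Y) :
    ¬ 2 ∣ Nat.card (Sig 𝒵 z) := by
  obtain ⟨d, hd, hdY⟩ := exists_D L hY
  have hdz : Commute d z := ((Subgroup.mem_centralizer_iff.1 hdY) z hz).symm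
  have hH : ∀ x ∈ Subgroup.zpowers d, Commute x z := by
    intro x hx
    obtain ⟨k, rfl⟩ := Subgroup.mem_zpowers_iff.1 hx
    exact hdz.zpow_left k
  letI := sigAct L z (Subgroup.zpowers d) hH
  haveI : Fact (Nat.Prime 2) := ⟨Nat.prime_two⟩
  have h1 := (isPGroup_zpowers L hd).card_modEq_card_fixedPoints (Sig 𝒵 z)
  have h2 : Nat.card (MulAction.fixedPoints (Subgroup.zpowers d) (Sig 𝒵 z)) = 1 := by
    rw [Nat.card_eq_one_iff_unique]
    constructor
    · constructor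
      rintro ⟨a, ha⟩ ⟨b, hb⟩
      have ha' := congrArg Subtype.val (ha ⟨d, Subgroup.mem_zpowers d⟩)
      have hb' := congrArg Subtype.val (hb ⟨d, Subgroup.mem_zpowers d⟩)
      apply Subtype.ext
      apply Subtype.ext
      exact fix_unique L hd hz1 a.2.1 a.2.2 b.2.1 b.2.2 ha' hb'
    · refine ⟨⟨⟨Y, hY, hz⟩, ?_⟩⟩
      rintro ⟨x, hx⟩
      apply Subtype.ext
      show cj x Y = Y
      have hle : Subgroup.zpowers d ≤ nor Y := by
        rw [Subgroup.zpowers_le]; exact cent_le_nor Y hdY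
      exact hle hx
  rw [h2] at h1
  intro h3
  have h4 := (Nat.modEq_zero_iff_dvd.2 h3).symm.trans h1
  exact absurd h4 (by decide)

theorem card_nor_cent [Finite G] {z : G} (hz1 : z ≠ 1) {Y : Subgroup G} (hY : Y ∈ 𝒵)
    (hz : z ∈ Y) : Nat.card (nor Y ⊓ Subgroup.centralizer {z} : Subgroup G) = 2 ^ 14 * 3 := by
  have h := card_conj_mul (nor Y) z
  rw [L.norm_card Y hY] at h
  have h7 : Nat.card {y : G // ∃ h ∈ nor Y, h * z * h⁻¹ = y} = 7 := by
    have h8 := card_mem L hY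
    have e : Nat.card {y : G // ∃ h ∈ nor Y, h * z * h⁻¹ = y} = Nat.card {y : Y // y ≠ 1} := by
      apply Nat.card_congr
      refine Equiv.ofBijective (fun y => ⟨⟨y.1, ?_⟩, ?_⟩) ⟨?_, ?_⟩
      · obtain ⟨y, h, hh, rfl⟩ := y
        exact conj_mem_of_mem_nor hh hz
      · obtain ⟨y, h, hh, rfl⟩ := y
        intro h1
        have h2 : h * z * h⁻¹ = 1 := congrArg Subtype.val h1
        apply hz1
        have : z = h⁻¹ * (h * z * h⁻¹) * h := by group
        rw [this, h2]; group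
      · intro x y hxy
        simp only [Subtype.mk.injEq] at hxy
        exact Subtype.ext hxy
      · rintro ⟨⟨y, hy⟩, hy1⟩
        have hy1' : y ≠ 1 := fun h => hy1 (Subtype.ext h)
        obtain ⟨n, hn, hn2⟩ := L.norm_trans Y hY z hz y hy hz1 hy1'
        exact ⟨⟨y, n, hn, hn2⟩, rfl⟩
    rw [e]
    have : Nat.card {y : Y // y ≠ 1} = Nat.card Y - 1 := by
      have hfin : Finite Y := Subtype.finite
      letI := Fintype.ofFinite Y
      classical
      rw [Nat.card_eq_fintype_card, Nat.card_eq_fintype_card, Fintype.card_subtype_compl]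
      simp
    rw [this, h8]
  rw [h7] at h
  omega

end

end Cfsg.Agent.Ru127.Count
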