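import Cfsg.Agent.Ru127.Count

/-! At most 192 elements of `D` exchange two given points of `Σ`, and the case of equality. -/

namespace Cfsg.Agent.Ru127.Fiber

open Cfsg.Agent.Ru127.Form Cfsg.Agent.Ru127.Basic Cfsg.Agent.Ru127.NorD Cfsg.Agent.Ru127.Count

variable {W F : Type} [AddCommGroup W] [AddCommGroup F]
variable {G : Type*} [Group G]
variable {D : Set G} {R : RuForm W F} {𝒵 : Set (Subgroup G)}

/-- elements of `C(z)` stabilising the pair `{a, b}`. -/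
def Bs (z : G) (a b : Subgroup G) : Subgroup G where
  carrier := {x | Commute x z ∧ ((cj x a = a ∧ cj x b = b) ∨ (cj x a = b ∧ cj x b = a))}
  mul_mem' := by
    rintro x y ⟨hx, hx'⟩ ⟨hy, hy'⟩
    refine ⟨hx.mul_left hy, ?_⟩
    rcases hx' with ⟨h1, h2⟩ | ⟨h1, h2⟩ <;> rcases hy' with ⟨h3, h4⟩ | ⟨h3, h4⟩ <;>
      simp [cj_mul, h1, h2, h3, h4]
  one_mem' := ⟨Commute.one_left z, Or.inl ⟨cj_one a, cj_one b⟩⟩
  inv_mem' := by
    rintro x ⟨hx, hx'⟩
    refine ⟨hx.inv_left, ?_⟩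
    rcases hx' with ⟨h1, h2⟩ | ⟨h1, h2⟩
    · left
      constructor
      · conv_lhs => rw [← h1]
        exact cj_inv_cj _ _
      · conv_lhs => rw [← h2]
        exact cj_inv_cj _ _
    · right
      constructor
      · conv_lhs => rw [← h2]
        exact cj_inv_cj _ _
      · conv_lhs => rw [← h1]
        exact cj_inv_cj _ _

/-- pointwise stabiliser -/
def B0 (z : G) (a b : Subgroup G) : Subgroup G := Subgroup.centralizer {z} ⊓ nor a ⊓ nor b

theorem mem_B0 {z x : G} {a b : Subgroup G} :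
    x ∈ B0 z a b ↔ Commute x z ∧ cj x a = a ∧ cj x b = b := by
  unfold B0
  rw [Subgroup.mem_inf, Subgroup.mem_inf, mem_nor, mem_nor, Subgroup.mem_centralizer_iff]
  constructor
  · rintro ⟨⟨h1, h2⟩, h3⟩
    exact ⟨(h1 z rfl).symm, h2, h3⟩
  · rintro ⟨h1, h2, h3⟩
    refine ⟨⟨?_, h2⟩, h3⟩
    rintro y rfl
    exact h1.symm

theorem B0_le_Bs (z : G) (a b : Subgroup G) : B0 z a b ≤ Bs z a b := by
  intro x hx
  rw [mem_B0] at hx
  exact ⟨hx.1, Or.inl hx.2⟩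

theorem card_Bs_dvd [Finite G] (z : G) (a b : Subgroup G) :
    Nat.card (Bs z a b) ∣ 2 * Nat.card (B0 z a b) := by
  have h1 := Subgroup.relIndex_mul_relIndex ⊥ (B0 z a b) (Bs z a b) bot_le (B0_le_Bs z a b)
  rw [Subgroup.relIndex_bot_left, Subgroup.relIndex_bot_left] at h1
  rw [← h1, mul_comm]
  apply Nat.mul_dvd_mul_right
  rw [Subgroup.relIndex_dvd_two_iff]
  have hsw : ∀ x ∈ Bs z a b, x ∉ B0 z a b → (Commute x z ∧ cj x a = b ∧ cj x b = a) := by
    intro x hx hx'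
    rcases hx.2 with h | h
    · exact absurd (mem_B0.2 ⟨hx.1, h⟩) hx'
    · exact ⟨hx.1, h⟩
  by_cases hx : ∃ x ∈ Bs z a b, x ∉ B0 z a b
  · obtain ⟨x0, hx0, hx0'⟩ := hx
    obtain ⟨k1, k2, k3⟩ := hsw x0 hx0 hx0'
    refine ⟨x0, hx0, fun y hy => ?_⟩
    by_cases hyB : y ∈ B0 z a b
    · exact Or.inr hyB
    · left
      obtain ⟨l1, l2, l3⟩ := hsw y hy hyB
      rw [mem_B0]
      exact ⟨l1.mul_left k1, by rw [cj_mul, k2, l3], by rw [cj_mul, k3, l2]⟩
  · push Not at hx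
    exact ⟨1, one_mem _, fun y hy => Or.inr (hx y hy)⟩

section
variable (L : LocalData D 𝒵 R)
include L

theorem card_B0_dvd [Finite G] {z : G} (hz1 : z ≠ 1) {a b : Subgroup G} (ha : a ∈ 𝒵)
    (hza : z ∈ a) : Nat.card (B0 z a b) ∣ 2 ^ 14 * 3 := by
  rw [← card_nor_cent L hz1 ha hza]
  apply Subgroup.card_dvd_of_le
  intro x hx
  rw [mem_B0] at hx
  refine ⟨hx.2.1, Subgroup.mem_centralizer_iff.2 ?_⟩
  rintro y rfl
  exact hx.1.symm

theorem no_D_B0 [Finite G] {z : G} (hz1 : z ≠ 1) {a b : Subgroup G} (ha : a ∈ 𝒵)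
    (hza : z ∈ a) (hb : b ∈ 𝒵) (hzb : z ∈ b) (hab : a ≠ b) {d : G} (hd : d ∈ D)
    (h : d ∈ B0 z a b) : False := by
  rw [mem_B0] at h
  exact hab (fix_unique L hd hz1 ha hza hb hzb h.2.1 h.2.2)

/-- the parts of the fibre -/
theorem parts [Finite G] {z : G} (hz1 : z ≠ 1) {a b c : Subgroup G} (ha : a ∈ 𝒵)
    (hza : z ∈ a) (hb : b ∈ 𝒵) (hzb : z ∈ b) (hab : a ≠ b) (hc : c ∈ 𝒵)
    {π : G → W} {ζ : F → G} (cc : IsCoord D c R π ζ) {H : Subgroup G} (hH : H ≤ Bs z a b)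
    (hHc : ∀ x ∈ H, x ∈ nor c) :
    Nat.card {d : G // d ∈ H ∧ d ∈ D ∧ cj d a = b} ≤ 64 ∧
    (Nat.card {d : G // d ∈ H ∧ d ∈ D ∧ cj d a = b} = 64 → ∀ i, ∃ e, (e ∈ H ∧ e ∈ D ∧ cj e a = b) ∧
      e ∈ Subgroup.centralizer (c : Set G) ∧ π e ∈ R.V i ∧
      (∀ x ∈ Subgroup.centralizer (c : Set G), π x = π e → (x ∈ H ∧ x ∈ D ∧ cj x a = b)) ∧
      ∀ d, (d ∈ H ∧ d ∈ D ∧ cj d a = b) → π d ∈ R.V i → π d = π e) := by
  classical
  let Fb : Set G := {d | d ∈ H ∧ d ∈ D ∧ cj d a = b}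
  let P : Fin 8 → Set G := fun i => {d | (d ∈ H ∧ d ∈ D ∧ cj d a = b) ∧ π d ∈ R.V i}
  have hcent : ∀ d ∈ Fb, d ∈ Subgroup.centralizer (c : Set G) :=
    fun d hd => D_nor L hd.2.1 hc (hHc d hd.1)
  have hcover : Fb = ⋃ i ∈ (Finset.univ : Finset (Fin 8)), P i := by
    ext d
    simp only [Set.mem_iUnion, Finset.mem_univ, exists_true_left]
    constructor
    · intro hd
      obtain ⟨_, i, hi⟩ := (cc.D_iff d (hcent d hd)).1 hd.2.1
      exact ⟨i, hd, hi⟩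
    · rintro ⟨i, hd, _⟩
      exact hd
  have hsame : ∀ i, ∀ d ∈ P i, ∀ e ∈ P i, π d = π e := by
    intro i d hd e he
    have hdc := hcent d hd.1
    have hec := hcent e he.1
    by_contra hne
    have h1 : π (d * e) = π d + π e := cc.π_mul d hdc e hec
    have h2 : d * e ∈ D := by
      rw [cc.D_iff _ (mul_mem hdc hec)]
      refine ⟨?_, i, ?_⟩
      · rw [h1]
        intro h
        apply hne
        exact add_left_cancel ((h.trans (R.twoW (π d)).symm)).symm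
      · rw [h1]; exact (R.V i).add_mem hd.2 he.2
    apply no_D_B0 L hz1 ha hza hb hzb hab h2
    rw [mem_B0]
    have hda : cj d b = a := by rw [← hd.1.2.2]; exact cj_cj_self L hd.1.2.1 a
    have hea : cj e b = a := by rw [← he.1.2.2]; exact cj_cj_self L he.1.2.1 a
    exact ⟨(hH (mul_mem hd.1.1 he.1.1)).1, by rw [cj_mul, he.1.2.2, hda],
      by rw [cj_mul, hea, hd.1.2.2]⟩
  have hcoset : ∀ w : W, ({x : G | x ∈ Subgroup.centralizer (c : Set G) ∧ π x = w}).ncard = 8 := by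
    intro w
    have h := cardPre cc {w}
    have h1 : Nat.card ({w} : Set W) = 1 := by simp
    rw [h1, one_mul] at h
    exact h
  have hP8 : ∀ i, (P i).ncard ≤ 8 := by
    intro i
    by_cases hne : (P i).Nonempty
    · obtain ⟨e, he⟩ := hne
      rw [← hcoset (π e)]
      apply Set.ncard_le_ncard
      · intro d hd
        exact ⟨hcent d hd.1, hsame i d hd e he⟩
      · exact Set.toFinite _
    · rw [Set.not_nonempty_iff_eq_empty] at hne
      rw [hne]; simp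
  have hFb : Nat.card {d : G // d ∈ H ∧ d ∈ D ∧ cj d a = b} = Fb.ncard := rfl
  have hle : Fb.ncard ≤ ∑ i, (P i).ncard := by
    rw [hcover]
    exact Finset.set_ncard_biUnion_le _ _
  have hsum : ∑ i, (P i).ncard ≤ ∑ i : Fin 8, 8 := Finset.sum_le_sum (fun i _ => hP8 i)
  have h64 : (∑ i : Fin 8, 8) = 64 := by simp
  refine ⟨by rw [hFb]; omega, fun heq i => ?_⟩
  rw [hFb] at heq
  have hPi : (P i).ncard = 8 := by
    by_contra hne
    have hlt : (P i).ncard < 8 := lt_of_le_of_ne (hP8 i) hne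
    have : ∑ i, (P i).ncard < ∑ i : Fin 8, 8 :=
      Finset.sum_lt_sum (fun i _ => hP8 i) ⟨i, Finset.mem_univ _, hlt⟩
    omega
  have hne : (P i).Nonempty := by
    rw [← Set.ncard_pos (Set.toFinite _)]; omega
  obtain ⟨e, he⟩ := hne
  refine ⟨e, he.1, hcent e he.1, he.2, ?_, fun d hd hdi => hsame i d ⟨hd, hdi⟩ e he⟩
  intro x hx hxe
  have hsub : P i ⊆ {x : G | x ∈ Subgroup.centralizer (c : Set G) ∧ π x = π e} := by
    intro d hd
    exact ⟨hcent d hd.1, hsame i d hd e he⟩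
  have heqs : P i = {x : G | x ∈ Subgroup.centralizer (c : Set G) ∧ π x = π e} := by
    apply Set.eq_of_subset_of_ncard_le hsub
    rw [hcoset, hPi]
  have : x ∈ P i := by rw [heqs]; exact ⟨hx, hxe⟩
  exact this.1

end

end Cfsg.Agent.Ru127.Fiber
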