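import Cfsg.Agent.Ru127.Basic

/-! Totally isotropic subspaces have order at most 16. -/

namespace Cfsg.Agent.Ru127.Iso

open Cfsg.Agent.Ru127.Form Cfsg.Agent.Ru127.Basic

variable {W F : Type} [AddCommGroup W] [AddCommGroup F]

theorem card_le_16 (R : RuForm W F) (S : AddSubgroup F) (hS : S ≠ ⊤) (U : AddSubgroup W)
    (hU : ∀ u ∈ U, R.q u ∈ S) : Nat.card U ≤ 16 := by
  have hFW : Finite W := Nat.finite_of_card_ne_zero (by rw [R.cardW]; norm_num)
  have hFF : Finite F := Nat.finite_of_card_ne_zero (by rw [R.cardF]; norm_num)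
  letI : Module (ZMod 2) W := AddCommGroup.zmodModule (n := 2)
    (fun x => by rw [two_nsmul]; exact R.twoW x)
  letI : Module (ZMod 2) F := AddCommGroup.zmodModule (n := 2)
    (fun x => by rw [two_nsmul]; exact R.twoF x)
  haveI : Fact (Nat.Prime 2) := ⟨Nat.prime_two⟩
  let S' : Submodule (ZMod 2) F := AddSubgroup.toZModSubmodule 2 S
  have hS' : S' < ⊤ := by
    rw [lt_top_iff_ne_top]
    intro h
    apply hS
    rw [eq_top_iff]
    intro x _
    have : x ∈ S' := by rw [h]; trivial
    exact this
  obtain ⟨f, hf, hle⟩ := Submodule.exists_le_ker_of_lt_top S' hS'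
  have hb_add : ∀ x y z, R.b (x + y) z = R.b x z + R.b y z := by
    intro x y z
    rw [R.b_symm, R.b_add, R.b_symm z x, R.b_symm z y]
  let B : LinearMap.BilinForm (ZMod 2) W :=
    AddMonoidHom.toZModLinearMap 2 (AddMonoidHom.mk'
      (fun u => AddMonoidHom.toZModLinearMap 2
        (AddMonoidHom.mk' (fun w => f (R.b u w))
          (fun x y => by rw [R.b_add, map_add])))
      (fun x y => by
        ext w
        show f (R.b (x + y) w) = f (R.b x w) + f (R.b y w)
        rw [hb_add, map_add]))
  have hB : ∀ u w, B u w = f (R.b u w) := fun _ _ => rfl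
  have hker : LinearMap.ker B = ⊥ := by
    rw [LinearMap.ker_eq_bot']
    intro u hu
    by_contra hne
    apply hf
    ext x
    obtain ⟨w, hw⟩ := R.q1 u hne x
    rw [← hw, ← hB, hu]
    rfl
  let U' : Submodule (ZMod 2) W := AddSubgroup.toZModSubmodule 2 U
  have horth : U' ≤ B.orthogonal U' := by
    intro x hx
    rw [LinearMap.BilinForm.mem_orthogonal_iff]
    intro y hy
    show B y x = 0
    rw [hB]
    have h1 : R.b y x ∈ S := by
      have h2 := R.q_add y x
      have h3 : R.b y x = R.q (y + x) + R.q y + R.q x := by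
        rw [h2]
        have e1 := R.twoF (R.q y)
        have e2 := R.twoF (R.q x)
        calc R.b y x = (R.q y + R.q y) + (R.q x + R.q x) + R.b y x := by rw [e1, e2]; simp
          _ = _ := by abel
      rw [h3]
      exact S.add_mem (S.add_mem (hU _ (U.add_mem hy hx)) (hU _ hy)) (hU _ hx)
    exact hle h1
  have hfin := LinearMap.BilinForm.finrank_add_finrank_orthogonal' (B := B) U'
  have hker' : Module.finrank (ZMod 2) (U' ⊓ LinearMap.ker B : Submodule (ZMod 2) W) = 0 := by
    rw [hker, inf_bot_eq, finrank_bot]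
  rw [hker', add_zero] at hfin
  have hmono := Submodule.finrank_mono horth
  have hW8 : Module.finrank (ZMod 2) W = 8 := by
    have h1 := Module.natCard_eq_pow_finrank (K := ZMod 2) (V := W)
    rw [R.cardW, Nat.card_zmod] at h1
    have h2 : (2 : ℕ) ^ 8 = 2 ^ Module.finrank (ZMod 2) W := by rw [← h1]; norm_num
    exact (Nat.pow_right_injective (le_refl 2) h2).symm
  have hU4 : Module.finrank (ZMod 2) U' ≤ 4 := by omega
  have h1 := Module.natCard_eq_pow_finrank (K := ZMod 2) (V := U')
  rw [Nat.card_zmod] at h1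
  have h2 : Nat.card U = Nat.card U' := rfl
  rw [h2, h1]
  calc 2 ^ Module.finrank (ZMod 2) U' ≤ 2 ^ 4 := Nat.pow_le_pow_right (by norm_num) hU4
    _ = 16 := by norm_num

end Cfsg.Agent.Ru127.Iso
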