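import Cfsg.Agent.Ru127.Total
import Cfsg.Agent.Ru127.Iso

/-! Consequences of the count: `|Σ| ∈ {1, 5}`. -/

namespace Cfsg.Agent.Ru127.Five

open Cfsg.Agent.Ru127.Form Cfsg.Agent.Ru127.Basic Cfsg.Agent.Ru127.NorD Cfsg.Agent.Ru127.Count
  Cfsg.Agent.Ru127.Fiber Cfsg.Agent.Ru127.Total Cfsg.Agent.Ru127.Iso

variable {W F : Type} [AddCommGroup W] [AddCommGroup F]
variable {G : Type*} [Group G]
variable {D : Set G} {R : RuForm W F} {𝒵 : Set (Subgroup G)}

theorem card_prop_le (b : Subgroup G) (hb : Nat.card b = 8) (I : Subgroup G) (hI : I ≤ b)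
    (hne : I ≠ b) : Nat.card I ≤ 4 := by
  have hfin : Finite b := Nat.finite_of_card_ne_zero (by rw [hb]; norm_num)
  have hdvd := Subgroup.card_dvd_of_le hI
  rw [hb] at hdvd
  have h8 : Nat.card I ≠ 8 := by
    intro h8
    exact hne (Subgroup.eq_of_le_of_card_ge hI (by rw [hb, h8]))
  have : Nat.card I ∈ Nat.divisors 8 := Nat.mem_divisors.2 ⟨hdvd, by norm_num⟩
  rw [show Nat.divisors 8 = {1, 2, 4, 8} by decide +kernel] at this
  simp only [Finset.mem_insert, Finset.mem_singleton] at this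
  omega

section
variable (L : LocalData D 𝒵 R)
include L

/-- (a) `Z_c ≤ N(Z_b)` -/
theorem mem_nor_of_mem [Finite G] {z : G} (hz1 : z ≠ 1) {b c : Subgroup G} (hb : b ∈ 𝒵)
    (hzb : z ∈ b) (hc : c ∈ 𝒵) (hzc : z ∈ c) (hbc : b ≠ c) {y : G} (hy : y ∈ c) : y ∈ nor b := by
  obtain ⟨d, hd, hdc⟩ := exists_D L hc
  obtain ⟨π, ζ, cc⟩ := L.coord c hc
  exact (swap_data L hz1 hb hzb hc hzc hbc hd hdc cc).1 y hy

/-- (b) two members of `Σ` meet in `⟨z⟩`. -/
theorem inf_eq [Finite G] {z : G} (hz1 : z ≠ 1) {b c : Subgroup G} (hb : b ∈ 𝒵)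
    (hzb : z ∈ b) (hc : c ∈ 𝒵) (hzc : z ∈ c) (hbc : b ≠ c) {j : G} (hjb : j ∈ b) (hjc : j ∈ c) :
    j = 1 ∨ j = z := by
  by_contra hcon
  push Not at hcon
  obtain ⟨hj1, hjz⟩ := hcon
  haveI : Fact (Nat.Prime 3) := ⟨Nat.prime_three⟩
  obtain ⟨⟨y, hyB⟩, hy3⟩ := exists_prime_orderOf_dvd_card' 3 (three_dvd L hz1 hb hzb hc hzc hbc)
  have hyo : orderOf y = 3 := by
    rw [← hy3]; exact (orderOf_injective (B0 z b c).subtype Subtype.val_injective ⟨y, hyB⟩)
  rw [mem_B0] at hyB
  obtain ⟨hyz, hyb, hyc⟩ := hyB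
  have hy3' : y * y * y = 1 := by
    have := pow_orderOf_eq_one y
    rw [hyo, pow_succ, pow_two] at this
    exact this
  let I : Subgroup G := b ⊓ c
  have hIb : I ≤ b := inf_le_left
  have hIne : I ≠ b := by
    intro h
    have : b ≤ c := by rw [← h]; exact inf_le_right
    exact hbc (eq_of_le L hb hc this)
  have hI4 := card_prop_le b (card_mem L hb) I hIb hIne
  have hzI : z ∈ I := ⟨hzb, hzc⟩
  have hjI : j ∈ I := ⟨hjb, hjc⟩
  have hzz := sq_mem L hb hzb
  have hjj := sq_mem L hb hjb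
  have hcomm : Commute z j := comm_mem L hb hzb hjb
  -- I = {1, z, j, z*j}
  have hIfin : (I : Set G).Finite := Set.toFinite _
  have hIset : (I : Set G) = {1, z, j, z * j} := by
    symm
    apply Set.eq_of_subset_of_ncard_le
    · intro x hx
      simp only [Set.mem_insert_iff, Set.mem_singleton_iff] at hx
      rcases hx with rfl | rfl | rfl | rfl
      · exact I.one_mem
      · exact hzI
      · exact hjI
      · exact I.mul_mem hzI hjI
    · have h4 : ({1, z, j, z * j} : Set G).ncard = 4 := by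
        classical
        have : ({1, z, j, z * j} : Set G) = (({1, z, j, z * j} : Finset G) : Set G) := by simp
        rw [this, Set.ncard_coe_finset]
        rw [Finset.card_insert_of_notMem, Finset.card_insert_of_notMem,
          Finset.card_insert_of_notMem, Finset.card_singleton]
        · simp only [Finset.mem_singleton]
          intro h
          exact hz1 (by simpa using h.symm)
        · simp only [Finset.mem_insert, Finset.mem_singleton, not_or]
          exact ⟨fun h => hjz h.symm, fun h => hj1 (by simpa using h)⟩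
        · simp only [Finset.mem_insert, Finset.mem_singleton, not_or]
          refine ⟨fun h => hz1 h.symm, fun h => hj1 h.symm, fun h => hjz ?_⟩
          have : z * z = z * j := by rw [hzz]; exact h
          exact (mul_left_cancel this).symm
      rw [h4]
      exact hI4
    · exact hIfin
  have hnorI : ∀ x ∈ I, y * x * y⁻¹ ∈ I := fun x hx =>
    ⟨conj_mem_of_mem_nor hyb hx.1, conj_mem_of_mem_nor hyc hx.2⟩
  -- y commutes with j
  have hyzI : y * z * y⁻¹ = z := by rw [hyz.eq]; group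
  have hyj : y * j * y⁻¹ = j := by
    have h1 := hnorI j hjI
    have h2 : y * j * y⁻¹ ∈ (I : Set G) := h1
    rw [hIset] at h2
    simp only [Set.mem_insert_iff, Set.mem_singleton_iff] at h2
    rcases h2 with h | h | h | h
    · exfalso
      apply hj1
      have : j = y⁻¹ * (y * j * y⁻¹) * y := by group
      rw [this, h]; group
    · exfalso
      apply hjz
      have : j = y⁻¹ * (y * j * y⁻¹) * y := by group
      rw [this, h, mul_assoc, ← hyz.eq]; group
    · exact h
    · exfalso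
      -- y² fixes j, hence y = (y²)² fixes j
      have h5 : y * (y * j * y⁻¹) * y⁻¹ = j := by
        rw [h]
        calc y * (z * j) * y⁻¹ = (y * z * y⁻¹) * (y * j * y⁻¹) := by group
          _ = z * (z * j) := by rw [hyzI, h]
          _ = j := by rw [← mul_assoc, hzz, one_mul]
      have h6 : y * (y * (y * j * y⁻¹) * y⁻¹) * y⁻¹ = j := by
        calc y * (y * (y * j * y⁻¹) * y⁻¹) * y⁻¹ = (y * y * y) * j * (y * y * y)⁻¹ := by group
          _ = j := by rw [hy3']; group
      rw [h5, h] at h6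
      apply hz1
      simpa using h6
  have hyI : ∀ x ∈ I, y * x * y⁻¹ = x := by
    intro x hx
    have : x ∈ (I : Set G) := hx
    rw [hIset] at this
    simp only [Set.mem_insert_iff, Set.mem_singleton_iff] at this
    rcases this with rfl | rfl | rfl | rfl
    · group
    · exact hyzI
    · exact hyj
    · calc y * (z * j) * y⁻¹ = (y * z * y⁻¹) * (y * j * y⁻¹) := by group
        _ = z * j := by rw [hyzI, hyj]
  -- index two
  have hIcard : Nat.card I = 4 := by
    have h4 : 4 ≤ Nat.card I := by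
      have : Nat.card I = (I : Set G).ncard := rfl
      rw [this, hIset]
      classical
      have : ({1, z, j, z * j} : Set G) = (({1, z, j, z * j} : Finset G) : Set G) := by simp
      rw [this, Set.ncard_coe_finset]
      rw [Finset.card_insert_of_notMem, Finset.card_insert_of_notMem,
        Finset.card_insert_of_notMem, Finset.card_singleton]
      · simp only [Finset.mem_singleton]
        intro h
        exact hz1 (by simpa using h.symm)
      · simp only [Finset.mem_insert, Finset.mem_singleton, not_or]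
        exact ⟨fun h => hjz h.symm, fun h => hj1 (by simpa using h)⟩
      · simp only [Finset.mem_insert, Finset.mem_singleton, not_or]
        refine ⟨fun h => hz1 h.symm, fun h => hj1 h.symm, fun h => hjz ?_⟩
        have : z * z = z * j := by rw [hzz]; exact h
        exact (mul_left_cancel this).symm
    omega
  have hrel : I.relIndex b = 2 := by
    have h1 := Subgroup.relIndex_mul_relIndex ⊥ I b bot_le hIb
    rw [Subgroup.relIndex_bot_left, Subgroup.relIndex_bot_left, hIcard, card_mem L hb] at h1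
    omega
  obtain ⟨a, ha, hxor⟩ := Subgroup.relIndex_eq_two_iff.1 hrel
  have hout : ∀ k ∈ b, k ∉ I → ∀ k' ∈ b, k' ∉ I → k * k'⁻¹ ∈ I := by
    intro k hk hkI k' hk' hkI'
    have h1 : k * a ∈ I := by
      rcases hxor k hk with h | h
      · exact h.1
      · exact absurd h.1 hkI
    have h2 : k' * a ∈ I := by
      rcases hxor k' hk' with h | h
      · exact h.1
      · exact absurd h.1 hkI'
    have := I.mul_mem h1 (I.inv_mem h2)
    have e : k * a * (k' * a)⁻¹ = k * k'⁻¹ := by group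
    rwa [e] at this
  have hcent : y ∈ Subgroup.centralizer (b : Set G) := by
    rw [Subgroup.mem_centralizer_iff]
    intro k hk
    have hk : k ∈ b := hk
    by_cases hkI : k ∈ I
    · have := hyI k hkI
      calc k * y = (y * k * y⁻¹) * y := by rw [this]
        _ = y * k := by group
    · -- y k y⁻¹ = i k with i ∈ I
      have hk' : y * k * y⁻¹ ∈ b := conj_mem_of_mem_nor hyb hk
      have hkI' : y * k * y⁻¹ ∉ I := by
        intro h
        apply hkI
        have h2 := hyI _ h
        have h3 : y * (y * k * y⁻¹) * y⁻¹ = y * k * y⁻¹ := h2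
        have h4 : y * k * y⁻¹ = k := by
          have := congrArg (fun x => y⁻¹ * x * y) h3
          simpa [mul_assoc] using this
        rwa [h4] at h
      have hi := hout _ hk' hkI' k hk hkI
      set i := y * k * y⁻¹ * k⁻¹ with hidef
      have e1 : y * k * y⁻¹ = i * k := by rw [hidef]; group
      have hii : i * i = 1 := sq_mem L hb (hIb hi)
      have e2 : y * (y * k * y⁻¹) * y⁻¹ = k := by
        rw [e1]
        calc y * (i * k) * y⁻¹ = (y * i * y⁻¹) * (y * k * y⁻¹) := by group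
          _ = i * (i * k) := by rw [hyI i hi, e1]
          _ = k := by rw [← mul_assoc, hii, one_mul]
      have e3 : y * (y * (y * k * y⁻¹) * y⁻¹) * y⁻¹ = k := by
        calc y * (y * (y * k * y⁻¹) * y⁻¹) * y⁻¹ = (y * y * y) * k * (y * y * y)⁻¹ := by group
          _ = k := by rw [hy3']; group
      rw [e2] at e3
      calc k * y = (y * k * y⁻¹) * y := by rw [e3]
        _ = y * k := by group
  -- order of y divides 2^11
  obtain ⟨π, ζ, cb⟩ := L.coord b hb
  have h1 : orderOf (⟨y, hcent⟩ : Subgroup.centralizer (b : Set G)) ∣ 2 ^ 11 := by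
    rw [← card_cent cb]; exact orderOf_dvd_natCard _
  rw [Subgroup.orderOf_mk, hyo] at h1
  exact absurd h1 (by norm_num)

/-- The subgroup `K = C(c) ∩ N(b)` in coordinates. -/
theorem exists_Kbar [Finite G] {z : G} (hz1 : z ≠ 1) {b c : Subgroup G} (hb : b ∈ 𝒵)
    (hzb : z ∈ b) (hc : c ∈ 𝒵) (hzc : z ∈ c) (hbc : b ≠ c) {π : G → W} {ζ : F → G}
    (cc : IsCoord D c R π ζ) :
    ∃ Kb : AddSubgroup W, Nat.card Kb = 64 ∧ (∀ w ∈ Kb, w ∉ R.T) ∧
      ∀ x ∈ Subgroup.centralizer (c : Set G), (x ∈ nor b ↔ π x ∈ Kb) := by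
  have hcnb : ∀ y ∈ c, y ∈ nor b := fun y hy => mem_nor_of_mem L hz1 hb hzb hc hzc hbc hy
  let Kb : AddSubgroup W :=
    { carrier := {w | ∃ x ∈ Subgroup.centralizer (c : Set G), x ∈ nor b ∧ π x = w}
      add_mem' := by
        rintro _ _ ⟨x, hx, hxb, rfl⟩ ⟨y, hy, hyb, rfl⟩
        exact ⟨x * y, mul_mem hx hy, mul_mem hxb hyb, cc.π_mul x hx y hy⟩
      zero_mem' := ⟨1, one_mem _, one_mem _, π_one cc⟩
      neg_mem' := by
        rintro _ ⟨x, hx, hxb, rfl⟩
        refine ⟨x, hx, hxb, ?_⟩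
        rw [eq_neg_iff_add_eq_zero, R.twoW] }
  have hiff : ∀ x ∈ Subgroup.centralizer (c : Set G), (x ∈ nor b ↔ π x ∈ Kb) := by
    intro x hx
    constructor
    · intro h; exact ⟨x, hx, h, rfl⟩
    · rintro ⟨k, hk, hkb, hkx⟩
      have h1 : k⁻¹ * x ∈ c := by
        rw [← cc.π_ker _ (mul_mem (inv_mem hk) hx), cc.π_mul _ (inv_mem hk) _ hx, π_inv cc hk,
          hkx, R.twoW]
      have h2 := mul_mem hkb (hcnb _ h1)
      rwa [mul_inv_cancel_left] at h2
  have hT : ∀ w ∈ Kb, w ∉ R.T := by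
    rintro _ ⟨x, hx, hxb, rfl⟩ hxT
    have hxD := (cc.D_iff x hx).2 hxT
    exact hbc (fix_unique L hxD hz1 hb hzb hc hzc hxb (cent_le_nor c hx))
  refine ⟨Kb, ?_, hT, hiff⟩
  -- W = Kb ⊕ V 0
  have htop : Kb ⊔ R.V 0 = ⊤ := by
    rw [eq_top_iff, ← R.spanT, AddSubgroup.closure_le]
    intro t ht
    obtain ⟨d, hdc, rfl⟩ := cc.π_surj t
    have hdD := (cc.D_iff d hdc).2 ht
    obtain ⟨e, he, hec, heV, hde⟩ := (swap_data L hz1 hb hzb hc hzc hbc hdD hdc cc).2 0
    have h1 : π (d * e) ∈ Kb := (hiff _ (mul_mem hdc hec)).1 hde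
    rw [cc.π_mul d hdc e hec] at h1
    have h2 : π d = (π d + π e) + π e := by rw [add_assoc, R.twoW, add_zero]
    rw [h2]
    exact (Kb ⊔ R.V 0).add_mem ((le_sup_left : Kb ≤ _) h1) ((le_sup_right : R.V 0 ≤ _) heV)
  have hbot : ∀ w ∈ Kb, w ∈ R.V 0 → w = 0 := by
    intro w hw hwV
    by_contra hne
    exact hT w hw ⟨hne, 0, hwV⟩
  have hbij : Function.Bijective (fun p : Kb × R.V 0 => (p.1 : W) + (p.2 : W)) := by
    constructor
    · rintro ⟨k, v⟩ ⟨k', v'⟩ h
      simp only at h
      have h1 : (k : W) + (k' : W) = (v : W) + (v' : W) := by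
        have e1 : (k : W) + (k' : W) = ((k : W) + (v : W)) + ((k' : W) + (v : W)) := by
          rw [show (k : W) + (v : W) + ((k' : W) + (v : W)) =
            (k : W) + (k' : W) + ((v : W) + (v : W)) by abel, R.twoW, add_zero]
        rw [e1, h]
        rw [show (k' : W) + (v' : W) + ((k' : W) + (v : W)) =
            ((k' : W) + (k' : W)) + ((v : W) + (v' : W)) by abel, R.twoW, zero_add]
      have h2 : (k : W) + (k' : W) = 0 :=
        hbot _ (Kb.add_mem k.2 k'.2) (by rw [h1]; exact (R.V 0).add_mem v.2 v'.2)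
      have h3 : (v : W) + (v' : W) = 0 := by rw [← h1, h2]
      have h4 : (k : W) = k' := by
        have := R.twoW (k' : W)
        exact add_right_cancel (h2.trans this.symm)
      have h5 : (v : W) = v' := by
        have := R.twoW (v' : W)
        exact add_right_cancel (h3.trans this.symm)
      exact Prod.ext (Subtype.ext h4) (Subtype.ext h5)
    · intro w
      have : w ∈ Kb ⊔ R.V 0 := by rw [htop]; trivial
      obtain ⟨k, hk, v, hv, rfl⟩ := AddSubgroup.mem_sup.1 this
      exact ⟨⟨⟨k, hk⟩, ⟨v, hv⟩⟩, rfl⟩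
  have hcard := Nat.card_congr (Equiv.ofBijective _ hbij)
  rw [Nat.card_prod, R.cardV, R.cardW] at hcard
  omega

theorem card_K [Finite G] {z : G} (hz1 : z ≠ 1) {b c : Subgroup G} (hb : b ∈ 𝒵)
    (hzb : z ∈ b) (hc : c ∈ 𝒵) (hzc : z ∈ c) (hbc : b ≠ c) :
    Nat.card (Subgroup.centralizer (c : Set G) ⊓ nor b : Subgroup G) = 512 := by
  obtain ⟨π, ζ, cc⟩ := L.coord c hc
  obtain ⟨Kb, hKb, _, hiff⟩ := exists_Kbar L hz1 hb hzb hc hzc hbc cc
  have h := cardPre cc (Kb : Set W)
  have h2 : Nat.card (Kb : Set W) = 64 := hKb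
  rw [h2] at h
  rw [show (512 : ℕ) = 64 * 8 by norm_num, ← h]
  apply Nat.card_congr
  refine Equiv.subtypeEquivRight (fun x => ?_)
  constructor
  · rintro ⟨h1, h2⟩
    exact ⟨h1, (hiff x h1).1 h2⟩
  · rintro ⟨h1, h2⟩
    exact ⟨h1, (hiff x h1).2 h2⟩

/-- (d) `Z_b ≤ C(Z_c)` -/
theorem le_cent_of_ne [Finite G] {z : G} (hz1 : z ≠ 1) {b c : Subgroup G} (hb : b ∈ 𝒵)
    (hzb : z ∈ b) (hc : c ∈ 𝒵) (hzc : z ∈ c) (hbc : b ≠ c) {j : G} (hj : j ∈ b) :
    j ∈ Subgroup.centralizer (c : Set G) := by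
  by_contra hjc
  have hjn : j ∈ nor c := mem_nor_of_mem L hz1 hc hzc hb hzb hbc.symm hj
  let K : Subgroup G := Subgroup.centralizer (c : Set G) ⊓ nor b
  have hK := card_K L hz1 hb hzb hc hzc hbc
  let I : Subgroup G := b ⊓ Subgroup.centralizer (c : Set G)
  have hI4 : Nat.card I ≤ 4 := by
    apply card_prop_le b (card_mem L hb) I inf_le_left
    intro h
    apply hjc
    have : j ∈ I := by rw [h]; exact hj
    exact this.2
  have hfinI : Finite I := inferInstance
  have horb := card_conj_mul K j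
  have horb4 : Nat.card {y : G // ∃ h ∈ K, h * j * h⁻¹ = y} ≤ 4 := by
    refine le_trans (Nat.card_le_card_of_injective
      (fun y : {y : G // ∃ h ∈ K, h * j * h⁻¹ = y} => (⟨j⁻¹ * y.1, ?_⟩ : I)) ?_) hI4
    · obtain ⟨y, h, hh, rfl⟩ := y
      refine ⟨mul_mem (b.inv_mem hj) (conj_mem_of_mem_nor hh.2 hj), ?_⟩
      have h1 : j⁻¹ * h * j ∈ Subgroup.centralizer (c : Set G) := by
        have := conj_mem_cent ((nor c).inv_mem hjn) hh.1
        simpa using this
      have h2 : j⁻¹ * (h * j * h⁻¹) = (j⁻¹ * h * j) * h⁻¹ := by group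
      show j⁻¹ * (h * j * h⁻¹) ∈ Subgroup.centralizer (c : Set G)
      rw [h2]
      exact mul_mem h1 (inv_mem hh.1)
    · intro x y hxy
      simp only [Subtype.mk.injEq, mul_right_inj] at hxy
      exact Subtype.ext hxy
  have hKc : 128 ≤ Nat.card (K ⊓ Subgroup.centralizer {j} : Subgroup G) := by
    have h512 : Nat.card K = 512 := hK
    rw [h512] at horb
    by_contra hlt
    push Not at hlt
    have := Nat.mul_le_mul horb4 (Nat.le_of_lt_succ hlt)
    omega
  -- upper bound
  have hFW : Finite W := Nat.finite_of_card_ne_zero (by rw [R.cardW]; norm_num)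
  obtain ⟨π, ζ, cc⟩ := L.coord c hc
  let C : Subgroup G := Subgroup.centralizer (c : Set G) ⊓ Subgroup.centralizer {j}
  let U : AddSubgroup W :=
    { carrier := {w | ∃ x ∈ C, π x = w}
      add_mem' := by
        rintro _ _ ⟨x, hx, rfl⟩ ⟨y, hy, rfl⟩
        exact ⟨x * y, mul_mem hx hy, cc.π_mul x hx.1 y hy.1⟩
      zero_mem' := ⟨1, one_mem _, π_one cc⟩
      neg_mem' := by
        rintro _ ⟨x, hx, rfl⟩
        refine ⟨x, hx, ?_⟩
        rw [eq_neg_iff_add_eq_zero, R.twoW] }
  let S : AddSubgroup F :=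
    { carrier := {a | ζ a ∈ Subgroup.centralizer {j}}
      add_mem' := by
        intro a b ha hb
        show ζ (a + b) ∈ Subgroup.centralizer {j}
        rw [cc.ζ_add]; exact mul_mem ha hb
      zero_mem' := by
        show ζ 0 ∈ Subgroup.centralizer {j}
        rw [ζ_zero cc]; exact one_mem _
      neg_mem' := by
        intro a ha
        have : -a = a := by rw [neg_eq_iff_add_eq_zero, R.twoF]
        rw [this]; exact ha }
  have hS : S ≠ ⊤ := by
    intro h
    apply hjc
    rw [Subgroup.mem_centralizer_iff]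
    intro y hy
    obtain ⟨a, rfl⟩ := (cc.ζ_range y).1 hy
    have h1 : a ∈ S := by rw [h]; trivial
    have h2 : ζ a ∈ Subgroup.centralizer {j} := h1
    exact ((Subgroup.mem_centralizer_iff.1 h2) j rfl).symm
  have hU16 : Nat.card U ≤ 16 := by
    apply card_le_16 R S hS U
    rintro _ ⟨x, hx, rfl⟩
    show ζ (R.q (π x)) ∈ Subgroup.centralizer {j}
    rw [← cc.sq x hx.1]
    exact mul_mem hx.2 hx.2
  have hcj : Nat.card (c ⊓ Subgroup.centralizer {j} : Subgroup G) ≤ 4 := by
    apply card_prop_le c (card_mem L hc) _ inf_le_left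
    intro h
    apply hjc
    rw [Subgroup.mem_centralizer_iff]
    intro y hy
    have h1 : y ∈ (c ⊓ Subgroup.centralizer {j} : Subgroup G) := by rw [h]; exact hy
    exact ((Subgroup.mem_centralizer_iff.1 h1.2) j rfl).symm
  have hC64 : Nat.card C ≤ 64 := by
    -- choose representatives
    have hsec : ∀ w : U, ∃ x ∈ C, π x = w := fun w => w.2
    choose s hs hπ using hsec
    have hinj : Nat.card C ≤ Nat.card (U × (c ⊓ Subgroup.centralizer {j} : Subgroup G)) := by
      refine Nat.card_le_card_of_injective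
        (fun x : C => (⟨π x, ⟨x.1, x.2, rfl⟩⟩, ⟨(s ⟨π x, ⟨x.1, x.2, rfl⟩⟩)⁻¹ * x.1, ?_⟩)) ?_
      · have h1 := hs ⟨π x, ⟨x.1, x.2, rfl⟩⟩
        refine ⟨?_, (Subgroup.centralizer {j}).mul_mem
          ((Subgroup.centralizer {j}).inv_mem h1.2) x.2.2⟩
        show _ ∈ c
        rw [← cc.π_ker _ (mul_mem (inv_mem h1.1) x.2.1), cc.π_mul _ (inv_mem h1.1) _ x.2.1,
          π_inv cc h1.1, hπ, R.twoW]
      · intro x y hxy
        simp only [Prod.mk.injEq, Subtype.mk.injEq] at hxy
        obtain ⟨h1, h2⟩ := hxy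
        have h3 : s ⟨π x, ⟨x.1, x.2, rfl⟩⟩ = s ⟨π y, ⟨y.1, y.2, rfl⟩⟩ := by
          congr 1
          exact Subtype.ext h1
        have h4 := congrArg Subtype.val h2
        simp only at h4
        rw [h3] at h4
        exact Subtype.ext (mul_left_cancel h4)
    rw [Nat.card_prod] at hinj
    calc Nat.card C ≤ _ := hinj
      _ ≤ 16 * 4 := Nat.mul_le_mul hU16 hcj
      _ = 64 := by norm_num
  have hle : Nat.card (K ⊓ Subgroup.centralizer {j} : Subgroup G) ≤ Nat.card C := by
    have : (K ⊓ Subgroup.centralizer {j} : Subgroup G) ≤ C := by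
      rintro x ⟨⟨h1, _⟩, h2⟩
      exact ⟨h1, h2⟩
    exact Nat.card_le_card_of_injective _ (Subgroup.inclusion_injective this)
  omega

end

end Cfsg.Agent.Ru127.Five
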