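import Cfsg.Agent.RuB.Core
import Cfsg.Agent.J2Type.FourSelfCent

/-!
# Centralisers of elements of odd prime order of `L`

For `x ∈ L` of prime order `p ≥ 5` with `C_L(x) = ⟨x⟩`, the group `C_G(x)/⟨x⟩` has a self-centralising
four-subgroup containing the centralisers of its involutions.
-/

set_option autoImplicit false

namespace Cfsg.Agent.Ru127.FixD

open Subgroup Cfsg.Agent.RuB Cfsg.Agent.J2Type.FourSelfCent

variable {G : Type*} [Group G] (C : Core G)

/-- the hypothesis on `x` -/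
structure Good (x : G) : Prop where
  mem : x ∈ C.L
  prime : (orderOf x).Prime
  five : 5 ≤ orderOf x
  cent : ∀ g ∈ C.L, g * x = x * g → g ∈ zpowers x

variable {C} {x : G}

section

variable (H : Good C x)
include H

theorem Good.odd_pow {i : ℤ} (h : x ^ i * x ^ i = 1) : x ^ i = 1 := by
  have h1 : x ^ (2 * i) = 1 := by rw [two_mul, zpow_add, h]
  have h2 : (orderOf x : ℤ) ∣ 2 * i := orderOf_dvd_iff_zpow_eq_one.mpr h1
  have h3 : (orderOf x : ℤ) ∣ i := by
    have hc : IsCoprime (orderOf x : ℤ) 2 := by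
      have h5 := H.five
      have hp := H.prime
      have : Nat.Coprime (orderOf x) 2 := by
        rw [Nat.coprime_primes hp Nat.prime_two]
        omega
      exact_mod_cast this.isCoprime
    exact hc.dvd_of_dvd_mul_left h2
  exact orderOf_dvd_iff_zpow_eq_one.mp h3

theorem Good.vx (a : A4) : C.v a * x = x * C.v a := C.v_comm a x H.mem

theorem Good.vxi (a : A4) (i : ℤ) : C.v a * x ^ i = x ^ i * C.v a := C.v_comm a _ (zpow_mem H.mem i)

/-- conjugate of `v a` modulo `⟨x⟩` -/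
theorem Good.conj_eq {g : G} {a b : A4} {i : ℤ} (h : g * C.v a * g⁻¹ = C.v b * x ^ i) :
    g * C.v a * g⁻¹ = C.v b := by
  have h1 : (g * C.v a * g⁻¹) * (g * C.v a * g⁻¹) = 1 := by
    calc g * C.v a * g⁻¹ * (g * C.v a * g⁻¹) = g * (C.v a * C.v a) * g⁻¹ := by group
      _ = 1 := by rw [C.v_sq]; group
  rw [h] at h1
  have h2 : x ^ i * x ^ i = 1 := by
    calc x ^ i * x ^ i = (C.v b * C.v b) * (x ^ i * x ^ i) := by rw [C.v_sq, one_mul]
      _ = C.v b * (C.v b * x ^ i) * x ^ i := by group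
      _ = C.v b * (x ^ i * C.v b) * x ^ i := by rw [H.vxi]
      _ = C.v b * x ^ i * (C.v b * x ^ i) := by group
      _ = 1 := h1
  rw [h, H.odd_pow h2, mul_one]

/-- elements of `C_G(x)` commuting with `v a` -/
theorem Good.eq_of_comm {g : G} (hg : g * x = x * g) {a : A4} (ha : a ≠ 0)
    (h : g * C.v a = C.v a * g) : ∃ b, ∃ i : ℤ, g = C.v b * x ^ i := by
  obtain ⟨b, l, hl, rfl⟩ := C.cent a ha g h
  have h1 : l * x = x * l := by
    have h2 : C.v b * (l * x) = C.v b * (x * l) := by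
      calc C.v b * (l * x) = C.v b * l * x := by group
        _ = x * (C.v b * l) := hg
        _ = (x * C.v b) * l := by group
        _ = (C.v b * x) * l := by rw [H.vx]
        _ = C.v b * (x * l) := by group
    exact mul_left_cancel h2
  obtain ⟨i, hi⟩ := mem_zpowers_iff.mp (H.cent l hl h1)
  exact ⟨b, i, by rw [hi]⟩

end

variable (x) in
/-- `C_G(x)` -/
abbrev M : Subgroup G := centralizer ({x} : Set G)

theorem mem_M {g : G} : g ∈ M x ↔ g * x = x * g := by
  rw [mem_centralizer_singleton_iff]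

theorem x_mem_M : x ∈ M x := mem_M.mpr rfl

variable (x) in
/-- `⟨x⟩` in `C_G(x)` -/
def P : Subgroup (M x) := zpowers ⟨x, x_mem_M⟩

theorem mem_P {g : M x} : g ∈ P x ↔ ∃ i : ℤ, (g : G) = x ^ i := by
  unfold P
  rw [mem_zpowers_iff]
  constructor
  · rintro ⟨i, rfl⟩
    exact ⟨i, rfl⟩
  · rintro ⟨i, hi⟩
    exact ⟨i, Subtype.ext hi.symm⟩

instance : (P x).Normal := by
  constructor
  intro n hn g
  obtain ⟨i, hi⟩ := mem_P.mp hn
  rw [mem_P]
  refine ⟨i, ?_⟩
  have hg : Commute (g : G) x := mem_M.mp g.2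
  have h2 := (hg.zpow_right i).eq
  show (g : G) * n * (g : G)⁻¹ = x ^ i
  rw [hi, h2, mul_inv_cancel_right]

variable (x) in
/-- `C_G(x)/⟨x⟩` -/
abbrev K : Type _ := M x ⧸ P x

section

variable (H : Good C x)

/-- `v a` in `C_G(x)` -/
def Good.vM (a : A4) : M x := ⟨C.v a, mem_M.mpr (H.vx a)⟩

/-- the image of `V` -/
def Good.U : Subgroup (K x) where
  carrier := {k | ∃ a, k = QuotientGroup.mk (H.vM a)}
  mul_mem' := by
    rintro _ _ ⟨a, rfl⟩ ⟨b, rfl⟩
    refine ⟨a + b, ?_⟩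
    rw [← QuotientGroup.mk_mul]
    congr 1
    exact Subtype.ext (C.v_add a b).symm
  one_mem' := ⟨0, by
    rw [← QuotientGroup.mk_one]
    congr 1
    exact Subtype.ext C.v_zero.symm⟩
  inv_mem' := by
    rintro _ ⟨a, rfl⟩
    refine ⟨a, ?_⟩
    rw [← QuotientGroup.mk_inv]
    congr 1
    exact Subtype.ext (C.v_inv a)

theorem Good.mk_eq_iff {g h : M x} : (QuotientGroup.mk g : K x) = QuotientGroup.mk h ↔
    ∃ i : ℤ, (h : G) = g * x ^ i := by
  rw [QuotientGroup.eq, mem_P]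
  constructor
  · rintro ⟨i, hi⟩
    refine ⟨i, ?_⟩
    rw [← hi]
    show (h : G) = g * ((g : G)⁻¹ * h)
    group
  · rintro ⟨i, hi⟩
    refine ⟨i, ?_⟩
    show (g : G)⁻¹ * h = x ^ i
    rw [hi]; group

include H in
theorem Good.pow_mem_V {a : A4} {i : ℤ} (h : C.v a = x ^ i) : a = 0 :=
  C.v_notin a (by rw [h]; exact zpow_mem H.mem i)

theorem Good.vM_inj {a b : A4} (h : (QuotientGroup.mk (H.vM a) : K x) = QuotientGroup.mk (H.vM b)) : a = b := by
  obtain ⟨i, hi⟩ := Good.mk_eq_iff.mp h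
  have hi' : C.v b = C.v a * x ^ i := hi
  have h1 : C.v (a + b) = x ^ i := by
    rw [C.v_add, hi', ← mul_assoc, C.v_sq, one_mul]
  have h2 := H.pow_mem_V h1
  revert h2
  clear * -
  revert a b
  decide

theorem Good.hyp : Hyp H.U := by
  constructor
  · have h4 : Nat.card A4 = 4 := by
      rw [Nat.card_prod, Nat.card_zmod]
    rw [← h4]
    symm
    refine Nat.card_congr (Equiv.ofBijective (fun a : A4 => (⟨QuotientGroup.mk (H.vM a), a, rfl⟩ : H.U)) ⟨?_, ?_⟩)
    · intro a b h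
      exact H.vM_inj (congrArg Subtype.val h)
    · rintro ⟨_, a, rfl⟩
      exact ⟨a, rfl⟩
  · rintro _ ⟨a, rfl⟩
    rw [← QuotientGroup.mk_mul, ← QuotientGroup.mk_one]
    congr 1
    exact Subtype.ext (C.v_sq a)
  · rintro _ ⟨a, rfl⟩ ha k hk
    obtain ⟨g, rfl⟩ := QuotientGroup.mk_surjective k
    have ha0 : a ≠ 0 := by
      rintro rfl
      apply ha
      rw [← QuotientGroup.mk_one]
      congr 1
      exact Subtype.ext C.v_zero
    rw [← QuotientGroup.mk_mul, ← QuotientGroup.mk_mul] at hk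
    obtain ⟨i, hi⟩ := Good.mk_eq_iff.mp hk.symm
    have hi' : (g : G) * C.v a = C.v a * g * x ^ i := hi
    have hg : Commute (g : G) x := mem_M.mp g.2
    have h1 : (g : G) * C.v a * (g : G)⁻¹ = C.v a * x ^ i := by
      rw [hi', mul_assoc (C.v a), (hg.zpow_right i).eq]
      group
    have h2 := H.conj_eq h1
    have h3 : (g : G) * C.v a = C.v a * g := by
      rw [mul_inv_eq_iff_eq_mul] at h2
      exact h2
    obtain ⟨b, j, hb⟩ := H.eq_of_comm (mem_M.mp g.2) ha0 h3
    refine ⟨b, ?_⟩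
    symm
    exact Good.mk_eq_iff.mpr ⟨j, hb⟩

/-- the conjugates of the `v a` -/
def DV (C : Core G) : Set G := {d | ∃ h a, a ≠ 0 ∧ h * C.v a * h⁻¹ = d}

theorem DV_sq {d : G} (h : d ∈ DV C) : d * d = 1 := by
  obtain ⟨g, a, -, rfl⟩ := h
  calc g * C.v a * g⁻¹ * (g * C.v a * g⁻¹) = g * (C.v a * C.v a) * g⁻¹ := by group
      _ = 1 := by rw [C.v_sq]; group

theorem DV_ne {d : G} (h : d ∈ DV C) : d ≠ 1 := by
  obtain ⟨g, a, ha, rfl⟩ := h
  intro h1
  apply ha
  apply C.v_eq_one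
  calc C.v a = g⁻¹ * (g * C.v a * g⁻¹) * g := by group
    _ = 1 := by rw [h1]; group

theorem DV_conj {d : G} (h : d ∈ DV C) (k : G) : k * d * k⁻¹ ∈ DV C := by
  obtain ⟨g, a, ha, rfl⟩ := h
  exact ⟨k * g, a, ha, by group⟩

variable [Finite G]

include H in
/-- all involutions of `C_G(x)` are in `D` -/
theorem Good.mem_DV {s : G} (hs : s * s = 1) (hs1 : s ≠ 1) (hsx : s * x = x * s) : s ∈ DV C := by
  have hq : (QuotientGroup.mk (⟨s, mem_M.mpr hsx⟩ : M x) : K x) * QuotientGroup.mk (⟨s, mem_M.mpr hsx⟩ : M x) = 1 := by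
    rw [← QuotientGroup.mk_mul, ← QuotientGroup.mk_one]
    congr 1
    exact Subtype.ext hs
  obtain ⟨k, hk⟩ := H.hyp.exists_conj_mem hq
  obtain ⟨g, rfl⟩ := QuotientGroup.mk_surjective k
  obtain ⟨a, ha⟩ := hk
  rw [← QuotientGroup.mk_inv, ← QuotientGroup.mk_mul, ← QuotientGroup.mk_mul] at ha
  obtain ⟨i, hi⟩ := Good.mk_eq_iff.mp ha.symm
  have hi' : (g : G)⁻¹ * s * g = C.v a * x ^ i := hi
  have h1 : ((g : G)⁻¹ * s * g) * ((g : G)⁻¹ * s * g) = 1 := by
    calc (g : G)⁻¹ * s * g * ((g : G)⁻¹ * s * g) = (g : G)⁻¹ * (s * s) * g := by group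
      _ = 1 := by rw [hs]; group
  rw [hi'] at h1
  have h2 : x ^ i * x ^ i = 1 := by
    calc x ^ i * x ^ i = (C.v a * C.v a) * (x ^ i * x ^ i) := by rw [C.v_sq, one_mul]
      _ = C.v a * (C.v a * x ^ i) * x ^ i := by group
      _ = C.v a * (x ^ i * C.v a) * x ^ i := by rw [H.vxi]
      _ = C.v a * x ^ i * (C.v a * x ^ i) := by group
      _ = 1 := h1
  rw [H.odd_pow h2, mul_one] at hi'
  refine ⟨g, a, ?_, ?_⟩
  · rintro rfl
    apply hs1
    rw [C.v_zero] at hi'
    calc s = (g : G) * ((g : G)⁻¹ * s * g) * (g : G)⁻¹ := by group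
      _ = 1 := by rw [hi']; group
  · rw [← hi']; group

omit [Finite G] in
include H in
/-- lifting involutions -/
theorem Good.card_inv : Nat.card {s : K x // s ≠ 1 ∧ s * s = 1} =
    Nat.card {s : G // s ≠ 1 ∧ s * s = 1 ∧ s * x = x * s} := by
  symm
  refine Nat.card_congr (Equiv.ofBijective
    (fun s : {s : G // s ≠ 1 ∧ s * s = 1 ∧ s * x = x * s} =>
      (⟨QuotientGroup.mk (⟨s.1, mem_M.mpr s.2.2.2⟩ : M x), ?_, ?_⟩ : {s : K x // s ≠ 1 ∧ s * s = 1})) ⟨?_, ?_⟩)
  · intro h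
    rw [← QuotientGroup.mk_one] at h
    obtain ⟨i, hi⟩ := Good.mk_eq_iff.mp h.symm
    have hi' : s.1 = 1 * x ^ i := hi
    rw [one_mul] at hi'
    have h2 := s.2.2.1
    rw [hi'] at h2
    exact s.2.1 (by rw [hi', H.odd_pow h2])
  · rw [← QuotientGroup.mk_mul, ← QuotientGroup.mk_one]
    congr 1
    exact Subtype.ext s.2.2.1
  · rintro ⟨s, hs1, hss, hsx⟩ ⟨t, ht1, htt, htx⟩ h
    obtain ⟨i, hi⟩ := Good.mk_eq_iff.mp (congrArg Subtype.val h)
    have hi' : t = s * x ^ i := hi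
    have hc : s * x ^ i = x ^ i * s := ((show Commute s x from hsx).zpow_right i).eq
    have h2 : x ^ i * x ^ i = 1 := by
      calc x ^ i * x ^ i = (s * s) * (x ^ i * x ^ i) := by rw [hss, one_mul]
        _ = s * (s * x ^ i) * x ^ i := by group
        _ = s * (x ^ i * s) * x ^ i := by rw [hc]
        _ = s * x ^ i * (s * x ^ i) := by group
        _ = 1 := by rw [← hi', htt]
    apply Subtype.ext
    show s = t
    rw [hi', H.odd_pow h2, mul_one]
  · rintro ⟨k, hk1, hkk⟩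
    obtain ⟨g, rfl⟩ := QuotientGroup.mk_surjective k
    rw [← QuotientGroup.mk_mul, ← QuotientGroup.mk_one] at hkk
    obtain ⟨i, hi⟩ := Good.mk_eq_iff.mp hkk.symm
    have hi' : (g : G) * g = 1 * x ^ i := hi
    rw [one_mul] at hi'
    -- `x ^ i = x ^ (2 j)`
    obtain ⟨j, hj⟩ : ∃ j : ℤ, x ^ i = x ^ (2 * j) := by
      have h5 := H.five
      rcases H.prime.eq_two_or_odd' with h | h
      · omega
      · obtain ⟨m, hm⟩ := h
        refine ⟨i * (m + 1), ?_⟩
        have e : (2 * (i * (m + 1)) : ℤ) = i + (orderOf x : ℤ) * i := by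
          rw [hm]; push_cast; ring
        rw [e, zpow_add, zpow_mul, zpow_natCast, pow_orderOf_eq_one, one_zpow, mul_one]
    have hg : Commute (g : G) x := mem_M.mp g.2
    have hc := (hg.zpow_right (-j)).eq
    have hss : ((g : G) * x ^ (-j)) * ((g : G) * x ^ (-j)) = 1 := by
      calc (g : G) * x ^ (-j) * ((g : G) * x ^ (-j)) = (g : G) * (x ^ (-j) * g) * x ^ (-j) := by group
        _ = (g : G) * (g * x ^ (-j)) * x ^ (-j) := by rw [hc]
        _ = (g * g) * (x ^ (-j) * x ^ (-j)) := by group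
        _ = x ^ (2 * j) * (x ^ (-j) * x ^ (-j)) := by rw [hi', hj]
        _ = 1 := by rw [← zpow_add, ← zpow_add]; ring_nf; simp
    refine ⟨⟨(g : G) * x ^ (-j), ?_, hss, ?_⟩, ?_⟩
    · intro h
      apply hk1
      symm
      rw [← QuotientGroup.mk_one]
      refine Good.mk_eq_iff.mpr ⟨j, ?_⟩
      show (g : G) = 1 * x ^ j
      rw [one_mul]
      calc (g : G) = (g * x ^ (-j)) * x ^ j := by group
        _ = x ^ j := by rw [h, one_mul]
    · calc (g : G) * x ^ (-j) * x = (g : G) * x * x ^ (-j) := by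
            rw [mul_assoc, mul_assoc, (Commute.zpow_self x (-j)).eq]
        _ = x * (g * x ^ (-j)) := by rw [hg.eq, mul_assoc]
    · apply Subtype.ext
      symm
      exact Good.mk_eq_iff.mpr ⟨-j, rfl⟩

include H in
/-- the number of elements of `D` commuting with `x` -/
theorem Good.card_DV : Nat.card {d : G // d ∈ DV C ∧ d * x = x * d} =
    3 * Nat.card (K x ⧸ normalizer (H.U : Set (K x))) := by
  rw [← H.hyp.card_involutions, H.card_inv]
  exact Nat.card_congr
    { toFun := fun d => ⟨d.1, DV_ne d.2.1, DV_sq d.2.1, d.2.2⟩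
      invFun := fun s => ⟨s.1, H.mem_DV s.2.2.1 s.2.1 s.2.2.2, s.2.2.2⟩
      left_inv := fun _ => rfl
      right_inv := fun _ => rfl }

include H in
theorem Good.card_cases : (Nat.card {d : G // d ∈ DV C ∧ d * x = x * d} = 3 ∧ Nat.card (K x) ≠ 60) ∨
    (Nat.card {d : G // d ∈ DV C ∧ d * x = x * d} = 15 ∧ Nat.card (K x) = 60) := by
  rw [H.card_DV]
  have hmul := card_eq_card_quotient_mul_card_subgroup (normalizer (H.U : Set (K x)))
  have hN : 0 < Nat.card (normalizer (H.U : Set (K x))) := Nat.card_pos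
  rcases H.hyp.card_cases with h | h | h
  · left
    rcases H.hyp.card_normalizer with hn | hn
    · rw [h, hn] at hmul; omega
    · rw [h, hn] at hmul; omega
  · left
    rcases H.hyp.card_normalizer with hn | hn
    · have := H.hyp.card_eq_four hn
      omega
    · rw [h, hn] at hmul; omega
  · right
    have hn := H.hyp.card_normalizer_of_sixty h
    rw [h, hn] at hmul; omega

omit [Finite G] in
/-- counting modulo `p` -/
theorem card_modEq [Finite G] {S : Set G} (hS : ∀ d ∈ S, x * d * x⁻¹ ∈ S) {p : ℕ} (hp : p.Prime) (hx : orderOf x = p) :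
    Nat.card {d : G // d ∈ S} ≡ Nat.card {d : G // d ∈ S ∧ d * x = x * d} [MOD p] := by
  classical
  haveI : Fact p.Prime := ⟨hp⟩
  have hS' : ∀ (n : ℕ), ∀ d ∈ S, x ^ n * d * (x ^ n)⁻¹ ∈ S := by
    intro n
    induction n with
    | zero => intro d hd; simpa using hd
    | succ n ih =>
      intro d hd
      have := hS _ (ih d hd)
      have e : x * (x ^ n * d * (x ^ n)⁻¹) * x⁻¹ = x ^ (n + 1) * d * (x ^ (n + 1))⁻¹ := by
        rw [pow_succ']; group
      rwa [e] at this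
  have hSz : ∀ g : zpowers x, ∀ d ∈ S, (g : G) * d * (g : G)⁻¹ ∈ S := by
    rintro ⟨g, hg⟩ d hd
    obtain ⟨n, rfl⟩ := (mem_powers_iff_mem_zpowers.mpr hg)
    exact hS' n d hd
  let act : MulAction (zpowers x) {d : G // d ∈ S} :=
    { smul := fun g d => ⟨(g : G) * d.1 * (g : G)⁻¹, hSz g d.1 d.2⟩
      one_smul := fun d => Subtype.ext (by
        show ((1 : zpowers x) : G) * d.1 * ((1 : zpowers x) : G)⁻¹ = d.1
        simp)
      mul_smul := fun g h d => Subtype.ext (by
        show ((g * h : zpowers x) : G) * d.1 * ((g * h : zpowers x) : G)⁻¹ =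
          (g : G) * ((h : G) * d.1 * (h : G)⁻¹) * (g : G)⁻¹
        simp [mul_assoc]) }
  have hP : IsPGroup p (zpowers x) := by
    apply IsPGroup.of_card (n := 1)
    rw [Nat.card_zpowers, hx, pow_one]
  have h1 := hP.card_modEq_card_fixedPoints {d : G // d ∈ S}
  refine h1.trans ?_
  have h2 : Nat.card (MulAction.fixedPoints (zpowers x) {d : G // d ∈ S}) =
      Nat.card {d : G // d ∈ S ∧ d * x = x * d} := by
    refine Nat.card_congr
      { toFun := fun d => ⟨d.1.1, d.1.2, ?_⟩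
        invFun := fun d => ⟨⟨d.1, d.2.1⟩, ?_⟩
        left_inv := fun _ => rfl
        right_inv := fun _ => rfl }
    · have := d.2 ⟨x, mem_zpowers x⟩
      have h3 : x * d.1.1 * x⁻¹ = d.1.1 := congrArg Subtype.val this
      rw [mul_inv_eq_iff_eq_mul] at h3
      exact h3.symm
    · rintro ⟨g, hg⟩
      apply Subtype.ext
      show g * d.1 * g⁻¹ = d.1
      obtain ⟨n, rfl⟩ := mem_zpowers_iff.mp hg
      have hc : Commute x d.1 := d.2.2.symm
      rw [(hc.zpow_left n).eq, mul_inv_cancel_right]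
  rw [h2]

end

end Cfsg.Agent.Ru127.FixD
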