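import Mathlib

/-!
Abstract form of the special 2-group `Q = 2^{3+8}` of the Rudvalis analysis, and the local data
(a class `D` of involutions, a class `𝒵` of elementary abelian subgroups of order 8).
-/

namespace Cfsg.Agent.Ru127.Form

open scoped Pointwise

/-- the quadratic form data on `Q/Z` (order 256) with values in `Z` (order 8), with the eight
planes `V i`. -/
structure RuForm (W F : Type) [AddCommGroup W] [AddCommGroup F] where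
  q : W → F
  b : W → W → F
  V : Fin 8 → AddSubgroup W
  cardW : Nat.card W = 256
  cardF : Nat.card F = 8
  twoW : ∀ x : W, x + x = 0
  twoF : ∀ x : F, x + x = 0
  q_add : ∀ x y, q (x + y) = q x + q y + b x y
  b_add : ∀ x y z, b x (y + z) = b x y + b x z
  b_symm : ∀ x y, b x y = b y x
  cardV : ∀ i, Nat.card (V i) = 4
  /-- 24 vectors -/
  cardT : Nat.card {x : W // x ≠ 0 ∧ ∃ i, x ∈ V i} = 24
  spanT : AddSubgroup.closure {x : W | x ≠ 0 ∧ ∃ i, x ∈ V i} = ⊤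
  q_T : ∀ x : W, (x ≠ 0 ∧ ∃ i, x ∈ V i) → q x = 0
  q1 : ∀ u, u ≠ 0 → ∀ f, ∃ w, b u w = f
  q2 : ∀ z : F, z ≠ 0 → Nat.card {j : W // j ≠ 0 ∧ q j = 0 ∧ ¬ (∃ i, j ∈ V i) ∧
    ∀ u, (b u j = 0 ∨ b u j = z) → ¬ (u ≠ 0 ∧ ∃ i, u ∈ V i)} ≤ 3
  q3 : ∀ (S : AddSubgroup F), S ≠ ⊤ → ∀ d x y : W, (d ≠ 0 ∧ ∃ i, d ∈ V i) →
    x ≠ 0 → y ≠ 0 → x ≠ y → b d x = 0 → b d y = 0 →
    ¬ (∃ i, x ∈ V i) → ¬ (∃ i, y ∈ V i) → ¬ (∃ i, x + y ∈ V i) →
    q x ∈ S → q y ∈ S → q (x + y) ∈ S → False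
  q5 : ∀ d x : W, (d ≠ 0 ∧ ∃ i, d ∈ V i) → q x = 0 → b d x = 0 → ∃ i, x ∈ V i

variable {W F : Type} [AddCommGroup W] [AddCommGroup F]

/-- the 24 vectors -/
def RuForm.T (R : RuForm W F) : Set W := {x | x ≠ 0 ∧ ∃ i, x ∈ R.V i}

variable {G : Type*} [Group G]

/-- coordinates on `C(Y)` for `Y` in the class `𝒵`. -/
structure IsCoord (D : Set G) (Y : Subgroup G) (R : RuForm W F) (π : G → W) (ζ : F → G) : Prop where
  π_mul : ∀ x ∈ Subgroup.centralizer (Y : Set G), ∀ y ∈ Subgroup.centralizer (Y : Set G),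
    π (x * y) = π x + π y
  π_surj : ∀ w, ∃ x ∈ Subgroup.centralizer (Y : Set G), π x = w
  π_ker : ∀ x ∈ Subgroup.centralizer (Y : Set G), (π x = 0 ↔ x ∈ Y)
  le_cent : Y ≤ Subgroup.centralizer (Y : Set G)
  ζ_add : ∀ a c, ζ (a + c) = ζ a * ζ c
  ζ_inj : Function.Injective ζ
  ζ_range : ∀ y, y ∈ Y ↔ ∃ a, ζ a = y
  sq : ∀ x ∈ Subgroup.centralizer (Y : Set G), x * x = ζ (R.q (π x))
  comm : ∀ x ∈ Subgroup.centralizer (Y : Set G), ∀ y ∈ Subgroup.centralizer (Y : Set G),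
    x⁻¹ * y⁻¹ * x * y = ζ (R.b (π x) (π y))
  D_iff : ∀ x ∈ Subgroup.centralizer (Y : Set G), (x ∈ D ↔ π x ∈ R.T)

/-- conjugate subgroup -/
def cj (g : G) (Y : Subgroup G) : Subgroup G := Y.map (MulAut.conj g).toMonoidHom

theorem mem_cj {g x : G} {Y : Subgroup G} : x ∈ cj g Y ↔ g⁻¹ * x * g ∈ Y := by
  unfold cj
  rw [Subgroup.mem_map]
  constructor
  · rintro ⟨y, hy, rfl⟩
    simpa [mul_assoc] using hy
  · intro h
    exact ⟨_, h, by simp [mul_assoc]⟩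

theorem cj_one (Y : Subgroup G) : cj 1 Y = Y := by
  ext x; simp [mem_cj]

theorem cj_mul (g h : G) (Y : Subgroup G) : cj (g * h) Y = cj g (cj h Y) := by
  ext x; simp [mem_cj, mul_assoc]

theorem cj_inv_cj (g : G) (Y : Subgroup G) : cj g⁻¹ (cj g Y) = Y := by
  rw [← cj_mul]; simp [cj_one]

theorem cj_cj_inv (g : G) (Y : Subgroup G) : cj g (cj g⁻¹ Y) = Y := by
  rw [← cj_mul]; simp [cj_one]

/-- stabiliser of `Y` under conjugation -/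
def nor (Y : Subgroup G) : Subgroup G where
  carrier := {g | cj g Y = Y}
  mul_mem' := by
    intro a b ha hb
    simp only [Set.mem_setOf_eq] at *
    rw [cj_mul, hb, ha]
  one_mem' := cj_one Y
  inv_mem' := by
    intro a ha
    simp only [Set.mem_setOf_eq] at *
    conv_lhs => rw [← ha]
    rw [cj_inv_cj]

theorem mem_nor {g : G} {Y : Subgroup G} : g ∈ nor Y ↔ cj g Y = Y := Iff.rfl

theorem conj_mem_of_mem_nor {g x : G} {Y : Subgroup G} (hg : g ∈ nor Y) (hx : x ∈ Y) :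
    g * x * g⁻¹ ∈ Y := by
  have h : g * x * g⁻¹ ∈ cj g Y := by
    rw [mem_cj]; simpa [mul_assoc] using hx
  rwa [mem_nor.1 hg] at h

theorem conj_inv_mem_of_mem_nor {g x : G} {Y : Subgroup G} (hg : g ∈ nor Y) (hx : x ∈ Y) :
    g⁻¹ * x * g ∈ Y := by
  have h := conj_mem_of_mem_nor ((nor Y).inv_mem hg) hx
  simpa using h

theorem cent_le_nor (Y : Subgroup G) : Subgroup.centralizer (Y : Set G) ≤ nor Y := by
  intro g hg
  rw [mem_nor]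
  ext x
  rw [mem_cj]
  rw [Subgroup.mem_centralizer_iff] at hg
  constructor
  · intro h
    have h2 := hg _ h
    have : g⁻¹ * x * g = x := by
      have h3 : x * g = g * (g⁻¹ * x * g) := by group
      rw [← h2] at h3
      have h4 := mul_right_cancel h3
      exact h4.symm
    rwa [this] at h
  · intro h
    have h2 := hg _ h
    have : g⁻¹ * x * g = x := by
      rw [mul_assoc, h2]; group
    rwa [this]

/-- the local data used in the determination of `C_G(z)`. -/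
structure LocalData (D : Set G) (𝒵 : Set (Subgroup G)) (R : RuForm W F) : Prop where
  D_ne : ∀ d ∈ D, d ≠ 1
  D_sq : ∀ d ∈ D, d * d = 1
  D_conj : ∀ d ∈ D, ∀ g, g * d * g⁻¹ ∈ D
  Z_conj : ∀ Y ∈ 𝒵, ∀ g, cj g Y ∈ 𝒵
  Z_trans : ∀ Y ∈ 𝒵, ∀ Y' ∈ 𝒵, ∃ g, cj g Y = Y'
  coord : ∀ Y ∈ 𝒵, ∃ (π : G → W) (ζ : F → G), IsCoord D Y R π ζ
  norm_trans : ∀ Y ∈ 𝒵, ∀ a ∈ Y, ∀ c ∈ Y, a ≠ 1 → c ≠ 1 → ∃ n ∈ nor Y, n * a * n⁻¹ = c
  norm_card : ∀ Y ∈ 𝒵, Nat.card (nor Y) = 2 ^ 14 * 21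
  H2 : ∀ d ∈ D, ∀ z, z ≠ 1 → z * z = 1 → z ∉ D → Commute d z →
    ∃ Y ∈ 𝒵, z ∈ Y ∧ (∀ y ∈ Y, Commute d y) ∧
      (∀ g, Commute g d → Commute g z → g ∈ Subgroup.centralizer (Y : Set G))

end Cfsg.Agent.Ru127.Form
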