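import Cfsg.Agent.Ru127.Basic

/-! `D ∩ N(Y) ⊆ C(Y)`. -/

namespace Cfsg.Agent.Ru127.NorD

open Cfsg.Agent.Ru127.Form Cfsg.Agent.Ru127.Basic

variable {W F : Type} [AddCommGroup W] [AddCommGroup F]
variable {G : Type*} [Group G]
variable {D : Set G} {Y : Subgroup G} {R : RuForm W F} {π : G → W} {ζ : F → G}

theorem conj_mem_cent {g x : G} (hg : g ∈ nor Y) (hx : x ∈ Subgroup.centralizer (Y : Set G)) :
    g * x * g⁻¹ ∈ Subgroup.centralizer (Y : Set G) := by
  rw [Subgroup.mem_centralizer_iff] at *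
  intro y hy
  have h1 := hx _ (conj_inv_mem_of_mem_nor hg hy)
  calc y * (g * x * g⁻¹) = g * ((g⁻¹ * y * g) * x) * g⁻¹ := by group
    _ = g * (x * (g⁻¹ * y * g)) * g⁻¹ := by rw [h1]
    _ = g * x * g⁻¹ * y := by group

/-- the map on `W` induced by conjugation by `g ∈ N(Y)`. -/
theorem exists_induced (c : IsCoord D Y R π ζ) {g : G} (hg : g ∈ nor Y) :
    ∃ A : W →+ W, ∀ x ∈ Subgroup.centralizer (Y : Set G), π (g * x * g⁻¹) = A (π x) := by
  choose s hs hπ using c.π_surj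
  have key : ∀ x ∈ Subgroup.centralizer (Y : Set G),
      π (g * x * g⁻¹) = π (g * s (π x) * g⁻¹) := by
    intro x hx
    have h1 : (s (π x))⁻¹ * x ∈ Y := by
      rw [← c.π_ker _ (mul_mem (Subgroup.inv_mem _ (hs _)) hx),
        c.π_mul _ (Subgroup.inv_mem _ (hs _)) _ hx, π_inv c (hs _), hπ, R.twoW]
    have h2 : g * x * g⁻¹ = (g * s (π x) * g⁻¹) * (g * ((s (π x))⁻¹ * x) * g⁻¹) := by group
    rw [h2, c.π_mul _ (conj_mem_cent hg (hs _)) _
      (c.le_cent (conj_mem_of_mem_nor hg h1)), π_Y c (conj_mem_of_mem_nor hg h1), add_zero]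
  refine ⟨AddMonoidHom.mk' (fun w => π (g * s w * g⁻¹)) ?_, fun x hx => key x hx⟩
  intro a b
  have h1 := key (s a * s b) (mul_mem (hs a) (hs b))
  rw [c.π_mul _ (hs a) _ (hs b), hπ, hπ] at h1
  rw [← h1, ← c.π_mul _ (conj_mem_cent hg (hs _)) _ (conj_mem_cent hg (hs _))]
  congr 1
  group

variable {𝒵 : Set (Subgroup G)} (L : LocalData D 𝒵 R)
include L

theorem exists_ne_one_commute {t : G} (htD : t ∈ D) {Y : Subgroup G} (hY : Y ∈ 𝒵)
    (ht : t ∈ nor Y) (htc : t ∉ Subgroup.centralizer (Y : Set G)) :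
    ∃ z ∈ Y, z ≠ 1 ∧ Commute t z := by
  rw [Subgroup.mem_centralizer_iff] at htc
  push Not at htc
  obtain ⟨y, hy, hne⟩ := htc
  have hy : y ∈ Y := hy
  have h1 : t * y * t⁻¹ ∈ Y := conj_mem_of_mem_nor ht hy
  have ht2 : t * t = 1 := L.D_sq t htD
  have htinv : t⁻¹ = t := by
    rw [inv_eq_iff_mul_eq_one]; exact ht2
  refine ⟨y * (t * y * t⁻¹), mul_mem hy h1, ?_, ?_⟩
  · intro h
    have h2 : y * y = 1 := sq_mem L hY hy
    have h3 : t * y * t⁻¹ = y := by
      have := h.trans h2.symm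
      exact mul_left_cancel this
    apply hne
    calc y * t = (t * y * t⁻¹) * t := by rw [h3]
      _ = t * y := by group
  · have hc : Commute y (t * y * t⁻¹) := comm_mem L hY hy h1
    have e1 : t * y = (t * y * t⁻¹) * t := by group
    have e2 : t * (t * y * t⁻¹) = y * t := by
      calc t * (t * y * t⁻¹) = (t * t) * y * t⁻¹ := by group
        _ = y * t := by rw [ht2, htinv, one_mul]
    show t * (y * (t * y * t⁻¹)) = y * (t * y * t⁻¹) * t
    calc t * (y * (t * y * t⁻¹)) = (t * y) * (t * y * t⁻¹) := by group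
      _ = (t * y * t⁻¹) * (t * (t * y * t⁻¹)) := by rw [e1]; group
      _ = (t * y * t⁻¹) * (y * t) := by rw [e2]
      _ = ((t * y * t⁻¹) * y) * t := by group
      _ = (y * (t * y * t⁻¹)) * t := by rw [← hc.eq]

/-- the main point: an element of `D` normalising `Y ∈ 𝒵` centralises it. -/
theorem D_nor [Finite G] {t : G} (htD : t ∈ D) {Y0 : Subgroup G} (hY0 : Y0 ∈ 𝒵)
    (ht : t ∈ nor Y0) : t ∈ Subgroup.centralizer (Y0 : Set G) := by
  by_contra htc
  obtain ⟨z, hz, hz1, hcz⟩ := exists_ne_one_commute L htD hY0 ht htc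
  have ht2 : t * t = 1 := L.D_sq t htD
  have htinv : t⁻¹ = t := by
    rw [inv_eq_iff_mul_eq_one]; exact ht2
  obtain ⟨Y, hY, hzY, htY, hcent⟩ := exists_unique' L htD hz1 (sq_mem L hY0 hz)
    (notD_mem L hY0 hz) hcz
  obtain ⟨π0, ζ0, c0⟩ := L.coord Y0 hY0
  obtain ⟨π, ζ, c⟩ := L.coord Y hY
  have hne : Y ≠ Y0 := by
    rintro rfl; exact htc htY
  -- the group `C = C_{C(Y0)}(t)`
  let C : Subgroup G := Subgroup.centralizer (Y0 : Set G) ⊓ Subgroup.centralizer {t}
  have hCY : ∀ g ∈ C, g ∈ Subgroup.centralizer (Y : Set G) := by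
    intro g hg
    apply hcent
    · exact ((Subgroup.mem_centralizer_iff.1 hg.2) t rfl).symm
    · exact ((Subgroup.mem_centralizer_iff.1 hg.1) z hz).symm
  have hCD : ∀ g ∈ C, g ∉ D := by
    intro g hg hgD
    apply htc
    exact cent_of_commute L hgD hz1 hY0 hz hg.1
      ((Subgroup.mem_centralizer_iff.1 hg.2) t rfl) hcz
  -- the induced involution
  obtain ⟨A, hA⟩ := exists_induced c0 ht
  have hAA : ∀ w, A (A w) = w := by
    intro w
    obtain ⟨x, hx, rfl⟩ := c0.π_surj w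
    rw [← hA x hx, ← hA _ (conj_mem_cent ht hx)]
    congr 1
    calc t * (t * x * t⁻¹) * t⁻¹ = (t * t) * x * (t * t)⁻¹ := by group
      _ = x := by rw [ht2]; group
  let A1 : W →+ W := A + AddMonoidHom.id W
  have hA1 : ∀ w, A1 w = A w + w := fun w => rfl
  have hFW : Finite W := Nat.finite_of_card_ne_zero (by rw [R.cardW]; norm_num)
  have hFF : Finite F := Nat.finite_of_card_ne_zero (by rw [R.cardF]; norm_num)
  have hker : 16 ≤ Nat.card A1.ker := by
    have h1 : A1.range ≤ A1.ker := by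
      rintro _ ⟨w, rfl⟩
      rw [AddMonoidHom.mem_ker, hA1, hA1, map_add, hAA]
      have := R.twoW (A w + w)
      rw [← this]; abel
    have h2 : Nat.card A1.range ≤ Nat.card A1.ker :=
      Nat.card_le_card_of_injective _ (AddSubgroup.inclusion_injective h1)
    have h3 : Nat.card A1.ker * Nat.card A1.range = 256 := by
      rw [← AddSubgroup.index_ker, AddSubgroup.card_mul_index, R.cardW]
    by_contra hlt
    push Not at hlt
    have : Nat.card A1.ker * Nat.card A1.range ≤ 15 * 15 :=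
      Nat.mul_le_mul (by omega) (by omega)
    omega
  -- the subgroup `M1`
  let M1 : Subgroup G :=
    { carrier := {u | u ∈ Subgroup.centralizer (Y0 : Set G) ∧ A1 (π0 u) = 0}
      mul_mem' := by
        rintro a b ⟨ha, ha'⟩ ⟨hb, hb'⟩
        exact ⟨mul_mem ha hb, by rw [c0.π_mul a ha b hb, map_add, ha', hb', add_zero]⟩
      one_mem' := ⟨one_mem _, by rw [π_one c0, map_zero]⟩
      inv_mem' := by
        rintro a ⟨ha, ha'⟩
        exact ⟨inv_mem ha, by rw [π_inv c0 ha, ha']⟩ }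
  have hM1card : 128 ≤ Nat.card M1 := by
    have h := cardPre c0 (A1.ker : Set W)
    have e : Nat.card M1 = Nat.card (A1.ker : Set W) * 8 := by
      rw [← h]
      exact Nat.card_congr (Equiv.subtypeEquivRight (fun x => Iff.rfl))
    rw [e]
    have : Nat.card (A1.ker : Set W) = Nat.card A1.ker := rfl
    omega
  have hmemY : ∀ u ∈ M1, u⁻¹ * (t * u * t⁻¹) ∈ Y0 := by
    rintro u ⟨hu, hu'⟩
    rw [← c0.π_ker _ (mul_mem (inv_mem hu) (conj_mem_cent ht hu)),
      c0.π_mul _ (inv_mem hu) _ (conj_mem_cent ht hu), π_inv c0 hu, hA u hu, add_comm, ← hA1, hu']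
  let f : M1 →* G :=
    { toFun := fun u => (u : G)⁻¹ * (t * u * t⁻¹)
      map_one' := by simp
      map_mul' := by
        rintro ⟨u, hu⟩ ⟨v, hv⟩
        have h1 := hmemY u hu
        have h2 : (u⁻¹ * (t * u * t⁻¹)) * v = v * (u⁻¹ * (t * u * t⁻¹)) :=
          (Subgroup.mem_centralizer_iff.1 hv.1) _ h1
        show (u * v)⁻¹ * (t * (u * v) * t⁻¹) = u⁻¹ * (t * u * t⁻¹) * (v⁻¹ * (t * v * t⁻¹))
        have h3 : v⁻¹ * (u⁻¹ * (t * u * t⁻¹)) = (u⁻¹ * (t * u * t⁻¹)) * v⁻¹ := by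
          have h4 := congrArg (fun x => v⁻¹ * x * v⁻¹) h2
          simp only [mul_assoc, mul_inv_cancel, mul_one, inv_mul_cancel_left] at h4
          simp only [mul_assoc]
          exact h4
        calc (u * v)⁻¹ * (t * (u * v) * t⁻¹) = (v⁻¹ * (u⁻¹ * (t * u * t⁻¹))) * (t * v * t⁻¹) := by
              group
          _ = u⁻¹ * (t * u * t⁻¹) * (v⁻¹ * (t * v * t⁻¹)) := by rw [h3]; group }
  have hf : ∀ u : M1, f u = (u : G)⁻¹ * (t * u * t⁻¹) := fun u => rfl
  have hrange : f.range ≤ Y0 ⊓ Subgroup.centralizer {t} := by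
    rintro _ ⟨u, rfl⟩
    rw [hf]
    have h1 := hmemY u u.2
    refine ⟨h1, Subgroup.mem_centralizer_iff.2 ?_⟩
    rintro s rfl
    have h2 := sq_mem L hY0 h1
    have h3 : s * ((u : G)⁻¹ * (s * u * s⁻¹)) * s⁻¹ = ((u : G)⁻¹ * (s * u * s⁻¹))⁻¹ := by
      calc s * ((u : G)⁻¹ * (s * u * s⁻¹)) * s⁻¹ = (s * (u : G)⁻¹ * s⁻¹) * ((s * s) * u * (s * s)⁻¹) := by
            group
        _ = ((u : G)⁻¹ * (s * u * s⁻¹))⁻¹ := by rw [ht2]; group
    have h4 : ((u : G)⁻¹ * (s * u * s⁻¹))⁻¹ = (u : G)⁻¹ * (s * u * s⁻¹) :=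
      inv_eq_iff_mul_eq_one.2 h2
    rw [h4] at h3
    calc s * ((u : G)⁻¹ * (s * u * s⁻¹)) = (s * ((u : G)⁻¹ * (s * u * s⁻¹)) * s⁻¹) * s := by group
      _ = _ := by rw [h3]
  have hfix : Nat.card (Y0 ⊓ Subgroup.centralizer {t} : Subgroup G) ≤ 4 := by
    have hle : (Y0 ⊓ Subgroup.centralizer {t} : Subgroup G) ≤ Y0 := inf_le_left
    have hdvd := Subgroup.card_dvd_of_le hle
    rw [card_mem L hY0] at hdvd
    have hne8 : Nat.card (Y0 ⊓ Subgroup.centralizer {t} : Subgroup G) ≠ 8 := by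
      intro h8
      have := Subgroup.eq_of_le_of_card_ge hle (by rw [card_mem L hY0, h8])
      apply htc
      rw [Subgroup.mem_centralizer_iff]
      intro y hy
      have hy' : y ∈ (Y0 ⊓ Subgroup.centralizer {t} : Subgroup G) := by rw [this]; exact hy
      exact ((Subgroup.mem_centralizer_iff.1 hy'.2) t rfl).symm
    have hle8 := Nat.le_of_dvd (by norm_num) hdvd
    have : Nat.card (Y0 ⊓ Subgroup.centralizer {t} : Subgroup G) ∈ Nat.divisors 8 :=
      Nat.mem_divisors.2 ⟨hdvd, by norm_num⟩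
    rw [show Nat.divisors 8 = {1, 2, 4, 8} by decide +kernel] at this
    simp only [Finset.mem_insert, Finset.mem_singleton] at this
    omega
  have hCcard : 32 ≤ Nat.card C := by
    have h1 : Nat.card f.ker * Nat.card f.range = Nat.card M1 := by
      rw [← Subgroup.index_ker, Subgroup.card_mul_index]
    have h2 : Nat.card f.range ≤ 4 :=
      (Nat.card_le_card_of_injective _ (Subgroup.inclusion_injective hrange)).trans hfix
    have h3 : Nat.card f.ker ≤ Nat.card C := by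
      refine Nat.card_le_card_of_injective (fun u : f.ker => (⟨(u : M1), ?_⟩ : C)) ?_
      · obtain ⟨⟨u, hu⟩, hk⟩ := u
        rw [MonoidHom.mem_ker, hf] at hk
        refine ⟨hu.1, Subgroup.mem_centralizer_iff.2 ?_⟩
        rintro s rfl
        have hk' : (u : G)⁻¹ * (s * u * s⁻¹) = 1 := hk
        have : s * u * s⁻¹ = u := by
          have := inv_mul_eq_one.1 hk'
          exact this.symm
        calc s * u = (s * u * s⁻¹) * s := by group
          _ = u * s := by rw [this]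
      · intro u v huv
        have : ((u : M1) : G) = ((v : M1) : G) := by simpa using huv
        exact Subtype.ext (Subtype.ext this)
    have h4 : Nat.card f.ker * Nat.card f.range ≤ Nat.card C * 4 := Nat.mul_le_mul h3 h2
    omega
  -- image in `W`
  let Cb : AddSubgroup W :=
    { carrier := {w | ∃ x ∈ C, π x = w}
      add_mem' := by
        rintro _ _ ⟨x, hx, rfl⟩ ⟨y, hy, rfl⟩
        exact ⟨x * y, mul_mem hx hy, c.π_mul x (hCY x hx) y (hCY y hy)⟩
      zero_mem' := ⟨1, one_mem _, π_one c⟩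
      neg_mem' := by
        rintro _ ⟨x, hx, rfl⟩
        refine ⟨x, hx, ?_⟩
        rw [eq_neg_iff_add_eq_zero, R.twoW] }
  have hCb4 : 4 ≤ Nat.card Cb := by
    have h := cardPre c (Cb : Set W)
    have h1 : Nat.card C ≤ Nat.card {x : G // x ∈ Subgroup.centralizer (Y : Set G) ∧
        π x ∈ (Cb : Set W)} := by
      refine Nat.card_le_card_of_injective
        (fun u : C => ⟨(u : G), hCY _ u.2, ⟨(u : G), u.2, rfl⟩⟩) ?_
      intro u v huv
      exact Subtype.ext (by simpa using huv)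
    have h2 : Nat.card (Cb : Set W) = Nat.card Cb := rfl
    omega
  have hncard : (Cb : Set W).ncard = Nat.card Cb := rfl
  obtain ⟨x, hxC, hx0⟩ : ∃ x ∈ (Cb : Set W), x ∉ ({0} : Set W) := by
    refine Set.exists_mem_notMem_of_ncard_lt_ncard ?_ (Set.toFinite _)
    rw [Set.ncard_singleton]; omega
  obtain ⟨y, hyC, hy0⟩ : ∃ y ∈ (Cb : Set W), y ∉ ({0, x} : Set W) := by
    refine Set.exists_mem_notMem_of_ncard_lt_ncard ?_ (Set.toFinite _)
    have := Set.ncard_insert_le (0 : W) {x}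
    rw [Set.ncard_singleton] at this
    omega
  simp only [Set.mem_singleton_iff, Set.mem_insert_iff, not_or] at hx0 hy0
  -- subgroup `S` of `F`
  let S : AddSubgroup F :=
    { carrier := {a | ζ a ∈ Y0}
      add_mem' := by
        intro a b ha hb
        show ζ (a + b) ∈ Y0
        rw [c.ζ_add]; exact mul_mem ha hb
      zero_mem' := by
        show ζ 0 ∈ Y0
        rw [ζ_zero c]; exact one_mem _
      neg_mem' := by
        intro a ha
        have : -a = a := by rw [neg_eq_iff_add_eq_zero, R.twoF]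
        rw [this]; exact ha }
  have hS : S ≠ ⊤ := by
    intro h
    apply hne
    apply eq_of_le L hY hY0
    intro y hy
    obtain ⟨a, rfl⟩ := (c.ζ_range y).1 hy
    have : a ∈ S := by rw [h]; trivial
    exact this
  have hprop : ∀ w ∈ Cb, w ≠ 0 → R.b (π t) w = 0 ∧ ¬ (∃ i, w ∈ R.V i) ∧ R.q w ∈ S := by
    rintro _ ⟨g, hg, rfl⟩ hw
    refine ⟨?_, ?_, ?_⟩
    · exact b_of_commute c htY (hCY g hg) ((Subgroup.mem_centralizer_iff.1 hg.2) t rfl)
    · intro hV
      exact hCD g hg ((c.D_iff g (hCY g hg)).2 ⟨hw, hV⟩)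
    · show ζ (R.q (π g)) ∈ Y0
      rw [← c.sq g (hCY g hg), c0.sq g hg.1]
      exact ζ_mem c0 _
  obtain ⟨hx1, hx2, hx3⟩ := hprop x hxC hx0
  obtain ⟨hy1, hy2, hy3⟩ := hprop y hyC hy0.1
  have hxy0 : x + y ≠ 0 := by
    intro h
    apply hy0.2
    have := R.twoW x
    exact (add_left_cancel (this.trans h.symm)).symm
  obtain ⟨hz1', hz2, hz3⟩ := hprop (x + y) (Cb.add_mem hxC hyC) hxy0
  exact R.q3 S hS (π t) x y ((c.D_iff t htY).1 htD) hx0 hy0.1 (fun h => hy0.2 h.symm) hx1 hy1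
    hx2 hy2 hz2 hx3 hy3 hz3

end Cfsg.Agent.Ru127.NorD
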