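import Cfsg.Agent.Ru127.Sg

/-!
# The element `σ` of order 3: existence
-/

set_option autoImplicit false

namespace Cfsg.Agent.Ru127.Sg

open Subgroup Cfsg.Agent.RuB Cfsg.Agent.RuB.Core Cfsg.Agent.RuB.NormZ Cfsg.Agent.RuB.NormQ Cfsg.Agent.RuB.Count
open Cfsg.Agent.Ru127.Form Cfsg.Agent.Ru127.Basic Cfsg.Agent.Ru127.Count Cfsg.Agent.Ru127.NorD
open Cfsg.Agent.Ru127.FixD Cfsg.Agent.Ru127.XiOne Cfsg.Agent.Ru127.Xi Cfsg.Agent.Ru127.CardD
open Cfsg.Agent.J2Type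

variable {G : Type*} [Group G] {C : Core G}

/-- the action of `σ` on `V` -/
def rho (a : A4) : A4 := (a.1 + a.2, a.1)

/-- `σ` as an element of `N(V) ∩ N(L) ∩ C(f)` -/
structure IsSigma (C : Core G) (σ : G) : Prop where
  cube : σ * σ * σ = 1
  v : ∀ a, σ * C.v a * σ⁻¹ = C.v (rho a)
  U : ∀ a b, σ * C.U a b * σ⁻¹ = C.U (a ^ 4) (b ^ 4)
  dk : ∀ k : K8ˣ, σ * C.dk k * σ⁻¹ = C.dk (k ^ 4)
  s : σ * s C = s C * σ
  w : σ * w C = w C * σ
  f : σ * f C = f C * σ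

theorem emb_case1 : ∀ (c : K8) (r1 r2 : A4),
    c * emb r1 = 1 → c * emb r2 = K8.al → r1 = (1, 0) ∧ r2 = (0, 1) := by
  decide +kernel

theorem emb_case2 : ∀ (c : K8) (r1 r2 : A4),
    c * emb r1 = 1 → c * emb r2 = K8.al ^ 2 → r1 = (0, 1) ∧ r2 = (1, 1) := by
  decide +kernel

theorem emb_case4 : ∀ (c : K8) (r1 r2 : A4),
    c * emb r1 = 1 → c * emb r2 = K8.al ^ 4 → r1 = (1, 1) ∧ r2 = (1, 0) := by
  decide +kernel

theorem exists_order_three {K : Type*} [Group K] [Finite K] {U : Subgroup K} (H : FourSelfCent.Hyp U)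
    (h60 : Nat.card K = 60) : ∃ k ∈ normalizer (U : Set K), k ^ 3 = 1 ∧ k ≠ 1 ∧ k ∉ U := by
  have hN := H.card_normalizer_of_sixty h60
  have : Fact (Nat.Prime 3) := ⟨Nat.prime_three⟩
  obtain ⟨k, hk⟩ := exists_prime_orderOf_dvd_card' (G := normalizer (U : Set K)) 3
    (by rw [hN]; norm_num)
  have hk3 : (k : K) ^ 3 = 1 := by
    have := pow_orderOf_eq_one k
    rw [hk] at this
    exact congrArg Subtype.val this
  have hk1 : (k : K) ≠ 1 := by
    intro h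
    have h8 : k = 1 := Subtype.ext h
    rw [h8, orderOf_one] at hk
    norm_num at hk
  refine ⟨k, k.2, hk3, hk1, ?_⟩
  intro h1
  have h2 := H.sq _ h1
  apply hk1
  calc (k : K) = ((k : K) * k) * k := by rw [h2, one_mul]
    _ = k ^ 3 := by rw [pow_succ, pow_two]
    _ = 1 := hk3

theorem A4_cases : ∀ a : A4, a = 0 ∨ a = (1, 0) ∨ a = (0, 1) ∨ a = (1, 0) + (0, 1) := by decide

theorem rho_eq {r : A4 → A4} (hadd : ∀ a b, r (a + b) = r a + r b) (h1 : r (1, 0) = (1, 1)) (h2 : r (0, 1) = (1, 0)) :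
    ∀ a, r a = rho a := by
  have h0 : r 0 = 0 := by
    have := hadd 0 0
    rw [add_zero] at this
    exact left_eq_add.1 this
  intro a
  rcases A4_cases a with h | h | h | h
  · rw [h, h0]; decide
  · rw [h, h1]; decide
  · rw [h, h2]; decide
  · rw [h, hadd, h1, h2]; decide

variable [Finite G]

/-- the combined action on `V` and `L` -/
theorem sigma_cases (hcz : ∀ g : G, (∀ b, g * C.z b = C.z b * g) → g ∈ C.QQ) {g : G} (hgV : ∀ a, ∃ a', g * C.v a * g⁻¹ = C.v a')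
    (hgs : g * s C = s C * g) (hgw : g * w C = w C * g) (hne : ∃ a, g * C.v a * g⁻¹ ≠ C.v a) :
    ((∀ a b, g * C.U a b * g⁻¹ = C.U (a ^ 4) (b ^ 4)) ∧ (∀ k : K8ˣ, g * C.dk k * g⁻¹ = C.dk (k ^ 4)) ∧
      g * C.v (1, 0) * g⁻¹ = C.v (1, 1) ∧ g * C.v (0, 1) * g⁻¹ = C.v (1, 0)) ∨
    ((∀ a b, g * C.U a b * g⁻¹ = C.U (a ^ 2) (b ^ 2)) ∧ (∀ k : K8ˣ, g * C.dk k * g⁻¹ = C.dk (k ^ 2)) ∧
      g * C.v (1, 0) * g⁻¹ = C.v (0, 1) ∧ g * C.v (0, 1) * g⁻¹ = C.v (1, 1)) := by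
  have hgL : ∀ l, l ∈ C.L → g * l * g⁻¹ ∈ C.L := fun l hl => (NormL.conj_L hgV l).1 hl
  obtain ⟨τ, hτc, hτU, hτd⟩ := exists_tau hgL hgs hgw
  choose r hr using hgV
  have hradd : ∀ a b, r (a + b) = r a + r b := by
    intro a b
    apply C.v_inj
    rw [← hr, C.v_add, C.v_add, ← hr, ← hr]
    group
  have hbij : Function.Surjective τ := by
    rcases hτc with h | h | h
    · intro x; exact ⟨x, h x⟩
    · intro x
      refine ⟨x ^ 4, ?_⟩
      rw [h, ← pow_mul]; exact K8.pow_eight x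
    · intro x
      refine ⟨x ^ 2, ?_⟩
      rw [h, ← pow_mul]; exact K8.pow_eight x
  -- the growth element
  obtain ⟨x, hx⟩ := exists_act C 1
  have hx' : g * x * g⁻¹ ∈ C.QQ := by
    apply hcz
    intro b
    obtain ⟨c, rfl⟩ := hbij b
    have h1 : C.z (τ c) = g * C.z c * g⁻¹ := by
      rw [C.z_eq, C.z_eq, hτU]
      congr 1
      rcases hτc with h | h | h <;> rw [h] <;> rfl
    rw [h1]
    have := hx.comm c
    calc g * x * g⁻¹ * (g * C.z c * g⁻¹) = g * (x * C.z c) * g⁻¹ := by group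
      _ = g * (C.z c * x) * g⁻¹ := by rw [this]
      _ = _ := by group
  obtain ⟨c, hc⟩ := hx'
  have key : ∀ a, τ (emb a) = c * emb (r a) := by
    intro a
    have h1 := hx.2 a
    have h2 := hc.2 (r a)
    rw [← hr] at h2
    have h3 : g * x * g⁻¹ * (g * C.v a * g⁻¹) * (g * x * g⁻¹)⁻¹ = (g * C.v a * g⁻¹) * C.z (τ (emb a)) := by
      have h4 : C.z (τ (emb a)) = g * C.z (emb a) * g⁻¹ := by
        rw [C.z_eq, C.z_eq, hτU]
        congr 1
        rcases hτc with h | h | h <;> rw [h] <;> rfl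
      rw [h4]
      calc g * x * g⁻¹ * (g * C.v a * g⁻¹) * (g * x * g⁻¹)⁻¹ = g * (x * C.v a * x⁻¹) * g⁻¹ := by group
        _ = g * (C.v a * C.z (1 * emb a)) * g⁻¹ := by rw [h1]
        _ = _ := by rw [one_mul]; group
    rw [h2] at h3
    exact (C.z_inj (mul_left_cancel h3)).symm
  have k1 := key (1, 0)
  have k2 := key (0, 1)
  rw [emb_one] at k1
  rw [emb_al] at k2
  rcases hτc with h | h | h
  · exfalso
    rw [h] at k1 k2
    obtain ⟨h1, h2⟩ := emb_case1 c _ _ k1.symm k2.symm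
    obtain ⟨a, ha⟩ := hne
    apply ha
    rw [hr]
    congr 1
    have h0 : r 0 = 0 := by
      have := hradd 0 0
      rw [add_zero] at this
      exact left_eq_add.1 this
    rcases A4_cases a with h | h | h | h
    · rw [h, h0]
    · rw [h, h1]
    · rw [h, h2]
    · rw [h, hradd, h1, h2]
  · right
    rw [h] at k1 k2
    rw [one_pow] at k1
    obtain ⟨h1, h2⟩ := emb_case2 c _ _ k1.symm k2.symm
    refine ⟨fun a b => by rw [hτU, h, h], fun k => hτd k _ (by rw [h, Units.val_pow_eq_pow_val]), ?_, ?_⟩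
    · rw [hr, h1]
    · rw [hr, h2]
  · left
    rw [h] at k1 k2
    rw [one_pow] at k1
    obtain ⟨h1, h2⟩ := emb_case4 c _ _ k1.symm k2.symm
    refine ⟨fun a b => by rw [hτU, h, h], fun k => hτd k _ (by rw [h, Units.val_pow_eq_pow_val]), ?_, ?_⟩
    · rw [hr, h1]
    · rw [hr, h2]

theorem pow_sixteen : ∀ a : K8, (a ^ 2) ^ 2 = a ^ 4 := by decide +kernel

/-- existence of `σ` -/
theorem exists_sigma (hcz : ∀ g : G, (∀ b, g * C.z b = C.z b * g) → g ∈ C.QQ) (hr : Rel C)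
    (h60 : Nat.card (K (f C)) = 60) : ∃ σ, IsSigma C σ := by
  have H : Good C (f C) := good_of f_mem (Or.inl (order_f hr))
  obtain ⟨k, hkN, hk3, hk1, hkU⟩ := exists_order_three H.hyp h60
  obtain ⟨g, hg⟩ := QuotientGroup.mk_surjective k
  -- `g ^ 3 ∈ ⟨f⟩`
  have hg3 : ∃ i : ℤ, (g : G) ^ 3 = (f C) ^ i := by
    rw [← hg, ← QuotientGroup.mk_pow, ← QuotientGroup.mk_one] at hk3
    obtain ⟨i, hi⟩ := Good.mk_eq_iff.1 hk3.symm
    refine ⟨i, ?_⟩
    have hi' : ((g ^ 3 : M (f C)) : G) = 1 * (f C) ^ i := hi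
    rw [one_mul] at hi'
    exact hi'
  obtain ⟨i, hi⟩ := hg3
  -- `g` normalises `V`
  have hgV : ∀ a, ∃ a', (g : G) * C.v a * (g : G)⁻¹ = C.v a' := by
    intro a
    have h1 : k * QuotientGroup.mk (H.vM a) * k⁻¹ ∈ H.U :=
      (mem_normalizer_iff.1 hkN _).1 ⟨a, rfl⟩
    obtain ⟨a', ha'⟩ := h1
    rw [← hg, ← QuotientGroup.mk_inv, ← QuotientGroup.mk_mul, ← QuotientGroup.mk_mul] at ha'
    obtain ⟨i, hi⟩ := Good.mk_eq_iff.1 ha'.symm
    exact ⟨a', H.conj_eq (i := i) hi⟩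
  have hgf : (g : G) * f C = f C * g := mem_M.1 g.2
  -- the adjusted element
  set σ : G := (g : G) ^ 10 with hσ
  have h5 : (f C) ^ (5 : ℤ) = 1 := by exact_mod_cast f_pow_five hr
  have hσ3 : σ * σ * σ = 1 := by
    have e1 : σ * σ * σ = ((g : G) ^ 3) ^ 10 := by
      rw [hσ, ← pow_add, ← pow_add, ← pow_mul]
    rw [e1, hi, ← zpow_natCast, ← zpow_mul]
    have e2 : i * ((10 : ℕ) : ℤ) = 5 * (2 * i) := by push_cast; ring
    rw [e2, zpow_mul, h5, one_zpow]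
  have hσf : σ * f C = f C * σ := ((show Commute (g : G) (f C) from hgf).pow_left 10).eq
  have hσV : ∀ a, ∃ a', σ * C.v a * σ⁻¹ = C.v a' := by
    have : ∀ n : ℕ, ∀ a, ∃ a', (g : G) ^ n * C.v a * ((g : G) ^ n)⁻¹ = C.v a' := by
      intro n
      induction n with
      | zero => intro a; exact ⟨a, by simp⟩
      | succ n ih =>
        intro a
        obtain ⟨b, hb⟩ := ih a
        obtain ⟨c, hc⟩ := hgV b
        refine ⟨c, ?_⟩
        rw [← hc, ← hb, pow_succ']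
        group
    exact this 10
  have hσL : ∀ l, l ∈ C.L → σ * l * σ⁻¹ ∈ C.L := fun l hl => (NormL.conj_L hσV l).1 hl
  -- `mk σ = k`
  have hσM : σ ∈ M (f C) := mem_M.2 hσf
  have hmk : (QuotientGroup.mk (⟨σ, hσM⟩ : M (f C)) : K (f C)) = k := by
    have e1 : (⟨σ, hσM⟩ : M (f C)) = g ^ 10 := Subtype.ext rfl
    rw [e1, QuotientGroup.mk_pow, hg]
    calc k ^ 10 = (k ^ 3) ^ 3 * k := by rw [← pow_mul, ← pow_succ]
      _ = k := by rw [hk3, one_pow, one_mul]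
  have hne : ∃ a, σ * C.v a * σ⁻¹ ≠ C.v a := by
    by_contra hcon
    push Not at hcon
    have h1 : k ∈ H.U := by
      refine H.hyp.cent (QuotientGroup.mk (H.vM (1, 0))) ⟨(1, 0), rfl⟩ ?_ _ ?_
      · intro h
        have h4 : (QuotientGroup.mk (H.vM (1, 0)) : K (f C)) = QuotientGroup.mk (H.vM 0) := by
          rw [h, ← QuotientGroup.mk_one]
          congr 1
          exact Subtype.ext C.v_zero.symm
        exact absurd (H.vM_inj h4) (by decide)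
      · rw [← hmk, ← QuotientGroup.mk_mul, ← QuotientGroup.mk_mul]
        congr 1
        exact Subtype.ext (mul_inv_eq_iff_eq_mul.1 (hcon (1, 0)))
    exact hkU h1
  have hσs := comm_s hr hσ3 hσL hσf
  have hσz : σ * C.z 1 = C.z 1 * σ := by
    rw [← s_sq]
    calc σ * (s C * s C) = (σ * s C) * s C := by group
      _ = (s C * σ) * s C := by rw [hσs]
      _ = s C * (σ * s C) := by group
      _ = s C * (s C * σ) := by rw [hσs]
      _ = s C * s C * σ := by group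
  have hσw : σ * w C = w C * σ := by
    rw [w_eq]
    calc σ * (C.z 1 * f C) = (σ * C.z 1) * f C := by group
      _ = (C.z 1 * σ) * f C := by rw [hσz]
      _ = C.z 1 * (σ * f C) := by group
      _ = C.z 1 * (f C * σ) := by rw [hσf]
      _ = C.z 1 * f C * σ := by group
  have fin : ∀ σ : G, σ * σ * σ = 1 → σ * s C = s C * σ → σ * w C = w C * σ → σ * f C = f C * σ →
      (∀ a, ∃ a', σ * C.v a * σ⁻¹ = C.v a') → 
      ((∀ a b, σ * C.U a b * σ⁻¹ = C.U (a ^ 4) (b ^ 4)) ∧ (∀ k : K8ˣ, σ * C.dk k * σ⁻¹ = C.dk (k ^ 4)) ∧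
        σ * C.v (1, 0) * σ⁻¹ = C.v (1, 1) ∧ σ * C.v (0, 1) * σ⁻¹ = C.v (1, 0)) → IsSigma C σ := by
    rintro σ h1 h2 h3 h4 h5 ⟨h6, h7, h8, h9⟩
    refine ⟨h1, ?_, h6, h7, h2, h3, h4⟩
    choose r hr using h5
    have hradd : ∀ a b, r (a + b) = r a + r b := by
      intro a b
      apply C.v_inj
      rw [← hr, C.v_add, C.v_add, ← hr, ← hr]
      group
    have e1 : r (1, 0) = (1, 1) := C.v_inj (by rw [← hr, h8])
    have e2 : r (0, 1) = (1, 0) := C.v_inj (by rw [← hr, h9])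
    intro a
    rw [hr, rho_eq hradd e1 e2]
  rcases sigma_cases hcz hσV hσs hσw hne with h | ⟨h1, h2, h3, h4⟩
  · exact ⟨σ, fin σ hσ3 hσs hσw hσf hσV h⟩
  · refine ⟨σ * σ, fin (σ * σ) ?_ ?_ ?_ ?_ ?_ ⟨?_, ?_, ?_, ?_⟩⟩
    · calc σ * σ * (σ * σ) * (σ * σ) = (σ * σ * σ) * (σ * σ * σ) := by group
        _ = 1 := by rw [hσ3, one_mul]
    · exact ((show Commute σ (s C) from hσs).mul_left hσs).eq
    · exact ((show Commute σ (w C) from hσw).mul_left hσw).eq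
    · exact ((show Commute σ (f C) from hσf).mul_left hσf).eq
    · intro a
      obtain ⟨b, hb⟩ := hσV a
      obtain ⟨c, hc⟩ := hσV b
      refine ⟨c, ?_⟩
      rw [← hc, ← hb]; group
    · intro a b
      calc σ * σ * C.U a b * (σ * σ)⁻¹ = σ * (σ * C.U a b * σ⁻¹) * σ⁻¹ := by group
        _ = C.U (a ^ 4) (b ^ 4) := by rw [h1, h1, pow_sixteen, pow_sixteen]
    · intro k
      calc σ * σ * C.dk k * (σ * σ)⁻¹ = σ * (σ * C.dk k * σ⁻¹) * σ⁻¹ := by group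
        _ = C.dk (k ^ 4) := by rw [h2, h2, ← pow_mul]
    · calc σ * σ * C.v (1, 0) * (σ * σ)⁻¹ = σ * (σ * C.v (1, 0) * σ⁻¹) * σ⁻¹ := by group
        _ = C.v (1, 1) := by rw [h3, h4]
    · have h5 : C.v (1, 1) = C.v (1, 0) * C.v (0, 1) := by rw [← C.v_add]; rfl
      calc σ * σ * C.v (0, 1) * (σ * σ)⁻¹ = σ * (σ * C.v (0, 1) * σ⁻¹) * σ⁻¹ := by group
        _ = σ * (C.v (1, 0) * C.v (0, 1)) * σ⁻¹ := by rw [h4, h5]
        _ = (σ * C.v (1, 0) * σ⁻¹) * (σ * C.v (0, 1) * σ⁻¹) := by group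
        _ = C.v (1, 0) := by rw [h3, h4, ← C.v_add]; rfl

end Cfsg.Agent.Ru127.Sg
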