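import Cfsg.Agent.Ru127.Fiber

/-! Any two distinct points of `Σ` are exchanged by exactly 192 elements of `D`. -/

namespace Cfsg.Agent.Ru127.Total

open Cfsg.Agent.Ru127.Form Cfsg.Agent.Ru127.Basic Cfsg.Agent.Ru127.NorD Cfsg.Agent.Ru127.Count
  Cfsg.Agent.Ru127.Fiber

variable {W F : Type} [AddCommGroup W] [AddCommGroup F]
variable {G : Type*} [Group G]
variable {D : Set G} {R : RuForm W F} {𝒵 : Set (Subgroup G)}

theorem isPGroup_zpowers_of_sq {K : Type*} [Group K] {d : K} (h : d * d = 1) :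
    IsPGroup 2 (Subgroup.zpowers d) := by
  rw [IsPGroup.iff_orderOf]
  rintro ⟨x, hx⟩
  obtain ⟨k, rfl⟩ := Subgroup.mem_zpowers_iff.1 hx
  have h2 : d ^ 2 = 1 := by rw [pow_two]; exact h
  have : (⟨d ^ k, hx⟩ : Subgroup.zpowers d) ^ (2 ^ 1) = 1 := by
    apply Subtype.ext
    show (d ^ k) ^ (2 ^ 1) = 1
    rw [pow_one, ← zpow_natCast, ← zpow_mul, mul_comm, zpow_mul]
    simp [h2]
  have h3 := orderOf_dvd_of_pow_eq_one this
  rcases (Nat.dvd_prime_pow Nat.prime_two).1 h3 with ⟨m, _, hm⟩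
  exact ⟨m, hm⟩

section
variable (L : LocalData D 𝒵 R)
include L

theorem card_fiber_le [Finite G] {z : G} (hz1 : z ≠ 1) {a b : Subgroup G} (ha : a ∈ 𝒵)
    (hza : z ∈ a) (hb : b ∈ 𝒵) (hzb : z ∈ b) (hab : a ≠ b) :
    Nat.card {d : G // d ∈ D ∧ Commute d z ∧ cj d a = b} ≤ 192 ∧
    (Nat.card {d : G // d ∈ D ∧ Commute d z ∧ cj d a = b} = 192 →
      3 ∣ Nat.card (B0 z a b) ∧
      ∀ d, d ∈ D → Commute d z → cj d a = b → ∃ H ≤ Bs z a b, IsPGroup 2 H ∧ d ∈ H ∧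
        Nat.card {x : G // x ∈ H ∧ x ∈ D ∧ cj x a = b} = 64) := by
  classical
  haveI : Fact (Nat.Prime 2) := ⟨Nat.prime_two⟩
  let Bz := Bs z a b
  let H : Sylow 2 Bz → Subgroup G := fun P => (P : Subgroup Bz).map Bz.subtype
  have hHle : ∀ P, H P ≤ Bs z a b := fun P => Subgroup.map_subtype_le _
  have hHp : ∀ P, IsPGroup 2 (H P) := fun P => P.2.map _
  have hodd := sig_odd L hz1 ha hza
  have hfinSyl : Finite (Sylow 2 Bz) := inferInstance
  letI : Fintype (Sylow 2 Bz) := Fintype.ofFinite _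
  let Fs : Set G := {d | d ∈ D ∧ Commute d z ∧ cj d a = b}
  let Q : Sylow 2 Bz → Set G := fun P => {x | x ∈ H P ∧ x ∈ D ∧ cj x a = b}
  have hmem : ∀ d ∈ Fs, ∃ P, d ∈ H P := by
    intro d hd
    have hdB : d ∈ Bz := ⟨hd.2.1, Or.inr ⟨hd.2.2, by
      rw [← hd.2.2]; exact cj_cj_self L hd.1 a⟩⟩
    have hp : IsPGroup 2 (Subgroup.zpowers (⟨d, hdB⟩ : Bz)) :=
      isPGroup_zpowers_of_sq (Subtype.ext (L.D_sq d hd.1))
    obtain ⟨P, hP⟩ := hp.exists_le_sylow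
    exact ⟨P, ⟨d, hdB⟩, hP (Subgroup.mem_zpowers _), rfl⟩
  have hQ64 : ∀ P, (Q P).ncard ≤ 64 := by
    intro P
    obtain ⟨c, hc, hzc, hfix⟩ := exists_fixed L hodd (H := H P)
      (fun x hx => (hHle P hx).1) (hHp P)
    obtain ⟨π, ζ, cc⟩ := L.coord c hc
    exact (parts L hz1 ha hza hb hzb hab hc cc (hHle P) hfix).1
  have hcover : Fs ⊆ ⋃ P ∈ (Finset.univ : Finset (Sylow 2 Bz)), Q P := by
    intro d hd
    obtain ⟨P, hP⟩ := hmem d hd
    simp only [Set.mem_iUnion, Finset.mem_univ, exists_true_left]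
    exact ⟨P, hP, hd.1, hd.2.2⟩
  have hle : Fs.ncard ≤ ∑ P, (Q P).ncard :=
    (Set.ncard_le_ncard hcover (Set.toFinite _)).trans (Finset.set_ncard_biUnion_le _ _)
  have hsum : ∑ P, (Q P).ncard ≤ ∑ P : Sylow 2 Bz, 64 := Finset.sum_le_sum (fun P _ => hQ64 P)
  have hcardsum : (∑ P : Sylow 2 Bz, 64) = Nat.card (Sylow 2 Bz) * 64 := by
    rw [Finset.sum_const, smul_eq_mul, Finset.card_univ, Nat.card_eq_fintype_card]
  -- number of Sylow subgroups
  have hidx : ∀ P : Sylow 2 Bz, (P : Subgroup Bz).index ∣ 3 := by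
    intro P
    have h1 : (P : Subgroup Bz).index ∣ Nat.card Bz := Subgroup.index_dvd_card _
    have h2 : Nat.card Bz ∣ 2 * (2 ^ 14 * 3) :=
      (card_Bs_dvd z a b).trans (Nat.mul_dvd_mul_left 2 (card_B0_dvd L hz1 ha hza))
    have h3 : ¬ 2 ∣ (P : Subgroup Bz).index := P.not_dvd_index
    have h4 : Nat.Coprime (P : Subgroup Bz).index (2 ^ 15) :=
      ((Nat.prime_two.coprime_iff_not_dvd.2 h3).symm).pow_right 15
    have h5 : (P : Subgroup Bz).index ∣ 2 ^ 15 * 3 := by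
      have := h1.trans h2
      rwa [show 2 * (2 ^ 14 * 3) = 2 ^ 15 * 3 by norm_num] at this
    exact h4.dvd_of_dvd_mul_left h5
  have hne : Nonempty (Sylow 2 Bz) := inferInstance
  obtain ⟨P0⟩ := hne
  have hs3 : Nat.card (Sylow 2 Bz) ∣ 3 := (P0.card_dvd_index).trans (hidx P0)
  have hs3' : Nat.card (Sylow 2 Bz) ≤ 3 := Nat.le_of_dvd (by norm_num) hs3
  have hFs : Nat.card {d : G // d ∈ D ∧ Commute d z ∧ cj d a = b} = Fs.ncard := rfl
  rw [hFs]
  refine ⟨by omega, fun heq => ?_⟩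
  have hs : Nat.card (Sylow 2 Bz) = 3 := by omega
  refine ⟨?_, ?_⟩
  · have h1 : 3 ∣ Nat.card Bz := by
      rw [← hs]
      exact (P0.card_dvd_index).trans (Subgroup.index_dvd_card _)
    have h2 : 3 ∣ 2 * Nat.card (B0 z a b) := h1.trans (card_Bs_dvd z a b)
    exact (Nat.Coprime.dvd_of_dvd_mul_left (by norm_num) h2)
  · intro d hd hdz hda
    obtain ⟨P, hP⟩ := hmem d ⟨hd, hdz, hda⟩
    refine ⟨H P, hHle P, hHp P, hP, ?_⟩
    show (Q P).ncard = 64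
    by_contra hne'
    have hlt : (Q P).ncard < 64 := lt_of_le_of_ne (hQ64 P) hne'
    have : ∑ P, (Q P).ncard < ∑ P : Sylow 2 Bz, 64 :=
      Finset.sum_lt_sum (fun P _ => hQ64 P) ⟨P, Finset.mem_univ _, hlt⟩
    omega

theorem card_DX [Finite G] {z : G} (hz1 : z ≠ 1) (hzz : z * z = 1) (hzD : z ∉ D) :
    Nat.card {d : G // d ∈ D ∧ Commute d z} = Nat.card (Sig 𝒵 z) * 192 := by
  classical
  letI : Fintype (Sig 𝒵 z) := Fintype.ofFinite _
  have hex : ∀ d : {d : G // d ∈ D ∧ Commute d z}, ∃ Y : Sig 𝒵 z,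
      (d : G) ∈ Subgroup.centralizer (Y.1 : Set G) := by
    rintro ⟨d, hd, hdz⟩
    obtain ⟨Y, hY, hzY, hdY, _⟩ := exists_unique' L hd hz1 hzz hzD hdz
    exact ⟨⟨Y, hY, hzY⟩, hdY⟩
  choose g hg using hex
  have hgu : ∀ (d : {d : G // d ∈ D ∧ Commute d z}) (Y : Sig 𝒵 z),
      (d : G) ∈ Subgroup.centralizer (Y.1 : Set G) → g d = Y := by
    intro d Y hY
    exact Subtype.ext (unique L d.2.1 hz1 (g d).2.1 Y.2.1 (g d).2.2 Y.2.2 (hg d) hY)
  rw [← Nat.card_congr (Equiv.sigmaFiberEquiv g), Nat.card_sigma]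
  have h192 : ∀ Y : Sig 𝒵 z, Nat.card {d // g d = Y} = 192 := by
    intro Y
    obtain ⟨π, ζ, c⟩ := L.coord Y.1 Y.2.1
    rw [← card_D c]
    apply Nat.card_congr
    refine Equiv.ofBijective (fun x => ⟨x.1.1, ?_, x.1.2.1⟩) ⟨?_, ?_⟩
    · have := hg x.1
      rw [x.2] at this
      exact this
    · intro x y hxy
      simp only [Subtype.mk.injEq] at hxy
      exact Subtype.ext (Subtype.ext hxy)
    · rintro ⟨x, hx, hxD⟩
      have hxz : Commute x z := ((Subgroup.mem_centralizer_iff.1 hx) z Y.2.2).symm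
      exact ⟨⟨⟨x, hxD, hxz⟩, hgu _ Y hx⟩, rfl⟩
  rw [Finset.sum_congr rfl (fun Y _ => h192 Y), Finset.sum_const, smul_eq_mul, Finset.card_univ,
    Nat.card_eq_fintype_card]

/-- all the fibres have exactly 192 elements. -/
theorem card_fiber_eq [Finite G] {z : G} (hz1 : z ≠ 1) {a b : Subgroup G} (ha : a ∈ 𝒵)
    (hza : z ∈ a) (hb : b ∈ 𝒵) (hzb : z ∈ b) (hab : a ≠ b) :
    Nat.card {d : G // d ∈ D ∧ Commute d z ∧ cj d a = b} = 192 := by
  classical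
  letI : Fintype (Sig 𝒵 z) := Fintype.ofFinite _
  have htot := card_DX L hz1 (sq_mem L ha hza) (notD_mem L ha hza)
  let g : {d : G // d ∈ D ∧ Commute d z} → Sig 𝒵 z :=
    fun d => ⟨cj (d : G) a, L.Z_conj _ ha _, mem_cj_of_commute d.2.2 hza⟩
  rw [← Nat.card_congr (Equiv.sigmaFiberEquiv g), Nat.card_sigma] at htot
  have hfib : ∀ Y : Sig 𝒵 z, Nat.card {d // g d = Y} =
      Nat.card {d : G // d ∈ D ∧ Commute d z ∧ cj d a = Y.1} := by
    intro Y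
    apply Nat.card_congr
    refine Equiv.ofBijective (fun x => ⟨x.1.1, x.1.2.1, x.1.2.2, ?_⟩) ⟨?_, ?_⟩
    · exact congrArg Subtype.val x.2
    · intro x y hxy
      simp only [Subtype.mk.injEq] at hxy
      exact Subtype.ext (Subtype.ext hxy)
    · rintro ⟨x, hxD, hxz, hxa⟩
      exact ⟨⟨⟨x, hxD, hxz⟩, Subtype.ext hxa⟩, rfl⟩
  have hle : ∀ Y : Sig 𝒵 z, Nat.card {d // g d = Y} ≤ 192 := by
    intro Y
    rw [hfib]
    by_cases hY : a = Y.1
    · obtain ⟨π, ζ, c⟩ := L.coord a ha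
      rw [← card_D c]
      refine Nat.card_le_card_of_injective (fun x => ⟨x.1, ?_, x.2.1⟩) ?_
      · apply D_nor L x.2.1 ha
        rw [mem_nor]
        exact x.2.2.2.trans hY.symm
      · intro x y hxy
        simp only [Subtype.mk.injEq] at hxy
        exact Subtype.ext hxy
    · exact (card_fiber_le L hz1 ha hza Y.2.1 Y.2.2 hY).1
  by_contra hne
  have hlt : Nat.card {d // g d = (⟨b, hb, hzb⟩ : Sig 𝒵 z)} < 192 := by
    rw [hfib]
    exact lt_of_le_of_ne (card_fiber_le L hz1 ha hza hb hzb hab).1 hne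
  have hs : ∑ Y, Nat.card {d // g d = Y} < ∑ Y : Sig 𝒵 z, 192 :=
    Finset.sum_lt_sum (fun Y _ => hle Y) ⟨⟨b, hb, hzb⟩, Finset.mem_univ _, hlt⟩
  rw [htot, Finset.sum_const, smul_eq_mul, Finset.card_univ, Nat.card_eq_fintype_card] at hs
  exact lt_irrefl _ hs

/-- the consequences of equality. -/
theorem three_dvd [Finite G] {z : G} (hz1 : z ≠ 1) {a b : Subgroup G} (ha : a ∈ 𝒵)
    (hza : z ∈ a) (hb : b ∈ 𝒵) (hzb : z ∈ b) (hab : a ≠ b) : 3 ∣ Nat.card (B0 z a b) :=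
  ((card_fiber_le L hz1 ha hza hb hzb hab).2 (card_fiber_eq L hz1 ha hza hb hzb hab)).1

theorem swap_data [Finite G] {z : G} (hz1 : z ≠ 1) {b c : Subgroup G} (hb : b ∈ 𝒵)
    (hzb : z ∈ b) (hc : c ∈ 𝒵) (hzc : z ∈ c) (hbc : b ≠ c) {d : G} (hd : d ∈ D)
    (hdc : d ∈ Subgroup.centralizer (c : Set G)) {π : G → W} {ζ : F → G}
    (cc : IsCoord D c R π ζ) :
    (∀ y ∈ c, cj y b = b) ∧
    ∀ i, ∃ e ∈ D, e ∈ Subgroup.centralizer (c : Set G) ∧ π e ∈ R.V i ∧ cj (d * e) b = b := by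
  have hdz : Commute d z := ((Subgroup.mem_centralizer_iff.1 hdc) z hzc).symm
  -- a := d • b
  have hab : b ≠ cj d b := by
    intro h
    exact hbc (fix_unique L hd hz1 hb hzb hc hzc (mem_nor.2 h.symm) (cent_le_nor c hdc))
  have ha : cj d b ∈ 𝒵 := L.Z_conj _ hb _
  have hza : z ∈ cj d b := mem_cj_of_commute hdz hzb
  obtain ⟨H, hH, hHp, hdH, h64⟩ := ((card_fiber_le L hz1 hb hzb ha hza hab).2
    (card_fiber_eq L hz1 hb hzb ha hza hab)).2 d hd hdz rfl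
  obtain ⟨c', hc', hzc', hfix⟩ := exists_fixed L (sig_odd L hz1 hb hzb) (H := H)
    (fun x hx => (hH hx).1) hHp
  have hcc' : c' = c := fix_unique L hd hz1 hc' hzc' hc hzc (hfix d hdH) (cent_le_nor c hdc)
  subst hcc'
  have hparts := (parts L hz1 hb hzb ha hza hab hc cc hH hfix).2 h64
  have hsw : ∀ x ∈ H, cj x b = cj d b → cj x (cj d b) = b := by
    intro x hx hxb
    rcases (hH hx).2 with ⟨h1, _⟩ | ⟨_, h2⟩
    · exact absurd (h1.symm.trans hxb) hab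
    · exact h2
  constructor
  · intro y hy
    obtain ⟨_, i, hi⟩ := (cc.D_iff d hdc).1 hd
    obtain ⟨e, he, hec, hei, hall, hsame⟩ := hparts i
    have hde := hsame d ⟨hdH, hd, rfl⟩ hi
    have hyc := cc.le_cent hy
    have h1 := hall (d * y) (mul_mem hdc hyc) (by
      rw [cc.π_mul d hdc y hyc, π_Y cc hy, add_zero, hde])
    have h2 : cj d (cj y b) = cj d b := by rw [← cj_mul]; exact h1.2.2
    have h3 := congrArg (cj d⁻¹) h2
    rwa [cj_inv_cj, cj_inv_cj] at h3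
  · intro i
    obtain ⟨e, he, hec, hei, hall, hsame⟩ := hparts i
    refine ⟨e, he.2.1, hec, hei, ?_⟩
    rw [cj_mul, he.2.2]
    exact cj_cj_self L hd b

end

end Cfsg.Agent.Ru127.Total
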