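import Cfsg.Agent.Ru127.Five

/-! `|Σ| ∈ {1, 5}` and the order of `C_G(z)`. -/

namespace Cfsg.Agent.Ru127.Xi

open Cfsg.Agent.Ru127.Form Cfsg.Agent.Ru127.Basic Cfsg.Agent.Ru127.NorD Cfsg.Agent.Ru127.Count
  Cfsg.Agent.Ru127.Fiber Cfsg.Agent.Ru127.Total Cfsg.Agent.Ru127.Iso Cfsg.Agent.Ru127.Five

variable {W F : Type} [AddCommGroup W] [AddCommGroup F]
variable {G : Type*} [Group G]
variable {D : Set G} {R : RuForm W F} {𝒵 : Set (Subgroup G)}

/-- the (at most three) good vectors with respect to `f`. -/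
def J3 (R : RuForm W F) (f : F) : Set W :=
  {j : W | j ≠ 0 ∧ R.q j = 0 ∧ ¬ (∃ i, j ∈ R.V i) ∧
    ∀ u, (R.b u j = 0 ∨ R.b u j = f) → ¬ (u ≠ 0 ∧ ∃ i, u ∈ R.V i)}

section
variable (L : LocalData D 𝒵 R)
include L

/-- (e) -/
theorem mem_J3 [Finite G] {z : G} (hz1 : z ≠ 1) {b c : Subgroup G} (hb : b ∈ 𝒵)
    (hzb : z ∈ b) (hc : c ∈ 𝒵) (hzc : z ∈ c) (hbc : b ≠ c) {π : G → W} {ζ : F → G}
    (cc : IsCoord D c R π ζ) {fz : F} (hfz : ζ fz = z) {j : G} (hj : j ∈ b) (hj1 : j ≠ 1)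
    (hjz : j ≠ z) : π j ∈ J3 R fz := by
  have hFW : Finite W := Nat.finite_of_card_ne_zero (by rw [R.cardW]; norm_num)
  have hFF : Finite F := Nat.finite_of_card_ne_zero (by rw [R.cardF]; norm_num)
  have hjc := le_cent_of_ne L hz1 hb hzb hc hzc hbc hj
  have hπj : π j ≠ 0 := by
    intro h
    have h1 := (cc.π_ker j hjc).1 h
    rcases inf_eq L hz1 hb hzb hc hzc hbc hj h1 with h | h
    · exact hj1 h
    · exact hjz h
  have hfz0 : fz ≠ 0 := by
    rintro rfl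
    rw [ζ_zero cc] at hfz
    exact hz1 hfz.symm
  refine ⟨hπj, q_of_sq cc hjc (sq_mem L hb hj), ?_, ?_⟩
  · intro hV
    exact notD_mem L hb hj ((cc.D_iff j hjc).2 ⟨hπj, hV⟩)
  · obtain ⟨Kb, hKb, hKT, hiff⟩ := exists_Kbar L hz1 hb hzb hc hzc hbc cc
    let φ : W →+ F := AddMonoidHom.mk' (fun w => R.b (π j) w) (fun x y => R.b_add _ x y)
    have hφ : Function.Surjective φ := fun f => R.q1 (π j) hπj f
    let M : AddSubgroup F := AddSubgroup.zmultiples fz
    have hM2 : Nat.card M = 2 := by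
      rw [Nat.card_zmultiples]
      exact addOrderOf_eq_prime (by rw [two_nsmul]; exact R.twoF fz) hfz0
    have hMmem : ∀ x, x ∈ M → x = 0 ∨ x = fz := by
      intro x hx
      obtain ⟨k, rfl⟩ := AddSubgroup.mem_zmultiples_iff.1 hx
      rcases Int.even_or_odd k with ⟨m, rfl⟩ | ⟨m, rfl⟩
      · left
        rw [add_zsmul, ← zsmul_add, R.twoF, smul_zero]
      · right
        rw [add_zsmul, mul_comm, mul_zsmul, two_zsmul, R.twoF, smul_zero]; simp
    have hMi : M.index = 4 := by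
      have := AddSubgroup.card_mul_index M
      rw [hM2, R.cardF] at this
      omega
    have hSi : (M.comap φ).index = 4 := by
      rw [AddSubgroup.index_comap_of_surjective M hφ, hMi]
    have hScard : Nat.card (M.comap φ) = 64 := by
      have := AddSubgroup.card_mul_index (M.comap φ)
      rw [hSi, R.cardW] at this
      omega
    have hle : Kb ≤ M.comap φ := by
      intro w hw
      obtain ⟨x, hx, rfl⟩ := cc.π_surj w
      have hxb := (hiff x hx).2 hw
      have h1 := cc.comm x hx j hjc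
      have h2 : x⁻¹ * j⁻¹ * x * j ∈ b := by
        have h3 : x⁻¹ * j⁻¹ * x ∈ b := conj_inv_mem_of_mem_nor hxb (b.inv_mem hj)
        exact b.mul_mem h3 hj
      have h3 : x⁻¹ * j⁻¹ * x * j ∈ c := by
        rw [h1]; exact ζ_mem cc _
      show R.b (π j) (π x) ∈ M
      rw [R.b_symm]
      rcases inf_eq L hz1 hb hzb hc hzc hbc h2 h3 with h | h
      · rw [h] at h1
        rw [ζ_inj_zero cc h1.symm]
        exact M.zero_mem
      · rw [h, ← hfz] at h1
        rw [← cc.ζ_inj h1]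
        exact AddSubgroup.mem_zmultiples fz
    have heq : Kb = M.comap φ := by
      apply AddSubgroup.eq_of_le_of_card_ge hle
      rw [hScard, hKb]
    intro u hu
    have : u ∈ Kb := by
      rw [heq]
      show R.b (π j) u ∈ M
      rw [R.b_symm]
      rcases hu with h | h
      · rw [h]; exact M.zero_mem
      · rw [h]; exact AddSubgroup.mem_zmultiples fz
    exact hKT u this

theorem card_le_five [Finite G] {z : G} (hz1 : z ≠ 1) {c : Subgroup G} (hc : c ∈ 𝒵)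
    (hzc : z ∈ c) : Nat.card (Sig 𝒵 z) ≤ 5 := by
  classical
  letI : Fintype (Sig 𝒵 z) := Fintype.ofFinite _
  obtain ⟨π, ζ, cc⟩ := L.coord c hc
  obtain ⟨fz, hfz⟩ := (cc.ζ_range z).1 hzc
  have hfz0 : fz ≠ 0 := by
    rintro rfl
    rw [ζ_zero cc] at hfz
    exact hz1 hfz.symm
  let S' := {b : Sig 𝒵 z // b ≠ ⟨c, hc, hzc⟩}
  have hS' : Nat.card S' = Nat.card (Sig 𝒵 z) - 1 := by
    rw [Nat.card_eq_fintype_card, Nat.card_eq_fintype_card, Fintype.card_subtype_compl]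
    simp
  letI : Fintype S' := Fintype.ofFinite _
  have h6 : ∀ b : S', Nat.card {j : G // j ∈ b.1.1 ∧ j ≠ 1 ∧ j ≠ z} = 6 := by
    intro b
    have h8 := card_mem L b.1.2.1
    have : Nat.card {j : G // j ∈ b.1.1 ∧ j ≠ 1 ∧ j ≠ z} = ((b.1.1 : Set G) \ {1, z}).ncard := by
      apply Nat.card_congr
      refine Equiv.subtypeEquivRight (fun x => ?_)
      simp only [Set.mem_diff, SetLike.mem_coe, Set.mem_insert_iff, Set.mem_singleton_iff, not_or]
    rw [this, Set.ncard_diff]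
    · have h1 : (b.1.1 : Set G).ncard = 8 := h8
      rw [h1, Set.ncard_pair hz1.symm]
    · intro x hx
      rcases hx with rfl | hx
      · exact b.1.1.one_mem
      · rw [Set.mem_singleton_iff] at hx
        rw [hx]; exact b.1.2.2
  have hsig : Nat.card (Σ b : S', {j : G // j ∈ b.1.1 ∧ j ≠ 1 ∧ j ≠ z}) = Nat.card S' * 6 := by
    rw [Nat.card_sigma, Finset.sum_congr rfl (fun b _ => h6 b), Finset.sum_const, smul_eq_mul,
      Finset.card_univ, Nat.card_eq_fintype_card]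
  have hne : ∀ b : S', b.1.1 ≠ c := fun b h => b.2 (Subtype.ext h)
  have hinj : Nat.card (Σ b : S', {j : G // j ∈ b.1.1 ∧ j ≠ 1 ∧ j ≠ z}) ≤
      Nat.card {x : G // x ∈ Subgroup.centralizer (c : Set G) ∧ π x ∈ J3 R fz} := by
    refine Nat.card_le_card_of_injective (fun p => ⟨p.2.1, ?_, ?_⟩) ?_
    · exact le_cent_of_ne L hz1 p.1.1.2.1 p.1.1.2.2 hc hzc (hne _) p.2.2.1
    · exact mem_J3 L hz1 p.1.1.2.1 p.1.1.2.2 hc hzc (hne _) cc hfz p.2.2.1 p.2.2.2.1 p.2.2.2.2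
    · rintro ⟨b, j⟩ ⟨b', j'⟩ h
      simp only [Subtype.mk.injEq] at h
      have hbb : b = b' := by
        by_contra hbb
        have hbb' : b.1.1 ≠ b'.1.1 := fun h' => hbb (Subtype.ext (Subtype.ext h'))
        have h1 : j.1 ∈ b'.1.1 := by rw [h]; exact j'.2.1
        rcases inf_eq L hz1 b.1.2.1 b.1.2.2 b'.1.2.1 b'.1.2.2 hbb' j.2.1 h1 with h | h
        · exact j.2.2.1 h
        · exact j.2.2.2 h
      subst hbb
      congr 1
      exact Subtype.ext h
  rw [hsig, cardPre cc] at hinj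
  have h3 : Nat.card (J3 R fz) ≤ 3 := R.q2 fz hfz0
  have : Nat.card (J3 R fz) * 8 ≤ 3 * 8 := Nat.mul_le_mul_right 8 h3
  omega

theorem five_le [Finite G] {z : G} (hz1 : z ≠ 1) {b c : Subgroup G} (hb : b ∈ 𝒵)
    (hzb : z ∈ b) (hc : c ∈ 𝒵) (hzc : z ∈ c) (hbc : b ≠ c) : 5 ≤ Nat.card (Sig 𝒵 z) := by
  have hH : ∀ x ∈ Subgroup.centralizer (c : Set G), Commute x z := fun x hx =>
    ((Subgroup.mem_centralizer_iff.1 hx) z hzc).symm
  letI := sigAct L z (Subgroup.centralizer (c : Set G)) hH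
  obtain ⟨π, ζ, cc⟩ := L.coord c hc
  let b' : Sig 𝒵 z := ⟨b, hb, hzb⟩
  let c' : Sig 𝒵 z := ⟨c, hc, hzc⟩
  have hst : Nat.card (MulAction.stabilizer (Subgroup.centralizer (c : Set G)) b') = 512 := by
    rw [← card_K L hz1 hb hzb hc hzc hbc]
    apply Nat.card_congr
    refine Equiv.ofBijective (fun x => ⟨x.1.1, x.1.2, ?_⟩) ⟨?_, ?_⟩
    · exact congrArg Subtype.val x.2
    · intro x y hxy
      have h0 := Subtype.ext_iff.1 hxy
      have h : x.1.1 = y.1.1 := h0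
      exact Subtype.ext (Subtype.ext h)
    · rintro ⟨x, hx, hxb⟩
      exact ⟨⟨⟨x, hx⟩, Subtype.ext hxb⟩, rfl⟩
  have hidx : (MulAction.stabilizer (Subgroup.centralizer (c : Set G)) b').index = 4 := by
    have := Subgroup.card_mul_index (MulAction.stabilizer (Subgroup.centralizer (c : Set G)) b')
    rw [hst, card_cent cc] at this
    omega
  rw [MulAction.index_stabilizer] at hidx
  have hnot : c' ∉ MulAction.orbit (Subgroup.centralizer (c : Set G)) b' := by
    rintro ⟨⟨g, hg⟩, h⟩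
    have h1 : cj g b = c := congrArg Subtype.val h
    have h2 : cj g c = c := cent_le_nor c hg
    have h3 := congrArg (cj g⁻¹) (h1.trans h2.symm)
    rw [cj_inv_cj, cj_inv_cj] at h3
    exact hbc h3
  have h5 : (insert c' (MulAction.orbit (Subgroup.centralizer (c : Set G)) b')).ncard = 5 := by
    rw [Set.ncard_insert_of_notMem hnot (Set.toFinite _), hidx]
  rw [← h5, ← Set.ncard_univ]
  exact Set.ncard_le_ncard (Set.subset_univ _) (Set.toFinite _)

/-- `|Σ| ∈ {1, 5}`. -/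
theorem card_sig [Finite G] {z : G} (hz1 : z ≠ 1) {c : Subgroup G} (hc : c ∈ 𝒵)
    (hzc : z ∈ c) : Nat.card (Sig 𝒵 z) = 1 ∨ Nat.card (Sig 𝒵 z) = 5 := by
  by_cases h : ∃ b : Sig 𝒵 z, b.1 ≠ c
  · right
    obtain ⟨b, hb⟩ := h
    exact le_antisymm (card_le_five L hz1 hc hzc) (five_le L hz1 b.2.1 b.2.2 hc hzc hb)
  · left
    push Not at h
    rw [Nat.card_eq_one_iff_unique]
    exact ⟨⟨fun a b => Subtype.ext ((h a).trans (h b).symm)⟩, ⟨⟨c, hc, hzc⟩⟩⟩

/-- `C(z)` is transitive on `Σ`. -/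
theorem trans_sig {z : G} (hz1 : z ≠ 1) {b c : Subgroup G} (hb : b ∈ 𝒵)
    (hzb : z ∈ b) (hc : c ∈ 𝒵) (hzc : z ∈ c) : ∃ g, Commute g z ∧ cj g b = c := by
  obtain ⟨g, hg⟩ := L.Z_trans b hb c hc
  have h1 : g⁻¹ * z * g ∈ b := by
    rw [← mem_cj, hg]; exact hzc
  have h2 : g⁻¹ * z * g ≠ 1 := by
    intro h
    apply hz1
    have : z = g * (g⁻¹ * z * g) * g⁻¹ := by group
    rw [this, h]; group
  obtain ⟨n, hn, hnz⟩ := L.norm_trans b hb z hzb _ h1 hz1 h2
  refine ⟨g * n, ?_, ?_⟩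
  · show g * n * z = z * (g * n)
    have h3 : n * z = g⁻¹ * z * g * n := by
      calc n * z = (n * z * n⁻¹) * n := by group
        _ = _ := by rw [hnz]
    calc g * n * z = g * (n * z) := by group
      _ = z * (g * n) := by rw [h3]; group
  · rw [cj_mul, mem_nor.1 hn, hg]

/-- order of the centraliser of `z`. -/
theorem card_cent_z [Finite G] {z : G} (hz1 : z ≠ 1) {c : Subgroup G} (hc : c ∈ 𝒵)
    (hzc : z ∈ c) :
    Nat.card (Subgroup.centralizer {z}) = Nat.card (Sig 𝒵 z) * (2 ^ 14 * 3) := by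
  have hH : ∀ x ∈ Subgroup.centralizer ({z} : Set G), Commute x z := fun x hx =>
    ((Subgroup.mem_centralizer_iff.1 hx) z rfl).symm
  letI := sigAct L z (Subgroup.centralizer {z}) hH
  let c' : Sig 𝒵 z := ⟨c, hc, hzc⟩
  have hst : Nat.card (MulAction.stabilizer (Subgroup.centralizer ({z} : Set G)) c') =
      2 ^ 14 * 3 := by
    rw [← card_nor_cent L hz1 hc hzc]
    apply Nat.card_congr
    refine Equiv.ofBijective (fun x => ⟨x.1.1, ?_, x.1.2⟩) ⟨?_, ?_⟩
    · exact congrArg Subtype.val x.2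
    · intro x y hxy
      have h0 := Subtype.ext_iff.1 hxy
      have h : x.1.1 = y.1.1 := h0
      exact Subtype.ext (Subtype.ext h)
    · rintro ⟨x, hx, hxb⟩
      exact ⟨⟨⟨x, hxb⟩, Subtype.ext hx⟩, rfl⟩
  have h1 := Subgroup.card_mul_index (MulAction.stabilizer (Subgroup.centralizer ({z} : Set G)) c')
  rw [hst, MulAction.index_stabilizer] at h1
  have h2 : MulAction.orbit (Subgroup.centralizer ({z} : Set G)) c' = Set.univ := by
    rw [Set.eq_univ_iff_forall]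
    intro b
    obtain ⟨g, hg, hgb⟩ := trans_sig L hz1 hc hzc b.2.1 b.2.2
    refine ⟨⟨g, Subgroup.mem_centralizer_iff.2 ?_⟩, Subtype.ext hgb⟩
    rintro y rfl
    exact hg.eq.symm
  rw [h2, Set.ncard_univ] at h1
  rw [← h1]; ring

end

end Cfsg.Agent.Ru127.Xi
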