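import Cfsg.Agent.RuB.Count
import Cfsg.Agent.RuB.NormZ
import Cfsg.Agent.Ru127.FixD
import Cfsg.Agent.Ru127.Xi

/-!
# The case `|Σ| = 1`, first part: `7 γ` is the number of conjugates of `z` in `N(Z) \ Z`
-/

set_option autoImplicit false

namespace Cfsg.Agent.Ru127.XiOne

open Subgroup Cfsg.Agent.RuB Cfsg.Agent.RuB.Core Cfsg.Agent.RuB.NormZ Cfsg.Agent.RuB.NormQ Cfsg.Agent.RuB.Count
open Cfsg.Agent.Ru127.Form Cfsg.Agent.Ru127.Basic Cfsg.Agent.Ru127.Count Cfsg.Agent.Ru127.NorD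
open Cfsg.Agent.Ru127.FixD

variable {G : Type*} [Group G] {C : Core G}
variable {W F : Type} [AddCommGroup W] [AddCommGroup F] {R : RuForm W F} {𝒵 : Set (Subgroup G)}

section

variable (L : LocalData (DV C) 𝒵 R)
include L

/-- an involution normalising but not centralising `Y ∈ 𝒵` centralises a non-trivial element of `Y` -/
theorem exists_ne_one_commute' {t : G} (ht2 : t * t = 1) {Y : Subgroup G} (hY : Y ∈ 𝒵)
    (ht : t ∈ nor Y) (htc : t ∉ centralizer (Y : Set G)) :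
    ∃ z ∈ Y, z ≠ 1 ∧ Commute t z := by
  rw [mem_centralizer_iff] at htc
  push Not at htc
  obtain ⟨y, hy, hne⟩ := htc
  have hy : y ∈ Y := hy
  have h1 : t * y * t⁻¹ ∈ Y := conj_mem_of_mem_nor ht hy
  have htinv : t⁻¹ = t := by
    rw [inv_eq_iff_mul_eq_one]; exact ht2
  refine ⟨y * (t * y * t⁻¹), mul_mem hy h1, ?_, ?_⟩
  · intro h
    have h2 : y * y = 1 := sq_mem L hY hy
    have h3 : t * y * t⁻¹ = y := by
      have := h.trans h2.symm
      exact mul_left_cancel this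
    apply hne
    calc y * t = (t * y * t⁻¹) * t := by rw [h3]
      _ = t * y := by group
  · have hc : Commute y (t * y * t⁻¹) := comm_mem L hY hy h1
    have e1 : t * y = (t * y * t⁻¹) * t := by group
    have e2 : t * (t * y * t⁻¹) = y * t := by
      calc t * (t * y * t⁻¹) = (t * t) * y * t⁻¹ := by group
        _ = y * t := by rw [ht2, htinv, one_mul]
    show t * (y * (t * y * t⁻¹)) = y * (t * y * t⁻¹) * t
    calc t * (y * (t * y * t⁻¹)) = (t * y) * (t * y * t⁻¹) := by group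
      _ = (t * y * t⁻¹) * (t * (t * y * t⁻¹)) := by rw [e1]; group
      _ = (t * y * t⁻¹) * (y * t) := by rw [e2]
      _ = ((t * y * t⁻¹) * y) * t := by group
      _ = (y * (t * y * t⁻¹)) * t := by rw [← hc.eq]

/-- an involution outside `D` normalising `Y` and commuting with an element of `D ∩ C(Y)` is in `Y` -/
theorem star {y d : G} {Y : Subgroup G} (hY : Y ∈ 𝒵) (hy : y ∈ nor Y) (hyy : y * y = 1) (hyD : y ∉ DV C)
    (hd : d ∈ DV C) (hdY : d ∈ centralizer (Y : Set G)) (hc : Commute y d) : y ∈ Y := by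
  obtain ⟨π, ζ, c⟩ := L.coord Y hY
  have hyY : y ∈ centralizer (Y : Set G) := by
    by_contra hcon
    obtain ⟨z, hz, hz1, hcz⟩ := exists_ne_one_commute' L hyy hY hy hcon
    exact hcon (cent_of_commute L hd hz1 hY hz hdY hc hcz)
  exact mem_Y_of_commute c hd hdY hyY hyy hyD hc.symm

variable (hZ : Zs C ∈ 𝒵)
include hZ

theorem z_notD : C.z 1 ∉ DV C := notD_mem L hZ (z_mem_Zs 1)

theorem zc_notD {y : G} (hy : ZC C y) : y ∉ DV C := by
  obtain ⟨g, rfl⟩ := hy
  intro h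
  apply z_notD L hZ
  have := DV_conj h g⁻¹
  have e : g⁻¹ * (g * C.z 1 * g⁻¹) * g⁻¹⁻¹ = C.z 1 := by group
  rwa [e] at this

theorem noV : NoV C := by
  intro g b h
  have hb : b ≠ 0 := by
    rintro rfl
    rw [C.v_zero] at h
    have h1 : C.z 1 = 1 := by
      calc C.z 1 = g⁻¹ * (g * C.z 1 * g⁻¹) * g := by group
        _ = 1 := by rw [h]; group
    exact one_ne_zero (C.z_eq_one h1)
  exact zc_notD L hZ ⟨g, rfl⟩ ⟨1, b, hb, by rw [h]; group⟩

end

section

variable [Finite G] (L : LocalData (DV C) 𝒵 R) (hZ : Zs C ∈ 𝒵) (h1 : Nat.card (Sig 𝒵 (C.z 1)) = 1)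
include L hZ h1

omit [Finite G] in
theorem mem_nor_of_comm1 {g : G} (hg : Commute g (C.z 1)) : g ∈ nor (Zs C) := by
  have hcj : C.z 1 ∈ cj g (Zs C) := mem_cj_of_commute hg (z_mem_Zs 1)
  have hsub : Subsingleton (Sig 𝒵 (C.z 1)) := (Nat.card_eq_one_iff_unique.mp h1).1
  have := Subsingleton.elim (⟨cj g (Zs C), L.Z_conj _ hZ g, hcj⟩ : Sig 𝒵 (C.z 1)) ⟨Zs C, hZ, z_mem_Zs 1⟩
  exact congrArg Subtype.val this

omit [Finite G] in
theorem mem_nor_of_comm {g : G} {b : K8} (hb : b ≠ 0) (hg : Commute g (C.z b)) : g ∈ nor (Zs C) := by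
  let k : K8ˣ := Units.mk0 (b ^ 2) (pow_ne_zero _ hb)
  have hk : (k : K8) ^ 4 = b := by
    show (b ^ 2) ^ 4 = b
    rw [← pow_mul]; exact K8.pow_eight b
  have h2 : C.dk k * C.z 1 * (C.dk k)⁻¹ = C.z b := by rw [C.dk_z, one_mul, hk]
  have h3 : Commute ((C.dk k)⁻¹ * g * C.dk k) (C.z 1) := by
    show (C.dk k)⁻¹ * g * C.dk k * C.z 1 = C.z 1 * ((C.dk k)⁻¹ * g * C.dk k)
    calc (C.dk k)⁻¹ * g * C.dk k * C.z 1 = (C.dk k)⁻¹ * (g * (C.dk k * C.z 1 * (C.dk k)⁻¹)) * C.dk k := by group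
      _ = (C.dk k)⁻¹ * ((C.dk k * C.z 1 * (C.dk k)⁻¹) * g) * C.dk k := by rw [h2, hg.eq]
      _ = _ := by group
  have h4 := mem_nor_of_comm1 L hZ h1 h3
  have hd := dk_mem_nor (C := C) k
  have h5 := (nor (Zs C)).mul_mem ((nor (Zs C)).mul_mem hd h4) ((nor (Zs C)).inv_mem hd)
  have e : C.dk k * ((C.dk k)⁻¹ * g * C.dk k) * (C.dk k)⁻¹ = g := by group
  rwa [e] at h5

/-- the conjugates of `z` in `N(Z) \ Z` -/
def X (C : Core G) (y : G) : Prop := ZC C y ∧ y ∈ nor (Zs C) ∧ y ∉ Zs C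

omit h1 in
/-- the involution in `⟨y t⟩` for `y ∈ X` -/
theorem exists_inv_X {a : A4} (ha : a ≠ 0) {y : G} (hy : X C y) :
    ∃ b : K8, b ≠ 0 ∧ C.z b ∈ zpowers (y * C.v a) := by
  obtain ⟨hzc, hn, hnZ⟩ := hy
  have hvD : C.v a ∈ DV C := ⟨1, a, ha, by group⟩
  have hvc : C.v a ∈ centralizer (Zs C : Set G) := by
    rw [mem_centralizer_iff]
    rintro _ ⟨b, rfl⟩
    exact (C.v_z_comm a b).symm
  set g := y * C.v a with hg
  -- `y` does not commute with `v a`
  have hnc : ¬ Commute y (C.v a) := fun hc =>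
    hnZ (star L hZ hn hzc.sq (zc_notD L hZ hzc) hvD hvc hc)
  -- `g ^ 2` centralises `Z`
  have hg2 : g * g ∈ centralizer (Zs C : Set G) := by
    have e : g * g = (y * C.v a * y⁻¹) * (y * y) * C.v a := by rw [hg]; group
    rw [e, hzc.sq, mul_one]
    exact mul_mem (conj_mem_cent hn hvc) hvc
  -- an involution in `⟨g⟩` is in `⟨g^2⟩`
  have key : ∀ j ∈ zpowers g, j * j = 1 → j ∈ centralizer (Zs C : Set G) := by
    intro j hj hjj
    obtain ⟨n, rfl⟩ := mem_zpowers_iff.mp hj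
    have hzp : ∀ m : ℤ, g ^ (2 * m) ∈ centralizer (Zs C : Set G) := by
      intro m
      rw [zpow_mul, zpow_two]
      exact zpow_mem hg2 m
    rcases Int.even_or_odd' n with ⟨m, hm | hm⟩
    · rw [hm]; exact hzp m
    · -- `g` has odd exponent: `g^(2n) = 1`, n odd
      exfalso
      have h2 : g ^ (2 * n) = 1 := by rw [two_mul, zpow_add, hjj]
      -- `g^8 = 1`
      obtain ⟨π, ζ, c⟩ := L.coord _ hZ
      have h4 : (g * g) * (g * g) ∈ Zs C := by
        have := c.sq _ hg2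
        rw [this]
        exact ζ_mem c _
      have h8 : g ^ (8 : ℤ) = 1 := by
        have h8' := sq_mem L hZ h4
        calc g ^ (8 : ℤ) = ((g * g) * (g * g)) * ((g * g) * (g * g)) := by
              rw [show (8 : ℤ) = 1 + 1 + (1 + 1) + (1 + 1 + (1 + 1)) by norm_num]
              simp only [zpow_add, zpow_one]
          _ = 1 := h8'
      have h22 : g ^ (2 : ℤ) = 1 := by
        have hgcd : ∃ u v : ℤ, 2 = (2 * n) * u + 8 * v := by
          have hcop : IsCoprime n 4 := by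
            rw [show (4 : ℤ) = 2 * 2 by norm_num]
            have h2 : IsCoprime n 2 := by
              refine ⟨1, -m, ?_⟩
              rw [hm]; ring
            exact h2.mul_right h2
          obtain ⟨u, v, huv⟩ := hcop
          exact ⟨u, v, by linear_combination -2 * huv⟩
        obtain ⟨u, v, huv⟩ := hgcd
        rw [huv, zpow_add, zpow_mul g (2 * n) u, zpow_mul g 8 v, h2, h8, one_zpow, one_zpow, one_mul]
      apply hnc
      have h3 : y * C.v a * (y * C.v a) = 1 := by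
        rw [← hg, ← zpow_two]; exact h22
      show y * C.v a = C.v a * y
      have hyi : y⁻¹ = y := inv_eq_of_mul_eq_one_left hzc.sq
      have := eq_inv_of_mul_eq_one_left h3
      rw [this, mul_inv_rev, C.v_inv, hyi]
  obtain ⟨l, hl, hj | hj⟩ := Cfsg.Agent.RuB.Count.exists_inv (noV L hZ) ha hzc
  · exfalso
    have hjj : (C.v a * l) * (C.v a * l) = 1 := by
      calc C.v a * l * (C.v a * l) = C.v a * (l * C.v a) * l := by group
        _ = C.v a * (C.v a * l) * l := by rw [C.v_comm a l hl.1]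
        _ = (C.v a * C.v a) * (l * l) := by group
        _ = 1 := by rw [C.v_sq, hl.2.1, one_mul]
    have h2 := key _ hj hjj
    obtain ⟨x, hx⟩ := exists_grow' ha hl
    have hD : C.v a * l ∈ DV C := ⟨x, a, ha, hx⟩
    have hc := Cfsg.Agent.RuB.Count.comm_of_mem hzc.sq (C.v_sq a) hj hjj
    exact hnZ (star L hZ hn hzc.sq (zc_notD L hZ hzc) hD h2 hc)
  · have h2 := key _ hj hl.2.1
    rw [mem_centralizer_iff] at h2
    have h3 := h2 (C.z 1) (z_mem_Zs 1)
    obtain ⟨p, q, hpq⟩ := Cfsg.Agent.RuB.Count.mem_T_of_comm hl.1 h3.symm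
    have h4 := hl.2.1
    rw [hpq, C.U_sq] at h4
    have h5 := pow_eq_zero_iff (by norm_num) |>.mp (C.z_eq_one h4)
    subst h5
    refine ⟨q, ?_, ?_⟩
    · rintro rfl
      exact hl.2.2 (by rw [hpq, C.U_zero])
    · rw [C.z_eq, ← hpq]; exact hj

omit [Finite G] in
theorem mem_X_of {a : A4} (ha : a ≠ 0) {y : G} {b : K8} (hb : b ≠ 0) (hy : AS C a (C.z b) y) : X C y := by
  obtain ⟨hzc, hj⟩ := hy
  have hc := Cfsg.Agent.RuB.Count.comm_of_mem hzc.sq (C.v_sq a) hj (C.z_sq b)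
  refine ⟨hzc, mem_nor_of_comm L hZ h1 hb hc, ?_⟩
  rintro ⟨c, rfl⟩
  -- `z c * v a` has order two
  obtain ⟨n, hn⟩ := mem_zpowers_iff.mp hj
  have hcm : Commute (C.z c) (C.v a) := (C.v_z_comm a c).symm
  rw [hcm.mul_zpow] at hn
  have hpow : ∀ x : G, x * x = 1 → x ^ n = 1 ∨ x ^ n = x := by
    intro x hx
    rcases Int.even_or_odd' n with ⟨m, hm | hm⟩
    · left; rw [hm, zpow_mul, zpow_two, hx, one_zpow]
    · right; rw [hm, zpow_add, zpow_mul, zpow_two, hx, one_zpow, one_mul, zpow_one]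
  have hva : (C.v a) ^ n = 1 ∨ (C.v a) ^ n = C.v a := hpow _ (C.v_sq a)
  have hzz : (C.z c) ^ n ∈ C.L := zpow_mem (C.z_mem c) n
  rcases Int.even_or_odd' n with ⟨m, hm | hm⟩
  · have e1 : (C.v a) ^ n = 1 := by rw [hm, zpow_mul, zpow_two, C.v_sq, one_zpow]
    have e2 : (C.z c) ^ n = 1 := by rw [hm, zpow_mul, zpow_two, C.z_sq, one_zpow]
    rw [e1, e2, one_mul] at hn
    exact hb (C.z_eq_one hn.symm)
  · have e1 : (C.v a) ^ n = C.v a := by
      rw [hm, zpow_add, zpow_mul, zpow_two, C.v_sq, one_zpow, one_mul, zpow_one]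
    rw [e1] at hn
    have h3 : C.v a * (C.z c) ^ n = C.v 0 * C.z b := by
      rw [C.v_zero, one_mul, ← hn]
      exact (C.v_comm a _ hzz)
    exact ha (C.vl_inj hzz (C.z_mem b) h3).1

theorem card_X {a : A4} (ha : a ≠ 0) : Nat.card {y : G // X C y} = 7 * Nat.card {y : G // AS C a (C.z 1) y} := by
  classical
  have hsame : ∀ b : {b : K8 // b ≠ 0}, Nat.card {y : G // AS C a (C.z b.1) y} = Nat.card {y : G // AS C a (C.z 1) y} := by
    rintro ⟨b, hb⟩
    let k : K8ˣ := Units.mk0 (b ^ 2) (pow_ne_zero _ hb)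
    have hk : (k : K8) ^ 4 = b := by
      show (b ^ 2) ^ 4 = b
      rw [← pow_mul]; exact K8.pow_eight b
    have h2 : C.dk k * C.z 1 * (C.dk k)⁻¹ = C.z b := by rw [C.dk_z, one_mul, hk]
    rw [← h2]
    exact card_AS_conj _ (C.dk_mem k)
  have h7 : Nat.card {b : K8 // b ≠ 0} = 7 := by
    rw [Nat.card_eq_fintype_card]; decide +kernel
  let f : (Σ b : {b : K8 // b ≠ 0}, {y : G // AS C a (C.z b.1) y}) → {y : G // X C y} :=
    fun s => ⟨s.2.1, mem_X_of L hZ h1 ha s.1.2 s.2.2⟩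
  have hf : Function.Bijective f := by
    constructor
    · rintro ⟨⟨b, hb⟩, y, hy⟩ ⟨⟨b', hb'⟩, y', hy'⟩ h
      have hyy : y = y' := congrArg Subtype.val h
      subst hyy
      have h3 := unique_inv hy.2 hy'.2 (C.z_sq b) (C.z_sq b') (fun e => hb (C.z_eq_one e))
        (fun e => hb' (C.z_eq_one e))
      have h4 := C.z_inj h3
      subst h4
      rfl
    · rintro ⟨y, hy⟩
      obtain ⟨b, hb, hj⟩ := exists_inv_X L hZ ha hy
      exact ⟨⟨⟨b, hb⟩, ⟨y, hy.1, hj⟩⟩, rfl⟩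
  rw [← Nat.card_congr (Equiv.ofBijective f hf), Nat.card_sigma]
  simp only [hsame, Finset.sum_const, smul_eq_mul, Finset.card_univ]
  rw [← Nat.card_eq_fintype_card, h7]

end

end Cfsg.Agent.Ru127.XiOne
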