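import Cfsg.Agent.Ru127.XiOneA

/-!
# The case `|Σ| = 1`, second part: `8 ∣ 7 γ` and `7 γ ≤ 3384`
-/

set_option autoImplicit false

namespace Cfsg.Agent.Ru127.XiOne

open Subgroup Cfsg.Agent.RuB Cfsg.Agent.RuB.Core Cfsg.Agent.RuB.NormZ Cfsg.Agent.RuB.NormQ Cfsg.Agent.RuB.Count
open Cfsg.Agent.Ru127.Form Cfsg.Agent.Ru127.Basic Cfsg.Agent.Ru127.Count Cfsg.Agent.Ru127.NorD
open Cfsg.Agent.Ru127.FixD Cfsg.Agent.Ru127.Iso

section abstract

variable {G : Type*} [Group G] [Finite G] {D : Set G} {Y : Subgroup G}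
variable {W F : Type} [AddCommGroup W] [AddCommGroup F] {R : RuForm W F} {π : G → W} {ζ : F → G}
variable (c : IsCoord D Y R π ζ)
include c

omit [Finite G] in
theorem ζ_comm (a b : F) : ζ a * ζ b = ζ b * ζ a := by
  rw [← c.ζ_add, ← c.ζ_add, add_comm]

omit [Finite G] in
theorem ζ_sq (a : F) : ζ a * ζ a = 1 := by
  rw [← c.ζ_add, R.twoF, ζ_zero c]

omit [Finite G] in
theorem ζ_inv (a : F) : (ζ a)⁻¹ = ζ a := inv_eq_of_mul_eq_one_right (ζ_sq c a)

/-- `{f | ζ f commutes with y}` -/
def SS (c : IsCoord D Y R π ζ) (y : G) : AddSubgroup F where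
  carrier := {f | Commute (ζ f) y}
  add_mem' := by
    intro a b ha hb
    show Commute (ζ (a + b)) y
    rw [c.ζ_add]
    exact Commute.mul_left ha hb
  zero_mem' := by
    show Commute (ζ 0) y
    rw [ζ_zero c]
    exact Commute.one_left y
  neg_mem' := by
    intro a ha
    have : -a = a := by
      rw [neg_eq_iff_add_eq_zero]; exact R.twoF a
    rw [this]; exact ha

omit [Finite G] in
theorem mem_SS {y : G} {f : F} : f ∈ SS c y ↔ Commute (ζ f) y := Iff.rfl

omit [Finite G] in
theorem SS_ne_top {y : G} (hy : y ∉ centralizer (Y : Set G)) : SS c y ≠ ⊤ := by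
  intro h
  apply hy
  rw [mem_centralizer_iff]
  intro z hz
  obtain ⟨f, rfl⟩ := (c.ζ_range z).1 hz
  have : f ∈ SS c y := by rw [h]; trivial
  exact this

omit [Finite G] in
theorem card_SS_le {y : G} (hy : y ∉ centralizer (Y : Set G)) : Nat.card (SS c y) ≤ 4 := by
  have hFF : Finite F := Nat.finite_of_card_ne_zero (by rw [R.cardF]; norm_num)
  have h1 := (SS c y).card_mul_index
  have h2 : (SS c y).index ≠ 1 := by
    rw [ne_eq, AddSubgroup.index_eq_one]
    exact SS_ne_top c hy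
  have h3 : (SS c y).index ≠ 0 := AddSubgroup.index_ne_zero_of_finite
  rw [R.cardF] at h1
  have h4 : 2 ≤ (SS c y).index := by omega
  nlinarith

/-- the fixed space of the map induced by `y` on `W` -/
def fixW (A : W →+ W) : AddSubgroup W where
  carrier := {w | A w = w}
  add_mem' := by
    intro a b ha hb
    show A (a + b) = a + b
    rw [map_add, show A a = a from ha, show A b = b from hb]
  zero_mem' := map_zero A
  neg_mem' := by
    intro a ha
    show A (-a) = -a
    rw [map_neg, show A a = a from ha]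

omit [Finite G] in
theorem card_fixW_le {y : G} (hyn : y ∈ nor Y) (hy : y ∉ centralizer (Y : Set G)) {A : W →+ W}
    (hA : ∀ x ∈ centralizer (Y : Set G), π (y * x * y⁻¹) = A (π x)) : Nat.card (fixW A) ≤ 16 := by
  refine card_le_16 R (SS c y) (SS_ne_top c hy) _ ?_
  intro w hw
  obtain ⟨x, hx, rfl⟩ := c.π_surj w
  have hw' : A (π x) = π x := hw
  rw [← hA x hx] at hw'
  have hx' := conj_mem_cent hyn hx
  have h1 : x⁻¹ * (y * x * y⁻¹) ∈ Y := by
    rw [← c.π_ker _ (mul_mem (inv_mem hx) hx'), c.π_mul _ (inv_mem hx) _ hx', π_inv c hx, hw', R.twoW]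
  obtain ⟨f, hf⟩ := (c.ζ_range _).1 h1
  have h2 : y * x * y⁻¹ = x * ζ f := by rw [hf]; group
  have hcf : ζ f * x = x * ζ f := comm_of_mem c hx (ζ_mem c f)
  rw [mem_SS, ← c.sq x hx]
  show x * x * y = y * (x * x)
  have h3 : y * (x * x) * y⁻¹ = x * x := by
    calc y * (x * x) * y⁻¹ = (y * x * y⁻¹) * (y * x * y⁻¹) := by group
      _ = x * (ζ f * x) * ζ f := by rw [h2]; group
      _ = x * (x * ζ f) * ζ f := by rw [hcf]
      _ = x * x * (ζ f * ζ f) := by group
      _ = x * x := by rw [ζ_sq c, mul_one]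
  rw [mul_inv_eq_iff_eq_mul] at h3
  exact h3.symm

/-- counting a subset of `C(Y)` -/
theorem card_E_le {E : Set G} (hE : ∀ x ∈ E, x ∈ centralizer (Y : Set G)) {U : AddSubgroup W}
    (hEU : ∀ x ∈ E, π x ∈ U) (hU : Nat.card U ≤ 16) {S : AddSubgroup F} (hS4 : Nat.card S ≤ 4)
    (hS : ∀ x ∈ E, ∀ x' ∈ E, π x = π x' → ∃ f ∈ S, x' = x * ζ f) : Nat.card E ≤ 64 := by
  classical
  have hFW : Finite W := Nat.finite_of_card_ne_zero (by rw [R.cardW]; norm_num)
  have hFF : Finite F := Nat.finite_of_card_ne_zero (by rw [R.cardF]; norm_num)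
  -- representatives
  have hrep : ∀ w : W, ∃ x : G, (∃ x' ∈ E, π x' = w) → x ∈ E ∧ π x = w := by
    intro w
    by_cases h : ∃ x' ∈ E, π x' = w
    · obtain ⟨x, hx, hw⟩ := h
      exact ⟨x, fun _ => ⟨hx, hw⟩⟩
    · exact ⟨1, fun h' => absurd h' h⟩
  choose r hr using hrep
  have hf : ∀ x : E, ∃ f : S, (x : G) = r (π x) * ζ f := by
    intro x
    obtain ⟨h1, h2⟩ := hr (π x) ⟨x, x.2, rfl⟩
    obtain ⟨f, hf, h3⟩ := hS _ h1 x x.2 h2
    exact ⟨⟨f, hf⟩, h3⟩
  choose f hf using hf
  have hinj : Function.Injective (fun x : E => ((⟨π x, hEU x x.2⟩, f x) : U × S)) := by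
    intro x y h
    simp only [Prod.mk.injEq, Subtype.mk.injEq] at h
    apply Subtype.ext
    rw [hf x, hf y, h.1, h.2]
  have := Nat.card_le_card_of_injective _ hinj
  rw [Nat.card_prod] at this
  nlinarith

/-- the centraliser in `C(Y)` of an element of `N(Y) \ C(Y)` has order at most 64 -/
theorem card_cent_le {y : G} (hyn : y ∈ nor Y) (hy : y ∉ centralizer (Y : Set G)) :
    Nat.card (centralizer (Y : Set G) ⊓ centralizer {y} : Subgroup G) ≤ 64 := by
  obtain ⟨A, hA⟩ := exists_induced c hyn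
  refine card_E_le c (E := ((centralizer (Y : Set G) ⊓ centralizer {y} : Subgroup G) : Set G))
    (fun x hx => hx.1) (U := fixW A) ?_ (card_fixW_le c hyn hy hA) (S := SS c y) (card_SS_le c hy) ?_
  · intro x hx
    have h1 : y * x = x * y := mem_centralizer_iff.1 hx.2 y rfl
    show A (π x) = π x
    rw [← hA x hx.1, h1, mul_inv_cancel_right]
  · intro x hx x' hx' h
    have h1 : x⁻¹ * x' ∈ Y := by
      rw [← c.π_ker _ (mul_mem (inv_mem hx.1) hx'.1), c.π_mul _ (inv_mem hx.1) _ hx'.1, π_inv c hx.1, h, R.twoW]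
    obtain ⟨f, hf⟩ := (c.ζ_range _).1 h1
    refine ⟨f, ?_, by rw [hf]; group⟩
    rw [mem_SS, hf]
    have h2 : Commute x y := (mem_centralizer_iff.1 hx.2 y rfl).symm
    have h3 : Commute x' y := (mem_centralizer_iff.1 hx'.2 y rfl).symm
    exact h2.inv_left.mul_left h3

/-- the number of involutions in a coset `y C(Y)`, `y ∈ N(Y) \ C(Y)` an involution -/
theorem card_coset_le {y : G} (hyn : y ∈ nor Y) (hy : y ∉ centralizer (Y : Set G)) (hyy : y * y = 1) :
    Nat.card {x : G | x ∈ centralizer (Y : Set G) ∧ (y * x) * (y * x) = 1} ≤ 64 := by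
  obtain ⟨A, hA⟩ := exists_induced c hyn
  have hyi : y⁻¹ = y := inv_eq_of_mul_eq_one_left hyy
  have hconj : ∀ x : G, (y * x) * (y * x) = 1 → y * x * y⁻¹ = x⁻¹ := by
    intro x hx
    rw [hyi]
    calc y * x * y = (y * x) * (y * x) * x⁻¹ := by group
      _ = x⁻¹ := by rw [hx, one_mul]
  refine card_E_le c (fun x hx => hx.1) (U := fixW A) ?_ (card_fixW_le c hyn hy hA) (S := SS c y)
    (card_SS_le c hy) ?_
  · rintro x ⟨hx, hxx⟩
    show A (π x) = π x
    rw [← hA x hx, hconj x hxx, π_inv c hx]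
  · rintro x ⟨hx, hxx⟩ x' ⟨hx', hxx'⟩ h
    have h1 : x⁻¹ * x' ∈ Y := by
      rw [← c.π_ker _ (mul_mem (inv_mem hx) hx'), c.π_mul _ (inv_mem hx) _ hx', π_inv c hx, h, R.twoW]
    obtain ⟨f, hf⟩ := (c.ζ_range _).1 h1
    have hx'f : x' = x * ζ f := by rw [hf]; group
    refine ⟨f, ?_, hx'f⟩
    have e1 := hconj x hxx
    have e2 := hconj x' hxx'
    rw [hx'f] at e2
    have hcf : ζ f * x⁻¹ = x⁻¹ * ζ f := comm_of_mem c (inv_mem hx) (ζ_mem c f)
    have e3 : x⁻¹ * (y * ζ f * y⁻¹) = x⁻¹ * ζ f := by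
      calc x⁻¹ * (y * ζ f * y⁻¹) = (y * x * y⁻¹) * (y * ζ f * y⁻¹) := by rw [e1]
        _ = y * (x * ζ f) * y⁻¹ := by group
        _ = (x * ζ f)⁻¹ := e2
        _ = ζ f * x⁻¹ := by rw [mul_inv_rev, ζ_inv c]
        _ = x⁻¹ * ζ f := hcf
    have e4 := mul_left_cancel e3
    rw [mem_SS]
    show ζ f * y = y * ζ f
    rw [mul_inv_eq_iff_eq_mul] at e4
    exact e4.symm

/-- orbits of `C(Y)` on `N(Y) \ Y` have length divisible by 8 -/
theorem eight_dvd_orbit {y : G} (hyn : y ∈ nor Y) (hyY : y ∉ Y) :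
    8 ∣ Nat.card {y' : G // ∃ h ∈ centralizer (Y : Set G), h * y * h⁻¹ = y'} := by
  have h1 := card_conj_mul (centralizer (Y : Set G)) y
  rw [card_cent c] at h1
  have h8 : 8 ≤ Nat.card {y' : G // ∃ h ∈ centralizer (Y : Set G), h * y * h⁻¹ = y'} := by
    by_cases hy : y ∈ centralizer (Y : Set G)
    · -- the orbit contains `y ζ(f)`
      rw [← R.cardF]
      have hπ : π y ≠ 0 := fun h => hyY ((c.π_ker y hy).1 h)
      have hex : ∀ f : F, ∃ h ∈ centralizer (Y : Set G), h * y * h⁻¹ = y * ζ f := by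
        intro f
        obtain ⟨w, hw⟩ := R.q1 (π y) hπ f
        obtain ⟨x, hx, rfl⟩ := c.π_surj w
        refine ⟨x⁻¹, inv_mem hx, ?_⟩
        have h2 := c.comm y hy x hx
        rw [hw] at h2
        have h3 := c.comm x hx y hy
        rw [R.b_symm, hw] at h3
        -- `x⁻¹ y x = y (y⁻¹ x⁻¹ y x)`
        calc x⁻¹ * y * x⁻¹⁻¹ = y * (y⁻¹ * x⁻¹ * y * x) := by group
          _ = y * ζ f := by rw [h2]
      choose g hg hgf using hex
      refine Nat.card_le_card_of_injective
        (fun f : F => (⟨y * ζ f, g f, hg f, hgf f⟩ :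
          {y' : G // ∃ h ∈ centralizer (Y : Set G), h * y * h⁻¹ = y'})) ?_
      intro f f' h
      exact c.ζ_inj (mul_left_cancel (congrArg Subtype.val h))
    · have h2 := card_cent_le c hyn hy
      nlinarith
  have hdvd : Nat.card {y' : G // ∃ h ∈ centralizer (Y : Set G), h * y * h⁻¹ = y'} ∣ 2 ^ 11 := ⟨_, h1.symm⟩
  obtain ⟨k, hk, hk2⟩ := (Nat.dvd_prime_pow Nat.prime_two).1 hdvd
  rw [hk2] at h8 ⊢
  have : 3 ≤ k := by
    by_contra hcon
    have : k = 0 ∨ k = 1 ∨ k = 2 := by omega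
    rcases this with rfl | rfl | rfl <;> norm_num at h8
  exact pow_dvd_pow 2 this

/-- a `C(Y)`-invariant subset of `N(Y) \ Y` has cardinality divisible by 8 -/
theorem eight_dvd {S : Set G} (hS : ∀ y ∈ S, y ∈ nor Y ∧ y ∉ Y)
    (hinv : ∀ y ∈ S, ∀ h ∈ centralizer (Y : Set G), h * y * h⁻¹ ∈ S) : 8 ∣ Nat.card S := by
  classical
  set Q : Subgroup G := centralizer (Y : Set G) with hQ
  letI act : MulAction Q S :=
    { smul := fun h g => ⟨(h : G) * g.1 * (h : G)⁻¹, hinv _ g.2 _ h.2⟩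
      one_smul := fun b => Subtype.ext (by
        show ((1 : Q) : G) * b.1 * ((1 : Q) : G)⁻¹ = b.1
        simp)
      mul_smul := fun x y b => Subtype.ext (by
        show ((x * y : Q) : G) * b.1 * ((x * y : Q) : G)⁻¹ = x * (y * b.1 * (y : G)⁻¹) * (x : G)⁻¹
        simp [mul_assoc]) }
  have hs : ∀ (h : Q) (g : S), ((h • g : S) : G) = (h : G) * g.1 * (h : G)⁻¹ := fun _ _ => rfl
  have h1 := Nat.card_congr (MulAction.selfEquivSigmaOrbits Q S)
  rw [h1]
  haveI : Fintype (MulAction.orbitRel.Quotient Q S) := Fintype.ofFinite _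
  rw [Nat.card_sigma]
  refine Finset.dvd_sum ?_
  intro ω _
  have h2 := eight_dvd_orbit c (hS _ (ω.out).2).1 (hS _ (ω.out).2).2
  have e1 : Nat.card {y' : G // ∃ h ∈ Q, h * (ω.out).1 * h⁻¹ = y'} = Nat.card (MulAction.orbit Q (ω.out)) := by
    apply Nat.card_congr
    refine Equiv.ofBijective (fun y => ⟨⟨y.1, ?_⟩, ?_⟩) ⟨?_, ?_⟩
    · obtain ⟨h, hh, e⟩ := y.2
      rw [← e]
      exact hinv _ (ω.out).2 h hh
    · obtain ⟨h, hh, e⟩ := y.2
      exact ⟨⟨h, hh⟩, Subtype.ext e⟩
    · intro x y h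
      apply Subtype.ext
      have := congrArg (fun z => ((z.1 : S) : G)) h
      exact this
    · rintro ⟨⟨y, hy⟩, h⟩
      obtain ⟨x, hx⟩ := h
      refine ⟨⟨y, x, x.2, ?_⟩, rfl⟩
      have := congrArg Subtype.val hx
      exact this
  rw [← e1]
  exact h2

end abstract

theorem card_invol : ((Finset.range 512).filter fun p => GLThree.cp p p = 273 ∧ p ≠ 273).card = 21 := by
  decide +kernel

theorem cod_id : cod id = 273 := by decide +kernel

section

variable {G : Type*} [Group G] [Finite G] {C : Core G}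
variable {W F : Type} [AddCommGroup W] [AddCommGroup F] {R : RuForm W F} {𝒵 : Set (Subgroup G)}
variable (L : LocalData (DV C) 𝒵 R) (hZ : Zs C ∈ 𝒵)
include L hZ

theorem eight_dvd_X : 8 ∣ Nat.card {y : G // X C y} := by
  obtain ⟨π, ζ, c⟩ := L.coord _ hZ
  refine eight_dvd c (S := {y | X C y}) (fun y hy => hy.2) ?_
  rintro y ⟨h1, h2, h3⟩ h hh
  have hn : h ∈ nor (Zs C) := cent_le_nor _ hh
  refine ⟨h1.conj h, mul_mem (mul_mem hn h2) (inv_mem hn), ?_⟩
  intro h4
  apply h3
  have := conj_inv_mem_of_mem_nor hn h4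
  have e : h⁻¹ * (h * y * h⁻¹) * h = y := by group
  rwa [e] at this

theorem card_X_le : Nat.card {y : G // X C y} ≤ 3384 := by
  classical
  obtain ⟨π, ζ, c⟩ := L.coord _ hZ
  choose! r hr using fun (g : G) (hg : g ∈ nor (Zs C)) => exists_ind hg
  -- the two parts
  have h1 : Nat.card {y : G // X C y ∧ y ∈ centralizer (Zs C : Set G)} ≤ 2040 := by
    have h2 : Nat.card {y : G // y ∈ centralizer (Zs C : Set G) ∧ y ∉ Zs C} = 2040 := by
      have h3 := card_cent c
      have h4 := card_Y c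
      have h5 : Nat.card {y : G // y ∈ centralizer (Zs C : Set G)} =
          Nat.card {y : G // y ∈ Zs C} + Nat.card {y : G // y ∈ centralizer (Zs C : Set G) ∧ y ∉ Zs C} := by
        rw [← Nat.card_sum]
        exact Nat.card_congr
          { toFun := fun l => if h : l.1 ∈ Zs C then Sum.inl ⟨l.1, h⟩ else Sum.inr ⟨l.1, l.2, h⟩
            invFun := fun s => Sum.elim (fun l => ⟨l.1, c.le_cent l.2⟩) (fun l => ⟨l.1, l.2.1⟩) s
            left_inv := fun l => by
              by_cases h : l.1 ∈ Zs C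
              · simp [h]
              · simp [h]
            right_inv := fun s => by
              rcases s with ⟨l, h⟩ | ⟨l, h1, h2⟩
              · simp [h]
              · simp [h2] }
      have h6 : Nat.card {y : G // y ∈ centralizer (Zs C : Set G)} = 2 ^ 11 := h3
      have h7 : Nat.card {y : G // y ∈ Zs C} = 8 := h4
      omega
    rw [← h2]
    exact Nat.card_le_card_of_injective
      (fun y : {y : G // X C y ∧ y ∈ centralizer (Zs C : Set G)} =>
        (⟨y.1, y.2.2, y.2.1.2.2⟩ : {y : G // y ∈ centralizer (Zs C : Set G) ∧ y ∉ Zs C}))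
      (fun x y h => Subtype.ext (congrArg (fun z => z.1) h))
  have h2 : Nat.card {y : G // X C y ∧ y ∉ centralizer (Zs C : Set G)} ≤ 1344 := by
    haveI : Fintype {y : G // X C y ∧ y ∉ centralizer (Zs C : Set G)} := Fintype.ofFinite _
    have hmap : ∀ y : {y : G // X C y ∧ y ∉ centralizer (Zs C : Set G)}, cod (r y.1) ∈
        (Finset.range 512).filter fun p => GLThree.cp p p = 273 ∧ p ≠ 273 := by
      rintro ⟨y, hy, hyc⟩
      rw [Finset.mem_filter, Finset.mem_range]
      have hi := hr y hy.2.1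
      refine ⟨cod_lt _, ?_, ?_⟩
      · rw [← cod_comp hi.add]
        have h3 := hi.comp hi
        rw [hy.1.sq] at h3
        have h4 : Ind C (1 : G) id := ind_one_iff.2 (fun b => by rw [one_mul, mul_one])
        rw [h3.unique h4, cod_id]
      · intro h3
        apply hyc
        have hid : NormQ.Add (id : K8 → K8) := fun _ _ => rfl
        have h4 : r y = id := cod_inj hi.add hid (by rw [h3, cod_id])
        rw [h4] at hi
        rw [mem_centralizer_iff]
        rintro _ ⟨b, rfl⟩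
        exact (ind_one_iff.1 hi b).symm
    have h3 := Finset.card_le_mul_card_image_of_maps_to
      (s := (Finset.univ : Finset {y : G // X C y ∧ y ∉ centralizer (Zs C : Set G)}))
      (t := (Finset.range 512).filter fun p => GLThree.cp p p = 273 ∧ p ≠ 273)
      (f := fun y => cod (r y.1)) (fun y _ => hmap y) 64 ?_
    · rw [card_invol, Finset.card_univ, ← Nat.card_eq_fintype_card] at h3
      exact h3
    · intro p hp
      by_cases hne : ∃ y0 : {y : G // X C y ∧ y ∉ centralizer (Zs C : Set G)}, cod (r y0.1) = p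
      · obtain ⟨⟨y0, hy0, hy0c⟩, hp0⟩ := hne
        have hp0' : cod (r y0) = p := hp0
        have h4 := card_coset_le c hy0.2.1 hy0c hy0.1.sq
        rw [← Fintype.card_coe, ← Nat.card_eq_fintype_card]
        refine le_trans ?_ h4
        refine Nat.card_le_card_of_injective
          (fun y => (⟨y0⁻¹ * y.1.1, ?_, ?_⟩ : {x : G | x ∈ centralizer (Zs C : Set G) ∧ (y0 * x) * (y0 * x) = 1})) ?_
        · have hy2 := (Finset.mem_filter.1 y.2).2
          have hi := hr y.1.1 y.1.2.1.2.1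
          have hi0 := hr y0 hy0.2.1
          have h5 : r y.1.1 = r y0 := cod_inj hi.add hi0.add (by rw [hp0']; exact hy2)
          rw [mem_centralizer_iff]
          rintro _ ⟨b, rfl⟩
          have e1 := hi b
          have e2 := hi0 b
          rw [h5, ← e2] at e1
          calc C.z b * (y0⁻¹ * y.1.1) = y0⁻¹ * (y0 * C.z b * y0⁻¹) * y.1.1 := by group
            _ = y0⁻¹ * (y.1.1 * C.z b * (y.1.1)⁻¹) * y.1.1 := by rw [e1]
            _ = _ := by group
        · have e : y0 * (y0⁻¹ * y.1.1) = y.1.1 := by group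
          rw [e]
          exact y.1.2.1.1.sq
        · intro x y h
          have h6 : y0⁻¹ * x.1.1 = y0⁻¹ * y.1.1 := congrArg (fun z => z.1) h
          exact Subtype.ext (Subtype.ext (mul_left_cancel h6))
      · push Not at hne
        have : (Finset.univ.filter fun y : {y : G // X C y ∧ y ∉ centralizer (Zs C : Set G)} => cod (r y.1) = p) = ∅ := by
          rw [Finset.filter_eq_empty_iff]
          intro y _
          exact hne y
        rw [this]
        simp
  have h3 : Nat.card {y : G // X C y} = Nat.card {y : G // X C y ∧ y ∈ centralizer (Zs C : Set G)} +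
      Nat.card {y : G // X C y ∧ y ∉ centralizer (Zs C : Set G)} := by
    rw [← Nat.card_sum]
    exact Nat.card_congr
      { toFun := fun l => if h : l.1 ∈ centralizer (Zs C : Set G) then Sum.inl ⟨l.1, l.2, h⟩ else Sum.inr ⟨l.1, l.2, h⟩
        invFun := fun s => Sum.elim (fun l => ⟨l.1, l.2.1⟩) (fun l => ⟨l.1, l.2.1⟩) s
        left_inv := fun l => by
          by_cases h : l.1 ∈ centralizer (Zs C : Set G)
          · simp [h]
          · simp [h]
        right_inv := fun s => by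
          rcases s with ⟨l, h1, h2⟩ | ⟨l, h1, h2⟩
          · simp [h2]
          · simp [h2] }
  omega

end

end Cfsg.Agent.Ru127.XiOne
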