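import Cfsg.Agent.Ru127.Sigma
import Cfsg.Agent.J2Type.A5More
import Cfsg.Agent.RuB.Local
import Cfsg.Agent.RuB.QSyl

/-!
# The involution `y` centralising `5 : 4`

`exists_letters` : elements `σ`, `y` for every finite `Core` with the relation between `s` and `w`.
-/

set_option autoImplicit false

namespace Cfsg.Agent.Ru127.Sg

open Subgroup Cfsg.Agent.RuB Cfsg.Agent.RuB.Core Cfsg.Agent.RuB.NormZ Cfsg.Agent.RuB.NormQ Cfsg.Agent.RuB.Count
open Cfsg.Agent.Ru127.Form Cfsg.Agent.Ru127.Basic Cfsg.Agent.Ru127.Count Cfsg.Agent.Ru127.NorD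
open Cfsg.Agent.Ru127.FixD Cfsg.Agent.Ru127.XiOne Cfsg.Agent.Ru127.Xi Cfsg.Agent.Ru127.CardD
open Cfsg.Agent.Ru127.Five Cfsg.Agent.J2Type

/-- the element `y` -/
structure IsY {G : Type*} [Group G] (C : Core G) (σ y : G) : Prop where
  sq : y * y = 1
  sig : y * σ * y * σ = 1
  tv : C.v (1, 0) * y * C.v (1, 0) * y * C.v (1, 0) * y = 1
  s : y * s C = s C * y
  w : y * w C = w C * y
  f : y * f C = f C * y
  D : y ∈ DV C
  /-- `Z ^ y ≤ Q` -/
  Q : ∀ b, y * C.z b * y⁻¹ ∈ C.QQ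
  /-- `Z ∩ Z ^ y = ⟨z⟩` -/
  inter : ∀ b c, y * C.z b * y⁻¹ = C.z c → b = 0 ∨ b = 1
  nor : ∀ b c, b ≠ 0 → b ≠ 1 → y * C.z b * y⁻¹ ≠ C.z c

section A5

variable {K : Type*} [Group K]

theorem exists_a' (e : K ≃* alternatingGroup (Fin 5)) {v x : K} (hv : v * v = 1) (hv1 : v ≠ 1) (hx : x ^ 3 = 1)
    (hx1 : x ≠ 1) (hvx : (v * x) ^ 3 = 1) : ∃ a : K, a * a = 1 ∧ a ≠ 1 ∧ (x * a) ^ 2 = 1 ∧ (v * a) ^ 3 = 1 := by
  obtain ⟨a, h1, h2, h3, h4, -, -⟩ := A5More.exists_a (e v) (e x) (by rw [← map_mul, hv, map_one])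
    (by rwa [ne_eq, map_eq_one_iff _ e.injective]) (by rw [← map_pow, hx, map_one])
    (by rwa [ne_eq, map_eq_one_iff _ e.injective]) (by rw [← map_mul, ← map_pow, hvx, map_one])
  refine ⟨e.symm a, ?_, ?_, ?_, ?_⟩
  · rw [← map_mul, h1, map_one]
  · rwa [ne_eq, map_eq_one_iff _ e.symm.injective]
  · apply e.injective
    rw [map_pow, map_mul, MulEquiv.apply_symm_apply, h3, map_one]
  · apply e.injective
    rw [map_pow, map_mul, MulEquiv.apply_symm_apply, h4, map_one]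

theorem unique_a' (e : K ≃* alternatingGroup (Fin 5)) {v x a b : K} (hv : v * v = 1) (hv1 : v ≠ 1) (hx : x ^ 3 = 1)
    (hx1 : x ≠ 1) (hvx : (v * x) ^ 3 = 1) (ha : a * a = 1) (ha1 : a ≠ 1) (hxa : (x * a) ^ 2 = 1)
    (hva : (v * a) ^ 3 = 1) (hb : b * b = 1) (hb1 : b ≠ 1) (hxb : (x * b) ^ 2 = 1) (hvb : (v * b) ^ 3 = 1) : b = a := by
  apply e.injective
  refine A5More.unique_a (e v) (e x) (by rw [← map_mul, hv, map_one])
    (by rwa [ne_eq, map_eq_one_iff _ e.injective]) (by rw [← map_pow, hx, map_one])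
    (by rwa [ne_eq, map_eq_one_iff _ e.injective]) (by rw [← map_mul, ← map_pow, hvx, map_one]) (e a) ?_ ?_ ?_ ?_
    (e b) ?_ ?_ ?_ ?_
  · rw [← map_mul, ha, map_one]
  · rwa [ne_eq, map_eq_one_iff _ e.injective]
  · rw [← map_mul, ← map_pow, hxa, map_one]
  · rw [← map_mul, ← map_pow, hva, map_one]
  · rw [← map_mul, hb, map_one]
  · rwa [ne_eq, map_eq_one_iff _ e.injective]
  · rw [← map_mul, ← map_pow, hxb, map_one]
  · rw [← map_mul, ← map_pow, hvb, map_one]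

end A5

variable {G : Type*} [Group G] {C : Core G}

/-- `(v σ) ^ 3 = 1` -/
theorem IsSigma.tv {σ : G} (h : IsSigma C σ) : (C.v (1, 0) * σ) ^ 3 = 1 := by
  have e1 : (C.v (1, 0) * σ) ^ 3 = C.v (1, 0) * (σ * C.v (1, 0) * σ⁻¹) * (σ * (σ * C.v (1, 0) * σ⁻¹) * σ⁻¹) *
      (σ * σ * σ) := by
    simp only [pow_succ, pow_zero, one_mul]
    group
  rw [e1, h.cube, mul_one, h.v, h.v, ← C.v_add, ← C.v_add]
  have : ((1, 0) : A4) + rho (1, 0) + rho (rho (1, 0)) = 0 := by decide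
  rw [this, C.v_zero]

variable [Finite G]

/-- two elements of order dividing 2 commuting with `f` and equal modulo `⟨f⟩` are equal -/
theorem eq_of_sq (hr : Rel C) {a b : G} (ha : a * a = 1) (hb : b * b = 1) (haf : a * f C = f C * a)
    {i : ℤ} (h : b = a * (f C) ^ i) : b = a := by
  have hc : a * (f C) ^ i = (f C) ^ i * a := ((show Commute a (f C) from haf).zpow_right i).eq
  have h2 : (f C) ^ (2 * i) = 1 := by
    rw [two_mul, zpow_add]
    calc (f C) ^ i * (f C) ^ i = (a * a) * ((f C) ^ i * (f C) ^ i) := by rw [ha, one_mul]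
      _ = a * (a * (f C) ^ i) * (f C) ^ i := by group
      _ = a * ((f C) ^ i * a) * (f C) ^ i := by rw [hc]
      _ = b * b := by rw [h]; group
      _ = 1 := hb
  rw [h, zpow_two' hr h2, mul_one]

/-- existence of `y`, first part -/
theorem exists_y (hr : Rel C) (h60 : Nat.card (K (f C)) = 60) {σ : G} (hσ : IsSigma C σ) :
    ∃ y : G, y * y = 1 ∧ y ≠ 1 ∧ y * σ * y * σ = 1 ∧
      C.v (1, 0) * y * C.v (1, 0) * y * C.v (1, 0) * y = 1 ∧ y * s C = s C * y ∧ y * w C = w C * y ∧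
      y * f C = f C * y := by
  have H : Good C (f C) := good_of f_mem (Or.inl (order_f hr))
  obtain ⟨e⟩ := H.hyp.equiv_of_card_60 h60
  have hσM : σ ∈ M (f C) := mem_M.2 hσ.f
  set x : K (f C) := QuotientGroup.mk (⟨σ, hσM⟩ : M (f C)) with hx
  set v : K (f C) := QuotientGroup.mk (H.vM (1, 0)) with hv
  have hvv : v * v = 1 := by
    rw [hv, ← QuotientGroup.mk_mul, ← QuotientGroup.mk_one]
    congr 1
    exact Subtype.ext (C.v_sq _)
  have hv1 : v ≠ 1 := by
    intro h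
    have h4 : (QuotientGroup.mk (H.vM (1, 0)) : K (f C)) = QuotientGroup.mk (H.vM 0) := by
      rw [← hv, h, ← QuotientGroup.mk_one]
      congr 1
      exact Subtype.ext C.v_zero.symm
    exact absurd (H.vM_inj h4) (by decide)
  have hx3 : x ^ 3 = 1 := by
    rw [hx, ← QuotientGroup.mk_pow, ← QuotientGroup.mk_one]
    congr 1
    apply Subtype.ext
    show σ ^ 3 = 1
    rw [pow_succ, pow_two, hσ.cube]
  have hx1 : x ≠ 1 := by
    intro h
    rw [hx, ← QuotientGroup.mk_one] at h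
    obtain ⟨i, hi⟩ := Good.mk_eq_iff.1 h.symm
    have hi' : σ = 1 * (f C) ^ i := hi
    rw [one_mul] at hi'
    have h2 := hσ.v (1, 0)
    rw [hi', ← H.vxi, mul_inv_cancel_right] at h2
    exact absurd (C.v_inj h2) (by decide)
  have hvx : (v * x) ^ 3 = 1 := by
    rw [hx, hv, ← QuotientGroup.mk_mul, ← QuotientGroup.mk_pow, ← QuotientGroup.mk_one]
    congr 1
    exact Subtype.ext hσ.tv
  obtain ⟨a, ha, ha1, hxa, hva⟩ := exists_a' e hvv hv1 hx3 hx1 hvx
  -- lift `a` to an involution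
  obtain ⟨y, hy1, hyy, hyf, hya⟩ : ∃ y : G, y ≠ 1 ∧ y * y = 1 ∧ ∃ hyf : y * f C = f C * y,
      (QuotientGroup.mk (⟨y, mem_M.2 hyf⟩ : M (f C)) : K (f C)) = a := by
    obtain ⟨g, hg⟩ := QuotientGroup.mk_surjective a
    rw [← hg, ← QuotientGroup.mk_mul, ← QuotientGroup.mk_one] at ha
    obtain ⟨i, hi⟩ := Good.mk_eq_iff.mp ha.symm
    have hi' : (g : G) * g = 1 * (f C) ^ i := hi
    rw [one_mul] at hi'
    have hg' : Commute (g : G) (f C) := mem_M.mp g.2
    have h5 : (f C) ^ (5 : ℤ) = 1 := by exact_mod_cast f_pow_five hr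
    -- `y = g f^(2 i)`
    have hc := (hg'.zpow_right (2 * i)).eq
    have hss : ((g : G) * (f C) ^ (2 * i)) * ((g : G) * (f C) ^ (2 * i)) = 1 := by
      calc (g : G) * (f C) ^ (2 * i) * ((g : G) * (f C) ^ (2 * i))
          = (g : G) * ((f C) ^ (2 * i) * g) * (f C) ^ (2 * i) := by group
        _ = (g : G) * (g * (f C) ^ (2 * i)) * (f C) ^ (2 * i) := by rw [hc]
        _ = (g * g) * ((f C) ^ (2 * i) * (f C) ^ (2 * i)) := by group
        _ = (f C) ^ (5 * i) := by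
          rw [hi', ← zpow_add, ← zpow_add]
          congr 1
          ring
        _ = 1 := by rw [zpow_mul, h5, one_zpow]
    have hyf : (g : G) * (f C) ^ (2 * i) * f C = f C * ((g : G) * (f C) ^ (2 * i)) :=
      (hg'.mul_left (Commute.zpow_self (f C) (2 * i))).eq
    have hmk : (QuotientGroup.mk (⟨(g : G) * (f C) ^ (2 * i), mem_M.2 hyf⟩ : M (f C)) : K (f C)) = a := by
      rw [← hg]
      symm
      exact Good.mk_eq_iff.mpr ⟨2 * i, rfl⟩
    refine ⟨(g : G) * (f C) ^ (2 * i), ?_, hss, hyf, hmk⟩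
    intro h
    apply ha1
    rw [← hmk, ← QuotientGroup.mk_one]
    congr 1
    exact Subtype.ext h
  have hyi : y⁻¹ = y := inv_eq_of_mul_eq_one_left hyy
  have hσi : σ⁻¹ = σ * σ := inv_eq_of_mul_eq_one_left hσ.cube
  -- `(σ y)^2 = 1`
  have hsig : y * σ * y * σ = 1 := by
    rw [← hya, hx, ← QuotientGroup.mk_mul, ← QuotientGroup.mk_pow, ← QuotientGroup.mk_one] at hxa
    obtain ⟨i, hi⟩ := Good.mk_eq_iff.mp hxa.symm
    have hi' : (σ * y) ^ 2 = 1 * (f C) ^ i := hi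
    rw [one_mul] at hi'
    -- `y σ y = σ⁻¹ f^i`
    have h1 : y * σ * y = σ⁻¹ * (f C) ^ i := by
      rw [← hi', pow_two]; group
    have hσc : Commute σ⁻¹ ((f C) ^ i) := (show Commute σ (f C) from hσ.f).inv_left.zpow_right i
    have h2 : (y * σ * y) ^ 3 = 1 := by
      have : y * σ * y = y * σ * y⁻¹ := by rw [hyi]
      rw [this, conj_pow, pow_succ, pow_two, hσ.cube]
      group
    rw [h1, hσc.mul_pow] at h2
    have h3 : σ⁻¹ ^ 3 = 1 := by
      rw [inv_pow, pow_succ, pow_two, hσ.cube, inv_one]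
    rw [h3, one_mul, ← zpow_natCast, ← zpow_mul] at h2
    have h4 := zpow_three hr (i := i) (by rw [mul_comm]; exact h2)
    rw [h4, mul_one] at h1
    rw [h1, inv_mul_cancel]
  have htv : C.v (1, 0) * y * C.v (1, 0) * y * C.v (1, 0) * y = 1 := by
    rw [← hya, hv, ← QuotientGroup.mk_mul, ← QuotientGroup.mk_pow, ← QuotientGroup.mk_one] at hva
    obtain ⟨i, hi⟩ := Good.mk_eq_iff.mp hva.symm
    have hi' : (C.v (1, 0) * y) ^ 3 = 1 * (f C) ^ i := hi
    rw [one_mul] at hi'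
    -- conjugate by `v`
    set t := C.v (1, 0) with ht
    have hti : t⁻¹ = t := C.v_inv _
    have htf : t * (f C) ^ i = (f C) ^ i * t := H.vxi _ i
    have hyfi : y * (f C) ^ i = (f C) ^ i * y := ((show Commute y (f C) from hyf).zpow_right i).eq
    have e0 : t * y * t * y * t * y = (f C) ^ i := by
      rw [← hi']; simp only [pow_succ, pow_zero, one_mul, mul_assoc]
    -- inverse of `(t y)^3` is `(y t)^3 = t (t y)^3 t`
    have e1 : (f C) ^ i * (f C) ^ i = 1 := by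
      have e2 : (t * y * t * y * t * y)⁻¹ = t * (t * y * t * y * t * y) * t⁻¹ := by
        rw [eq_comm, mul_inv_eq_iff_eq_mul, eq_comm]
        have : (t * y * t * y * t * y)⁻¹ = y⁻¹ * t⁻¹ * y⁻¹ * t⁻¹ * y⁻¹ * t⁻¹ := by group
        rw [this, hyi, hti]
        have htt : t * t = 1 := C.v_sq _
        calc y * t * y * t * y * t * t = y * t * y * t * y * (t * t) := by group
          _ = (t * t) * (y * t * y * t * y) := by rw [htt, mul_one, one_mul]
          _ = t * (t * y * t * y * t * y) := by group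
      rw [e0] at e2
      rw [htf, mul_inv_cancel_right] at e2
      nth_rw 1 [← e2]
      rw [inv_mul_cancel]
    have e3 := zpow_two' hr (i := i) (by rw [two_mul, zpow_add]; exact e1)
    rw [e0, e3]
  -- commutation with an element `g` normalising `⟨f⟩` and commuting with `σ`, `v`
  have hcomm : ∀ g : G, g * σ = σ * g → g * C.v (1, 0) = C.v (1, 0) * g → (∃ j : ℤ, g⁻¹ * f C * g = (f C) ^ j) →
      y * g = g * y := by
    rintro g hgσ hgv ⟨j, hj⟩
    have hyf' : (g * y * g⁻¹) * f C = f C * (g * y * g⁻¹) := by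
      have hyfj : y * (f C) ^ j = (f C) ^ j * y := ((show Commute y (f C) from hyf).zpow_right j).eq
      calc (g * y * g⁻¹) * f C = g * (y * (g⁻¹ * f C * g)) * g⁻¹ := by group
        _ = g * (g⁻¹ * f C * g * y) * g⁻¹ := by rw [hj, hyfj]
        _ = _ := by group
    have hy' : (g * y * g⁻¹) * (g * y * g⁻¹) = 1 := by
      calc (g * y * g⁻¹) * (g * y * g⁻¹) = g * (y * y) * g⁻¹ := by group
        _ = 1 := by rw [hyy]; group
    set b : K (f C) := QuotientGroup.mk (⟨g * y * g⁻¹, mem_M.2 hyf'⟩ : M (f C)) with hb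
    have hbb : b * b = 1 := by
      rw [hb, ← QuotientGroup.mk_mul, ← QuotientGroup.mk_one]
      congr 1
      exact Subtype.ext hy'
    have hb1 : b ≠ 1 := by
      intro h
      rw [hb, ← QuotientGroup.mk_one] at h
      obtain ⟨i, hi⟩ := Good.mk_eq_iff.1 h.symm
      have hi' : g * y * g⁻¹ = 1 * (f C) ^ i := hi
      have h7 := eq_of_sq hr (a := 1) (b := g * y * g⁻¹) (by rw [one_mul]) hy' (by rw [one_mul, mul_one]) hi'
      apply hy1
      calc y = g⁻¹ * (g * y * g⁻¹) * g := by group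
        _ = 1 := by rw [h7]; group
    have hxb : (x * b) ^ 2 = 1 := by
      rw [hx, hb, ← QuotientGroup.mk_mul, ← QuotientGroup.mk_pow, ← QuotientGroup.mk_one]
      congr 1
      apply Subtype.ext
      show (σ * (g * y * g⁻¹)) ^ 2 = 1
      rw [pow_two]
      have hgσ' : g⁻¹ * σ = σ * g⁻¹ := by
        calc g⁻¹ * σ = g⁻¹ * (σ * g) * g⁻¹ := by group
          _ = g⁻¹ * (g * σ) * g⁻¹ := by rw [hgσ]
          _ = σ * g⁻¹ := by group
      calc σ * (g * y * g⁻¹) * (σ * (g * y * g⁻¹)) = (σ * g) * y * (g⁻¹ * σ) * g * y * g⁻¹ := by group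
        _ = (g * σ) * y * (σ * g⁻¹) * g * y * g⁻¹ := by rw [hgσ, hgσ']
        _ = g * σ * (y * σ * y * σ) * σ⁻¹ * g⁻¹ := by group
        _ = 1 := by rw [hsig]; group
    have hvb : (v * b) ^ 3 = 1 := by
      rw [hv, hb, ← QuotientGroup.mk_mul, ← QuotientGroup.mk_pow, ← QuotientGroup.mk_one]
      congr 1
      apply Subtype.ext
      show (C.v (1, 0) * (g * y * g⁻¹)) ^ 3 = 1
      have e1 : C.v (1, 0) * (g * y * g⁻¹) = g * (C.v (1, 0) * y) * g⁻¹ := by
        calc C.v (1, 0) * (g * y * g⁻¹) = (C.v (1, 0) * g) * y * g⁻¹ := by group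
          _ = (g * C.v (1, 0)) * y * g⁻¹ := by rw [hgv]
          _ = _ := by group
      rw [e1, conj_pow]
      have e2 : (C.v (1, 0) * y) ^ 3 = 1 := by
        rw [← htv]; simp only [pow_succ, pow_zero, one_mul, mul_assoc]
      rw [e2]; group
    have h8 := unique_a' e hvv hv1 hx3 hx1 hvx ha ha1 hxa hva hbb hb1 hxb hvb
    rw [hb, ← hya] at h8
    obtain ⟨i, hi⟩ := Good.mk_eq_iff.1 h8.symm
    have hi' : g * y * g⁻¹ = y * (f C) ^ i := hi
    have h9 := eq_of_sq hr hyy hy' hyf hi'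
    exact (mul_inv_eq_iff_eq_mul.1 h9).symm
  have h5 : f C ^ 5 = 1 := f_pow_five hr
  refine ⟨y, hyy, hy1, hsig, htv, ?_, ?_, hyf⟩
  · refine hcomm _ hσ.s.symm (C.v_comm _ _ s_mem).symm ⟨3, ?_⟩
    have h1 := s_conj_f hr
    have h2 : s C * (f C) ^ 3 * (s C)⁻¹ = f C := by
      calc s C * (f C) ^ 3 * (s C)⁻¹ = (s C * f C * (s C)⁻¹) ^ 3 := by rw [conj_pow]
        _ = f C ^ 5 * f C := by rw [h1]; simp only [pow_succ, pow_zero, one_mul, mul_assoc]
        _ = f C := by rw [h5, one_mul]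
    have h3 : (f C) ^ (3 : ℤ) = (f C) ^ 3 := by
      rw [show (3 : ℤ) = ((3 : ℕ) : ℤ) by norm_num, zpow_natCast]
    rw [h3]
    calc (s C)⁻¹ * f C * s C = (s C)⁻¹ * (s C * (f C) ^ 3 * (s C)⁻¹) * s C := by rw [h2]
      _ = (f C) ^ 3 := by group
  · refine hcomm _ hσ.w.symm (C.v_comm _ _ w_mem).symm ⟨-1, ?_⟩
    rw [w_inv, zpow_neg_one]
    unfold f
    rw [mul_inv_rev, w_inv, C.z_inv, mul_assoc, mul_assoc, w_sq, mul_one]

/-- `DV = DD` -/
theorem DV_eq : DV C = Local.DD C := by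
  ext x
  constructor
  · rintro ⟨h, a, ha, e⟩
    exact ⟨h, a, ha, e.symm⟩
  · rintro ⟨h, a, ha, e⟩
    exact ⟨h, a, ha, e.symm⟩

/-- the local data -/
theorem exists_localData (C : Core G) : ∃ K : Coord C, K.ν = ⟨5⟩ ∧ K.μ = ⟨7⟩ ∧
    LocalData (DV C) (Local.ZZ C) Inst.R8 ∧ ∀ g : G, (∀ b, g * C.z b = C.z b * g) → g ∈ C.QQ := by
  obtain ⟨K, hν, hμ, g, hg, ht⟩ := QSyl.exists_coord_norm C
  refine ⟨K, hν, hμ, ?_, Local.cent_le K hμ⟩
  rw [DV_eq]
  exact Local.localData' hν hμ hg ht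

/-- **Main theorem**: the letters `σ`, `y`. -/
theorem exists_letters (C : Core G) (hr : Rel C) : ∃ σ y : G, IsSigma C σ ∧ IsY C σ y := by
  obtain ⟨K, hν, hμ, L, hcz⟩ := exists_localData C
  have hZ : Zs C ∈ Local.ZZ C := Local.Zs_mem_ZZ
  have h60 := card_five L hZ hcz f_mem (order_f hr)
  obtain ⟨σ, hσ⟩ := exists_sigma hcz hr h60
  obtain ⟨y, h1, h2, h3, h4, h5, h6, h7⟩ := exists_y hr h60 hσ
  have H : Good C (f C) := good_of f_mem (Or.inl (order_f hr))
  have hD : y ∈ DV C := H.mem_DV h1 h2 h7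
  have hyi : y⁻¹ = y := inv_eq_of_mul_eq_one_left h1
  -- `y` commutes with `z 1`
  have hyz : Commute y (C.z 1) := by
    rw [← s_sq]
    exact (show Commute y (s C) from h5).mul_right h5
  have hz1 : C.z 1 ≠ 1 := fun h => one_ne_zero (C.z_eq_one h)
  have hmem : C.z 1 ∈ cj y (Zs C) := mem_cj_of_commute hyz (z_mem_Zs 1)
  have hcjZ : cj y (Zs C) ∈ Local.ZZ C := L.Z_conj _ hZ y
  have hne : Zs C ≠ cj y (Zs C) := by
    intro heq
    have hyn : y ∈ nor (Zs C) := heq.symm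
    have hyc := D_nor L hD hZ hyn
    obtain ⟨π, ζ, c⟩ := L.coord _ hZ
    have hvc : C.v (1, 0) ∈ centralizer (Zs C : Set G) := by
      rw [mem_centralizer_iff]
      rintro _ ⟨b, rfl⟩
      exact (C.v_z_comm _ b).symm
    -- `(v y)^4 = 1`
    have h8 : (C.v (1, 0) * y) * (C.v (1, 0) * y) ∈ Zs C := by
      rw [c.sq _ (mul_mem hvc hyc)]
      exact ζ_mem c _
    have h9 := sq_mem L hZ h8
    have h10 : C.v (1, 0) * y = 1 := by
      calc C.v (1, 0) * y = (C.v (1, 0) * y * C.v (1, 0) * y * C.v (1, 0) * y) * (C.v (1, 0) * y) := by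
            rw [h4, one_mul]
        _ = (C.v (1, 0) * y) * (C.v (1, 0) * y) * ((C.v (1, 0) * y) * (C.v (1, 0) * y)) := by
            simp only [mul_assoc]
        _ = 1 := h9
    have h11 : y = C.v (1, 0) := by
      have := eq_inv_of_mul_eq_one_right h10
      rw [this, C.v_inv]
    -- `y σ y σ = 1`
    rw [h11] at h3
    have h12 : C.v (1, 0) * (σ * C.v (1, 0) * σ⁻¹) * (σ * σ) = 1 := by
      calc C.v (1, 0) * (σ * C.v (1, 0) * σ⁻¹) * (σ * σ) = C.v (1, 0) * σ * C.v (1, 0) * σ := by group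
        _ = 1 := h3
    rw [hσ.v, ← C.v_add] at h12
    have h13 : σ = C.v ((1, 0) + rho (1, 0)) := by
      calc σ = C.v ((1, 0) + rho (1, 0)) * (σ * σ) * σ := by rw [h12, one_mul]
        _ = C.v ((1, 0) + rho (1, 0)) * (σ * σ * σ) := by group
        _ = _ := by rw [hσ.cube, mul_one]
    have h14 := hσ.v (1, 0)
    rw [h13, C.v_v_comm, mul_inv_cancel_right] at h14
    exact absurd (C.v_inj h14) (by decide)
  have hQ : ∀ b, y * C.z b * y⁻¹ ∈ C.QQ := by
    intro b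
    have h8 : y * C.z b * y⁻¹ ∈ cj y (Zs C) := by
      rw [mem_cj]
      have e : y⁻¹ * (y * C.z b * y⁻¹) * y = C.z b := by group
      rw [e]
      exact z_mem_Zs b
    have h9 := le_cent_of_ne L hz1 hcjZ hmem hZ (z_mem_Zs 1) hne.symm h8
    rw [mem_centralizer_iff] at h9
    exact hcz _ (fun c => (h9 _ (z_mem_Zs c)).symm)
  have hinter : ∀ b c, y * C.z b * y⁻¹ = C.z c → b = 0 ∨ b = 1 := by
    intro b c h
    have h8 : y * C.z b * y⁻¹ ∈ cj y (Zs C) := by
      rw [mem_cj]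
      have e : y⁻¹ * (y * C.z b * y⁻¹) * y = C.z b := by group
      rw [e]
      exact z_mem_Zs b
    have h9 : y * C.z b * y⁻¹ ∈ Zs C := ⟨c, h⟩
    rcases inf_eq L hz1 hZ (z_mem_Zs 1) hcjZ hmem hne h9 h8 with h10 | h10
    · left
      apply C.z_eq_one
      calc C.z b = y⁻¹ * (y * C.z b * y⁻¹) * y := by group
        _ = 1 := by rw [h10]; group
    · right
      apply C.z_inj
      calc C.z b = y⁻¹ * (y * C.z b * y⁻¹) * y := by group
        _ = y⁻¹ * (C.z 1 * y) := by rw [h10]; group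
        _ = y⁻¹ * (y * C.z 1) := by rw [hyz.eq]
        _ = C.z 1 := by group
  exact ⟨σ, y, hσ, h1, h3, h4, h5, h6, h7, hD, hQ, hinter, fun b c hb0 hb1 h => by
    rcases hinter b c h with h' | h'
    · exact hb0 h'
    · exact hb1 h'⟩

/-- `|C_G(z)| = 2 ^ 14 * 15` -/
theorem card_cent (C : Core G) : Nat.card (centralizer ({C.z 1} : Set G)) = 245760 := by
  obtain ⟨K, hν, hμ, L, hcz⟩ := exists_localData C
  have hZ : Zs C ∈ Local.ZZ C := Local.Zs_mem_ZZ
  have hz1 : C.z 1 ≠ 1 := fun h => one_ne_zero (C.z_eq_one h)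
  have h1 := card_cent_z L hz1 hZ (z_mem_Zs 1)
  rw [card_sig_eq L hZ hcz] at h1
  rw [h1]
  norm_num

end Cfsg.Agent.Ru127.Sg
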